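import Cfsg.Agent.Lib.A9Local22.Local
import Cfsg.Agent.Lib.Fusion.Thompson

/-!
# Two classes of involutions, and the first case

Owner: helper22.
-/

set_option autoImplicit false
set_option maxRecDepth 100000
set_option maxHeartbeats 1000000
set_option synthInstance.maxHeartbeats 400000
set_option synthInstance.maxSize 4000

namespace Cfsg.Agent.Lib.A9Local22

open Equiv Model Cfsg.Agent.Lib.A9Norm79 Subgroup

universe u

/-- A subgroup of a `p`-group containing its normaliser is everything. -/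
theorem eq_of_grow {G : Type u} [Group G] [Finite G] {p : ℕ} [Fact p.Prime] {P Q : Subgroup G}
    (hPQ : P ≤ Q) (hQ : IsPGroup p Q)
    (h : ∀ g ∈ Q, g ∈ normalizer (P : Set G) → g ∈ P) : P = Q := by
  by_contra hne
  have hlt : P.subgroupOf Q < ⊤ :=
    lt_of_le_of_ne le_top fun e => hne (le_antisymm hPQ (subgroupOf_eq_top.1 e))
  haveI := hQ.isNilpotent
  obtain ⟨g, hgn, hg⟩ := SetLike.exists_of_lt (Group.normalizerCondition_of_isNilpotent _ hlt)
  refine hg (mem_subgroupOf.2 (h g g.2 (mem_normalizer_iff.2 fun x => ?_)))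
  have hn := mem_normalizer_iff.1 hgn
  constructor
  · intro hx
    exact mem_subgroupOf.1 ((hn ⟨x, hPQ hx⟩).1 (mem_subgroupOf.2 hx))
  · intro hx
    have hxQ : x ∈ Q := by
      have h1 := mul_mem (mul_mem (inv_mem g.2) (hPQ hx)) g.2
      simpa [mul_assoc] using h1
    exact mem_subgroupOf.1 ((hn ⟨x, hxQ⟩).2 (mem_subgroupOf.2 hx))

namespace Model

theorem cent_ei_ed : ∀ x : L, x * ed = ed * x → x * ei = ei * x →
    ∃ i : Fin 3, x = ed ^ (i : ℕ) ∨ x = ed ^ (i : ℕ) * ei := by decide +kernel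

theorem ei_facts : ed * ei = ei * ed ∧ ei * ei = 1 ∧ ei = lJ * ew ∧ ed ≠ 1 ∧ ei ≠ 1 ∧ lJ ≠ ew := by
  decide +kernel

/-- `(3 4 7)`, a conjugate of `(3 4 5)`. -/
def e347 : L := mk 1 (swap 0 1 * swap 1 4)

theorem e347_conj : mk s3 (swap 2 4) * lb = e347 * mk s3 (swap 2 4) := by decide +kernel

/-- The Sylow two-subgroup of the first case. -/
def P0 : Subgroup L := centralizer {lJ, ew}

theorem mem_P0 {x : L} : x ∈ P0 ↔ x * lJ = lJ * x ∧ x * ew = ew * x := by
  rw [P0, mem_centralizer_iff]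
  simp only [Set.mem_insert_iff, Set.mem_singleton_iff, forall_eq_or_imp, forall_eq]
  exact ⟨fun h => ⟨h.1.symm, h.2.symm⟩, fun h => ⟨h.1.symm, h.2.symm⟩⟩

theorem card_P0 : Nat.card P0 = 16 := by
  rw [Nat.card_congr (Equiv.subtypeEquivRight fun x => mem_P0 (x := x)), Nat.card_eq_fintype_card]
  decide +kernel

/-- Its subgroup of index two. -/
def M0 : Subgroup L := P0 ⊓ ((MonoidHom.fst (Perm (Fin 3)) (Perm (Fin 6))).comp L.subtype).ker

theorem mem_M0 {x : L} : x ∈ M0 ↔ (x * lJ = lJ * x ∧ x * ew = ew * x) ∧ (x : PP).1 = 1 := by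
  rw [M0, mem_inf, mem_P0, MonoidHom.mem_ker]
  rfl

theorem card_M0 : Nat.card M0 = 8 := by
  rw [Nat.card_congr (Equiv.subtypeEquivRight fun x => mem_M0 (x := x)), Nat.card_eq_fintype_card]
  decide +kernel

theorem P0_invol : ∀ x : L, x * lJ = lJ * x → x * ew = ew * x → x * x = 1 → x ≠ 1 →
    (x = ei ∨ x = lJ * ew' ∨ x = lJ * (ew * ew')) ∨
    x * la = la * x ∨ x * lb = lb * x ∨ x * lc = lc * x ∨ x * e347 = e347 * x := by decide +kernel

theorem I3_facts : (∃ i j : Fin 3, lc ^ (i : ℕ) * ei = lJ * ew' * lc ^ (i : ℕ) ∧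
      lc ^ (j : ℕ) * ei = lJ * (ew * ew') * lc ^ (j : ℕ)) ∧
    l3 * ew = ew * l3 ∧ l3 * ew' = ew * ew' * l3 ∧ l3 * lJ = lJ * l3 ∧ lJ * ew' = ew' * lJ ∧
    ew ≠ ew' ∧ ew * ew' ≠ ew' ∧ ew * ew' ≠ ew := by decide +kernel

theorem cent_E0_P0 : ∀ x : L, x * ew = ew * x → x * ew' = ew' * x →
    (x * lJ * x⁻¹) * lJ = lJ * (x * lJ * x⁻¹) → x * lJ = lJ * x := by decide +kernel

theorem three_words : mk 1 (swap 2 3 * swap 3 4) * lc = ew ∧
    mk 1 (swap 1 2 * swap 2 4) * mk 1 (swap 2 4 * swap 4 5) = g1 ∧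
    mk 1 (swap 2 3 * swap 3 4) ^ 3 = 1 ∧ lc ^ 3 = 1 ∧ mk 1 (swap 1 2 * swap 2 4) ^ 3 = 1 ∧
    mk 1 (swap 2 4 * swap 4 5) ^ 3 = 1 := by decide +kernel

end Model

namespace Th

variable {G : Type u} [Group G] [Finite G] {C : Cfg G} (T : Th C)

theorem not_isConj_la_ed (j : ℕ) : ¬ IsConj (T.Θ la) (T.Θ (ed ^ j)) := by
  intro h
  have h3 : ed ^ 3 = 1 := by decide +kernel
  rw [← Nat.mod_add_div j 3, pow_add, pow_mul, h3, one_pow, mul_one] at h
  have hla : T.Θ la = C.j (1, 0, 0) := T.va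
  have hbc : ∀ i : Fin 3, i ≠ 0 → ∃ k : Fin 3 × Fin 3 × Fin 3, A9Norm79.Model.typ k = 2 ∧
      IsConj (T.Θ (ed ^ (i : ℕ))) (C.j k) := by
    intro i hi
    have key : ∀ i : Fin 3, i ≠ 0 → iota (((lb * lc) ^ (i : ℕ) : L) : PP) =
          A9Norm79.Model.el ((0, i, i), (0, 0)) ∧ A9Norm79.Model.typ (0, i, i) = 2 ∧
        eh * (lb * lc) ^ (i : ℕ) = ed ^ (i : ℕ) * eh := by decide +kernel
    obtain ⟨h1, h2, h3⟩ := key i hi
    refine ⟨_, h2, ?_⟩
    rw [show C.j (0, i, i) = T.Θ ((lb * lc) ^ (i : ℕ)) from (T.agree _ _ h1).symm]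
    exact (T.isConj_conj _ _ _ h3).symm
  set i : Fin 3 := ⟨j % 3, Nat.mod_lt _ (by norm_num)⟩
  by_cases hi : i = 0
  · rw [show j % 3 = 0 from congrArg Fin.val hi, pow_zero, map_one] at h
    have := isConj_one_left.1 h
    exact absurd (T.inj (this.trans (map_one T.Θ).symm)) (by decide +kernel)
  · obtain ⟨k, hk, hc⟩ := hbc i hi
    have h' := h.trans hc
    rw [hla, C.isConj_j_iff, hk] at h'
    exact absurd h' (by decide)

/-- Elements of order three commuting with `(0 1)(3 4)(5 6)(7 8)`. -/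
theorem three_of_comm_ei {x : G} (hx : x ^ 3 = 1) (hc : Commute x (T.Θ ei)) :
    ∃ j : ℕ, IsConj x (T.Θ (ed ^ j)) := by
  haveI : Fact (Nat.Prime 3) := ⟨Nat.prime_three⟩
  set X := centralizer ({T.Θ ei} : Set G)
  set D := zpowers (T.Θ ed)
  have hd3 : T.Θ ed ^ 3 = 1 := by rw [← map_pow]; exact (congrArg T.Θ (by decide +kernel)).trans (map_one T.Θ)
  have hDX : D ≤ X := zpowers_le.2 (mem_centralizer_singleton_iff.2 (by
    rw [← map_mul, ← map_mul, ei_facts.1]))
  have hDp : IsPGroup 3 (D.subgroupOf X) := IsPGroup.of_card (n := 1) (by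
    rw [Nat.card_congr (subgroupOfEquivOfLe hDX).toEquiv, Nat.card_zpowers, pow_one]
    exact orderOf_eq_prime hd3 fun h => ei_facts.2.2.2.1 (T.inj (h.trans (map_one T.Θ).symm)))
  obtain ⟨P, hP⟩ := hDp.exists_le_sylow
  have hPD : D.subgroupOf X = (P : Subgroup X) := by
    refine eq_of_grow hP P.isPGroup' fun g hgP hgn => ?_
    have hgd : ((g : X) : G) * T.Θ ed * ((g : X) : G)⁻¹ ∈ D := by
      exact mem_subgroupOf.1 ((mem_normalizer_iff.1 hgn ⟨T.Θ ed, hDX (mem_zpowers _)⟩).1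
        (mem_subgroupOf.2 (mem_zpowers _)))
    obtain ⟨n, hn⟩ := P.isPGroup' ⟨g, hgP⟩
    have hn' : (g : G) ^ 3 ^ n = 1 := congrArg (fun y : (P : Subgroup X) => ((y : X) : G)) hn
    obtain ⟨k, hk⟩ := mem_zpowers_iff.1 hgd
    have hpow : T.Θ ed ^ k = 1 ∨ T.Θ ed ^ k = T.Θ ed ∨ T.Θ ed ^ k = T.Θ ed * T.Θ ed := by
      have e : T.Θ ed ^ k = T.Θ ed ^ (k % 3) := by
        conv_lhs => rw [← Int.mul_ediv_add_emod k 3, zpow_add, zpow_mul]
        rw [show T.Θ ed ^ (3 : ℤ) = 1 by exact_mod_cast hd3, one_zpow, one_mul]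
      rcases (by omega : k % 3 = 0 ∨ k % 3 = 1 ∨ k % 3 = 2) with h | h | h <;> rw [e, h]
      · exact Or.inl (zpow_zero _)
      · exact Or.inr (Or.inl (zpow_one _))
      · exact Or.inr (Or.inr (zpow_two _))
    have hgcomm : (g : G) * T.Θ ed = T.Θ ed * (g : G) := by
      rcases hpow with h | h | h <;> rw [h] at hk
      · exact absurd (T.inj ((conj_eq_one_iff.1 hk.symm).trans (map_one T.Θ).symm)) ei_facts.2.2.2.1
      · exact mul_inv_eq_iff_eq_mul.1 hk.symm
      · exfalso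
        have hinv : ∀ m : ℕ, (g : G) ^ m * T.Θ ed * ((g : G) ^ m)⁻¹ =
            if Even m then T.Θ ed else T.Θ ed * T.Θ ed := by
          intro m
          induction m with
          | zero => simp
          | succ m ih =>
            rw [pow_succ', mul_inv_rev, show (g : G) * (g : G) ^ m * T.Θ ed * (((g : G) ^ m)⁻¹ * (g : G)⁻¹) =
              (g : G) * ((g : G) ^ m * T.Θ ed * ((g : G) ^ m)⁻¹) * (g : G)⁻¹ by group, ih]
            by_cases hm : Even m
            · rw [if_pos hm, if_neg (by simp [Nat.even_add_one, hm]), hk.symm]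
            · rw [if_neg hm, if_pos (by simp [Nat.even_add_one, hm]), ← conj_mul, ← hk,
                show T.Θ ed * T.Θ ed * (T.Θ ed * T.Θ ed) = T.Θ ed ^ 3 * T.Θ ed by
                  simp [pow_succ, mul_assoc], hd3, one_mul]
        have h1 := hinv (3 ^ n)
        rw [hn', one_mul, inv_one, mul_one, if_neg (by rw [Nat.even_pow]; simp +decide)] at h1
        exact ei_facts.2.2.2.1 (T.inj ((mul_eq_left.1 h1.symm).trans (map_one T.Θ).symm))
    obtain ⟨l, hl⟩ := T.mem_range_of_comm_d hgcomm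
    have hgi : T.Θ l * T.Θ ei = T.Θ ei * T.Θ l := by
      rw [hl]; exact mem_centralizer_singleton_iff.1 (g : X).2
    obtain ⟨i, hi | hi⟩ := cent_ei_ed l (T.inj (by rw [map_mul, map_mul, hl]; exact hgcomm))
      (T.inj (by rw [map_mul, map_mul]; exact hgi))
    · exact mem_subgroupOf.2 (by rw [← hl, hi, map_pow]; exact npow_mem_zpowers _ _)
    · exfalso
      have h2 : l ^ (3 ^ n) = 1 := T.inj (by rw [map_pow, hl, hn', map_one])
      rw [hi, (show Commute (ed ^ (i : ℕ)) ei from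
        (show Commute ed ei from ei_facts.1).pow_left _).mul_pow] at h2
      have h3 : ei ^ (3 ^ n) = ei := by
        obtain ⟨m, hm⟩ : Odd (3 ^ n) := Odd.pow (by decide)
        rw [hm, pow_succ, pow_mul, pow_two, ei_facts.2.1, one_pow, one_mul]
      rw [h3, ← pow_mul] at h2
      have h5 : (ed ^ ((i : ℕ) * 3 ^ n) * ei) ^ 3 = 1 := by rw [h2, one_pow]
      rw [(show Commute (ed ^ ((i : ℕ) * 3 ^ n)) ei from
        (show Commute ed ei from ei_facts.1).pow_left _).mul_pow, ← pow_mul, mul_comm _ 3, pow_mul,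
        show ed ^ 3 = 1 by decide +kernel, one_pow, one_mul] at h5
      exact ei_facts.2.2.2.2.1 (by rwa [pow_succ, pow_two, ei_facts.2.1, one_mul] at h5)
  have hxX : x ∈ X := mem_centralizer_singleton_iff.2 hc.eq
  have hZ : IsPGroup 3 (zpowers (⟨x, hxX⟩ : X)) := fun y => ⟨1, by
      obtain ⟨k, hk⟩ := mem_zpowers_iff.1 y.2
      refine Subtype.ext ?_
      rw [coe_pow, coe_one, ← hk, pow_one, ← zpow_natCast, ← zpow_mul, mul_comm, zpow_mul, zpow_natCast,
        show (⟨x, hxX⟩ : X) ^ 3 = 1 from Subtype.ext (by simpa using hx), one_zpow]⟩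
  obtain ⟨Q, hQ⟩ := hZ.exists_le_sylow
  obtain ⟨g, hg⟩ := MulAction.exists_smul_eq X Q P
  have hm : g * ⟨x, hxX⟩ * g⁻¹ ∈ (P : Subgroup X) := by
    rw [← hg, Sylow.coe_subgroup_smul]
    exact smul_mem_pointwise_smul _ (MulAut.conj g) _ (hQ (mem_zpowers _))
  rw [← hPD, mem_subgroupOf] at hm
  obtain ⟨k, hk⟩ := mem_zpowers_iff.1 hm
  refine ⟨(k % 3).toNat, isConj_iff.2 ⟨(g : G), ?_⟩⟩
  rw [map_pow, ← zpow_natCast, Int.toNat_of_nonneg (Int.emod_nonneg k (by norm_num))]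
  refine hk.symm.trans ?_
  conv_lhs => rw [← Int.mul_ediv_add_emod k 3, zpow_add, zpow_mul]
  rw [show T.Θ ed ^ (3 : ℤ) = 1 by exact_mod_cast hd3, one_zpow, one_mul]

/-- Nothing commuting with a conjugate of `(0 1 2)` is conjugate to `(0 1)(3 4)(5 6)(7 8)`. -/
theorem not_isConj_ei {z y : G} (hy : IsConj (T.Θ la) y) (hzy : Commute z y) :
    ¬ IsConj z (T.Θ ei) := by
  intro h
  obtain ⟨g, hg⟩ := isConj_iff.1 h
  have hy3 : y ^ 3 = 1 := by
    obtain ⟨c, rfl⟩ := isConj_iff.1 hy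
    rw [conj_pow, ← map_pow, show la ^ 3 = 1 by decide +kernel, map_one, mul_one, mul_inv_cancel]
  obtain ⟨j, hj⟩ := T.three_of_comm_ei (x := g * y * g⁻¹) (by rw [conj_pow, hy3, mul_one, mul_inv_cancel])
    (by rw [← hg]; exact Commute.conj_iff g |>.2 hzy.symm)
  exact T.not_isConj_la_ed j ((hy.trans (isConj_iff.2 ⟨g, rfl⟩)).trans hj)

theorem isConj_la_lb : IsConj (T.Θ la) (T.Θ lb) := by
  rw [T.va, T.agree wb lb iota_vals.2.1]
  exact (C.isConj_j_iff (1, 0, 0) (0, 1, 0)).2 (by decide)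

theorem isConj_la_lc : IsConj (T.Θ la) (T.Θ lc) := by
  rw [T.va, T.agree wc lc iota_vals.2.2.1]
  exact (C.isConj_j_iff (1, 0, 0) (0, 0, 1)).2 (by decide)

theorem not_ei_of_comm {x k : L} (hk : IsConj (T.Θ la) (T.Θ k)) (h : x * k = k * x) :
    ¬ IsConj (T.Θ x) (T.Θ ei) :=
  T.not_isConj_ei hk ((show Commute x k from h).map T.Θ)

theorem not_ei_ew : ¬ IsConj (T.Θ ew) (T.Θ ei) :=
  T.not_ei_of_comm (IsConj.refl _) E_facts.1.symm

theorem isConj_la_e347 : IsConj (T.Θ la) (T.Θ e347) :=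
  T.isConj_la_lb.trans (T.isConj_conj _ _ _ e347_conj)

/-- In the first case there is a subgroup of index two avoiding an element of `[G, G]`. -/
theorem false_of_small (h : ∀ g ∈ T.XX E0, g ∈ T.Θ.range) : False := by
  classical
  haveI : Fact (Nat.Prime 2) := ⟨Nat.prime_two⟩
  obtain ⟨⟨i1, i2, hi1, hi2⟩, hl3w, hl3w', hl3J, hJw', hne1, hne2, hne3⟩ := I3_facts
  set P := P0.map T.Θ
  have hPcard : Nat.card P = 16 := by rw [card_map_of_injective T.inj, card_P0]
  obtain ⟨S, hS⟩ := (IsPGroup.of_card (n := 4) (by rw [hPcard]; norm_num) : IsPGroup 2 P).exists_le_sylow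
  set I3 : L → Prop := fun x => x = ei ∨ x = lJ * ew' ∨ x = lJ * (ew * ew')
  have hconj : ∀ x, I3 x → IsConj (T.Θ x) (T.Θ ei) := by
    rintro x (rfl | rfl | rfl)
    · exact IsConj.refl _
    · exact (T.isConj_conj _ _ _ hi1).symm
    · exact (T.isConj_conj _ _ _ hi2).symm
  have hchar : ∀ x ∈ P0, x * x = 1 → IsConj (T.Θ x) (T.Θ ei) → I3 x := by
    intro x hx hxx hxc
    have hx1 : x ≠ 1 := fun e => by
      rw [e, map_one] at hxc
      exact ei_facts.2.2.2.2.1 (T.inj ((isConj_one_right.1 hxc).trans (map_one T.Θ).symm))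
    obtain ⟨hxJ, hxw⟩ := mem_P0.1 hx
    rcases P0_invol x hxJ hxw hxx hx1 with h | h | h | h | h
    · exact h
    · exact absurd hxc (T.not_ei_of_comm (IsConj.refl _) h)
    · exact absurd hxc (T.not_ei_of_comm T.isConj_la_lb h)
    · exact absurd hxc (T.not_ei_of_comm T.isConj_la_lc h)
    · exact absurd hxc (T.not_ei_of_comm T.isConj_la_e347 h)
  have hI3P : ∀ x, I3 x → x ∈ P0 ∧ x * x = 1 := by
    simp only [mem_P0]; rintro x (rfl | rfl | rfl) <;> decide +kernel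
  have hPeq : P = (S : Subgroup G) := by
    refine eq_of_grow hS S.isPGroup' fun g hgS hgn => ?_
    -- the group generated acts on the three products
    set R := (S : Subgroup G) ⊓ normalizer (P : Set G)
    have hR : IsPGroup 2 R := S.isPGroup'.to_le inf_le_left
    have hPR : P ≤ R := le_inf hS le_normalizer
    have hI3 : ∀ r ∈ R, ∀ x, I3 x → ∃ y, I3 y ∧ r * T.Θ x * r⁻¹ = T.Θ y := by
      intro r hr x hx
      obtain ⟨hxP, hxx⟩ := hI3P x hx
      obtain ⟨y, hy, hy'⟩ := (mem_normalizer_iff.1 (mem_inf.1 hr).2 (T.Θ x)).1 ⟨x, hxP, rfl⟩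
      refine ⟨y, hchar y hy (T.inj ?_) ?_, hy'.symm⟩
      · rw [map_mul, hy', show r * T.Θ x * r⁻¹ * (r * T.Θ x * r⁻¹) = r * (T.Θ x * T.Θ x) * r⁻¹ by group,
          ← map_mul, hxx, map_one, mul_one, mul_inv_cancel]
      · rw [hy']
        exact (isConj_iff.2 ⟨r, rfl⟩).symm.trans (hconj x hx)
    let E3 := {x : L // x = ew ∨ x = ew' ∨ x = ew * ew'}
    have hstep : ∀ r ∈ R, ∀ x : E3, ∃ y : E3, r * T.Θ x.1 * r⁻¹ = T.Θ y.1 := by
      intro r hr x
      have hx : ∃ p q, I3 p ∧ I3 q ∧ p ≠ q ∧ x.1 = p * q := by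
        obtain ⟨x, rfl | rfl | rfl⟩ := x
        · exact ⟨lJ * ew', lJ * (ew * ew'), Or.inr (Or.inl rfl), Or.inr (Or.inr rfl), by decide +kernel,
            by decide +kernel⟩
        · exact ⟨ei, lJ * (ew * ew'), Or.inl rfl, Or.inr (Or.inr rfl), by decide +kernel,
            by decide +kernel⟩
        · exact ⟨ei, lJ * ew', Or.inl rfl, Or.inr (Or.inl rfl), by decide +kernel, by decide +kernel⟩
      obtain ⟨p, q, hp, hq, hpq, hxe⟩ := hx
      obtain ⟨p', hp', ep⟩ := hI3 r hr p hp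
      obtain ⟨q', hq', eq'⟩ := hI3 r hr q hq
      have hne : p' ≠ q' := fun e => hpq (T.inj (by
        have := ep.trans ((congrArg T.Θ e).trans eq'.symm)
        exact mul_left_cancel (mul_right_cancel this)))
      refine ⟨⟨p' * q', ?_⟩, by rw [hxe, map_mul, map_mul, ← ep, ← eq']; group⟩
      rcases hp' with rfl | rfl | rfl <;> rcases hq' with rfl | rfl | rfl <;>
        first
        | exact absurd rfl hne
        | decide +kernel
    choose act hact using hstep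
    letI : MulAction R E3 :=
    { smul := fun r x => act r r.2 x
      one_smul := fun x => Subtype.ext (T.inj (by
        show T.Θ (act _ _ x).1 = _
        rw [← hact]; simp))
      mul_smul := fun r s x => Subtype.ext (T.inj (by
        show T.Θ (act _ _ x).1 = T.Θ (act _ _ (act _ _ x)).1
        rw [← hact, ← hact, ← hact, coe_mul]; group)) }
    have hE3 : ¬ 2 ∣ Nat.card E3 := by
      rw [Nat.card_eq_fintype_card, show Fintype.card E3 = 3 by decide +kernel]; decide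
    obtain ⟨x0, hx0⟩ := hR.nonempty_fixed_point_of_prime_not_dvd_card E3 hE3
    have hfix : ∀ r : R, (r : G) * T.Θ x0.1 * (r : G)⁻¹ = T.Θ x0.1 := fun r =>
      (hact r r.2 x0).trans (congrArg (fun y : E3 => T.Θ y.1) (hx0 r))
    have hl3 : T.Θ l3 ∈ R := hPR ⟨l3, mem_P0.2 ⟨hl3J, hl3w⟩, rfl⟩
    have hx0w : x0.1 = ew := by
      have h1 := hfix ⟨_, hl3⟩
      simp only [← map_mul, ← map_inv] at h1
      have h2 := mul_inv_eq_iff_eq_mul.1 (T.inj h1)
      obtain ⟨x, rfl | rfl | rfl⟩ := x0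
      · rfl
      · exact absurd (mul_right_cancel (hl3w'.symm.trans h2)) hne2
      · simp only at h2
        rw [← mul_assoc, hl3w, mul_assoc, hl3w', ← mul_assoc, mul_left_inj] at h2
        exact absurd (mul_left_cancel h2) hne2
    -- correct by `(3 4)(7 8)`
    have hgR : g ∈ R := mem_inf.2 ⟨hgS, hgn⟩
    obtain ⟨g', hg'R, hgg', hw'⟩ : ∃ g' ∈ R, g * g'⁻¹ ∈ P ∧ g' * T.Θ ew' * g'⁻¹ = T.Θ ew' := by
      have hy := hact g hgR ⟨ew', Or.inr (Or.inl rfl)⟩
      generalize act g hgR ⟨ew', Or.inr (Or.inl rfl)⟩ = y at hy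
      obtain ⟨y, rfl | rfl | rfl⟩ := y
      · exfalso
        have h1 := hfix ⟨g, hgR⟩
        rw [hx0w] at h1
        exact hne1 (T.inj (mul_left_cancel (mul_right_cancel (h1.trans hy.symm))))
      · exact ⟨g, hgR, by rw [mul_inv_cancel]; exact one_mem _, hy⟩
      · refine ⟨T.Θ l3 * g, mul_mem hl3 hgR, ?_, ?_⟩
        · rw [mul_inv_rev, ← mul_assoc, mul_inv_cancel, one_mul]
          exact inv_mem ⟨l3, mem_P0.2 ⟨hl3J, hl3w⟩, rfl⟩
        · rw [mul_inv_rev, show T.Θ l3 * g * T.Θ ew' * (g⁻¹ * (T.Θ l3)⁻¹) =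
            T.Θ l3 * (g * T.Θ ew' * g⁻¹) * (T.Θ l3)⁻¹ by group, hy, ← map_mul, ← map_inv, ← map_mul]
          refine congrArg T.Θ (mul_inv_eq_iff_eq_mul.2 ?_)
          rw [← mul_assoc, hl3w, mul_assoc, hl3w', ← mul_assoc, ← mul_assoc]
          rw [show ew * ew = 1 by decide +kernel, one_mul]
    have hw : g' * T.Θ ew * g'⁻¹ = T.Θ ew := hx0w ▸ hfix ⟨g', hg'R⟩
    obtain ⟨l, hl⟩ := h g' (T.mem_XX.2 fun k hk => by
      have c1 : Commute (T.Θ ew) g' := (mul_inv_eq_iff_eq_mul.1 hw).symm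
      have c2 : Commute (T.Θ ew') g' := (mul_inv_eq_iff_eq_mul.1 hw').symm
      rcases hk with rfl | rfl | rfl | rfl
      · rw [map_one]; exact Commute.one_left _
      · exact c1
      · exact c2
      · rw [map_mul]; exact c1.mul_left c2)
    subst hl
    have hlw : l * ew = ew * l := T.inj (by
      rw [map_mul, map_mul]; exact mul_inv_eq_iff_eq_mul.1 hw)
    have hlw' : l * ew' = ew' * l := T.inj (by
      rw [map_mul, map_mul]; exact mul_inv_eq_iff_eq_mul.1 hw')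
    have hJ : lJ ∈ P0 := mem_P0.2 ⟨rfl, E_facts.2.2.1⟩
    obtain ⟨y, hy, hy'⟩ := (mem_normalizer_iff.1 (mem_inf.1 hg'R).2 (T.Θ lJ)).1 ⟨lJ, hJ, rfl⟩
    rw [← map_mul, ← map_inv, ← map_mul] at hy'
    have hy2 := (mem_P0.1 hy).1
    rw [T.inj hy'] at hy2
    have hlP : T.Θ l ∈ P := ⟨l, mem_P0.2 ⟨cent_E0_P0 l hlw hlw' hy2, hlw⟩, rfl⟩
    simpa using mul_mem hgg' hlP
  set M := M0.map T.Θ
  have hM : M.index % 4 = 2 := by
    have h1 := M.card_mul_index
    have h2 := (S : Subgroup G).card_mul_index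
    rw [card_map_of_injective T.inj, card_M0] at h1
    rw [← hPeq, hPcard] at h2
    have h3 : ¬ 2 ∣ P.index := hPeq ▸ S.not_dvd_index
    omega
  have hei : T.Θ ei * T.Θ ei = 1 := by rw [← map_mul, ei_facts.2.1, map_one]
  have ho : orderOf (T.Θ ei) = 2 := orderOf_eq_prime (by rw [pow_two]; exact hei)
    fun e => ei_facts.2.2.2.2.1 (T.inj (e.trans (map_one T.Θ).symm))
  obtain ⟨N, hN, hiN⟩ := Fusion.Thompson.exists_index_two_of_fixedPointFree (G := G) (α := G ⧸ M) hM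
    (T.Θ ei) ho (fun x => by
      induction x using QuotientGroup.induction_on with
      | H k =>
        intro he
        rw [MulAction.Quotient.smul_mk, smul_eq_mul, QuotientGroup.eq] at he
        have hm : k⁻¹ * T.Θ ei * k ∈ M := by simpa [mul_assoc] using inv_mem he
        obtain ⟨x, hx, hx'⟩ := hm
        have hxc : IsConj (T.Θ x) (T.Θ ei) := by
          rw [hx']; exact isConj_iff.2 ⟨k, by group⟩
        have hxx : x * x = 1 := T.inj (by
          rw [map_mul, hx', show k⁻¹ * T.Θ ei * k * (k⁻¹ * T.Θ ei * k) = k⁻¹ * (T.Θ ei * T.Θ ei) * k by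
            group, hei, mul_one, inv_mul_cancel, map_one])
        rcases hchar x (mem_inf.1 hx).1 hxx hxc with rfl | rfl | rfl <;>
          exact absurd (mem_M0.1 hx).2 (by decide +kernel))
  refine hiN ?_
  have hcube : ∀ y : G, y ^ 3 = 1 → y ∈ N := fun y hy => by
    have : y = (y * y) * (y * y) := by
      rw [show y * y * (y * y) = y ^ 3 * y by simp [pow_succ, mul_assoc], hy, one_mul]
    rw [this]
    exact mul_mem_iff_of_index_two hN |>.2 Iff.rfl
  obtain ⟨w1, w2, c1, c2, c3, c4⟩ := three_words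
  have pw : ∀ x : L, x ^ 3 = 1 → T.Θ x ∈ N ∧ T.m x ∈ N := fun x hx =>
    ⟨hcube _ (by rw [← map_pow, hx, map_one]), hcube _ (by rw [← map_pow, hx, map_one])⟩
  rw [ei_facts.2.2.1, map_mul, ← T.m_g1, ← w2, ← w1, map_mul, map_mul]
  exact mul_mem (mul_mem (pw _ c3).2 (pw _ c4).2) (mul_mem (pw _ c1).1 (pw _ c2).1)

/-- The mirror image of `(5 6)(7 8)` centralises `(5 6)(7 8)`. -/
theorem x1_mem : T.m ew ∈ T.XX E0 :=
  T.cases_XX_E0.elim (fun h => (T.false_of_small h).elim) (fun h => h.elim (fun h => absurd h T.not_ek) id)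

end Th

end Cfsg.Agent.Lib.A9Local22
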