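import Cfsg.Agent.Lib.A9Local22.ThetaData

/-!
# Elements of the stabiliser of three points and finite facts about them

Owner: helper22.
-/

set_option autoImplicit false
set_option maxRecDepth 100000
set_option maxHeartbeats 1000000
set_option synthInstance.maxHeartbeats 400000
set_option synthInstance.maxSize 4000

namespace Cfsg.Agent.Lib.A9Local22.Model

open Equiv Cfsg.Agent.Lib.A9Norm79

/-- `(5 6)(7 8)`. -/
def ew : L := mk 1 (swap 2 3 * swap 4 5)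
/-- `(5 7)(6 8)`. -/
def ew' : L := mk 1 (swap 2 4 * swap 3 5)
/-- `(3 4)(5 6)`. -/
def ef : L := mk 1 (swap 0 1 * swap 2 3)
/-- `(3 5 7)(4 6 8)`. -/
def ed : L := mk 1 (swap 0 2 * swap 2 4 * (swap 1 3 * swap 3 5))
/-- The conjugator from `(3 4 5)(6 7 8)` to `(3 5 7)(4 6 8)`. -/
def eh : L := mk s3 (swap 1 2 * swap 2 4 * swap 4 3)
/-- `(0 1)(3 4)(5 6)(7 8)`. -/
def ei : L := mk s3 (swap 0 1 * swap 2 3 * swap 4 5)
/-- `(3 6)(7 8)`, the mirror image of `(0 1)(2 5)`. -/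
def ek : L := mk 1 (swap 0 3 * swap 4 5)
/-- `(4 5)(7 8)`. -/
def g1 : L := mk 1 (swap 1 2 * swap 4 5)
/-- `(1 2)(7 8)`. -/
def g6 : L := mk (swap 1 2) (swap 4 5)
/-- `(0 1)(7 8)`. -/
def g7 : L := mk s3 (swap 4 5)
/-- `(0 1)(4 5)`. -/
def s5 : L := mk s3 (swap 1 2)
/-- `(0 1)(5 6)`. -/
def s6' : L := mk s3 (swap 2 3)
/-- `(0 1)(6 7)`. -/
def s7 : L := mk s3 (swap 3 4)

/-- The index of `(0 8)(1 7)(2 6)(3 5)`. -/
def w0 : W := ((2, 2, 2), (3, 5))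

/-- The four-group generated by `(5 6)(7 8)` and `(5 7)(6 8)`. -/
def E0 : Subgroup L where
  carrier := {x | x = 1 ∨ x = ew ∨ x = ew' ∨ x = ew * ew'}
  one_mem' := Or.inl rfl
  mul_mem' := by
    rintro x y (rfl | rfl | rfl | rfl) (rfl | rfl | rfl | rfl) <;> decide +kernel
  inv_mem' := by
    rintro x (rfl | rfl | rfl | rfl) <;> decide +kernel

/-- The four-group generated by `(5 6)(7 8)` and `(3 4)(5 6)`. -/
def F0 : Subgroup L where
  carrier := {x | x = 1 ∨ x = ew ∨ x = ef ∨ x = ew * ef}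
  one_mem' := Or.inl rfl
  mul_mem' := by
    rintro x y (rfl | rfl | rfl | rfl) (rfl | rfl | rfl | rfl) <;> decide +kernel
  inv_mem' := by
    rintro x (rfl | rfl | rfl | rfl) <;> decide +kernel

theorem mem_E0 {x : L} : x ∈ E0 ↔ x = 1 ∨ x = ew ∨ x = ew' ∨ x = ew * ew' := Iff.rfl

theorem mem_F0 {x : L} : x ∈ F0 ↔ x = 1 ∨ x = ew ∨ x = ef ∨ x = ew * ef := Iff.rfl

theorem card_E0 : Nat.card E0 = 4 := by
  rw [show Nat.card E0 = Nat.card {x : L // x = 1 ∨ x = ew ∨ x = ew' ∨ x = ew * ew'} from rfl,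
    Nat.card_eq_fintype_card]
  decide +kernel

theorem card_F0 : Nat.card F0 = 4 := by
  rw [show Nat.card F0 = Nat.card {x : L // x = 1 ∨ x = ew ∨ x = ef ∨ x = ew * ef} from rfl,
    Nat.card_eq_fintype_card]
  decide +kernel

theorem cent_E0 : ∀ x : L, x * la = la * x → x * ew = ew * x → x * ew' = ew' * x →
    ∃ i : Fin 3, x = la ^ (i : ℕ) ∨ x = la ^ (i : ℕ) * ew ∨ x = la ^ (i : ℕ) * ew' ∨
      x = la ^ (i : ℕ) * (ew * ew') := by decide +kernel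

theorem cent_F0 : ∀ x : L, x * la = la * x → x * ew = ew * x → x * ef = ef * x →
    ∃ i : Fin 3, x = la ^ (i : ℕ) ∨ x = la ^ (i : ℕ) * ew ∨ x = la ^ (i : ℕ) * ef ∨
      x = la ^ (i : ℕ) * (ew * ef) := by decide +kernel

theorem E_facts : la * ew = ew * la ∧ la * ew' = ew' * la ∧ lJ * ew = ew * lJ ∧ lJ * ew' = ew' * lJ ∧
    lc * ew ≠ ew * lc ∧ lc * ew' ≠ ew' * lc ∧ lc * (ew * ew') ≠ ew * ew' * lc ∧
    (lc * ew * lc⁻¹ = ew ∨ lc * ew * lc⁻¹ = ew' ∨ lc * ew * lc⁻¹ = ew * ew') ∧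
    (lc * ew' * lc⁻¹ = ew ∨ lc * ew' * lc⁻¹ = ew' ∨ lc * ew' * lc⁻¹ = ew * ew') ∧
    la * lc = lc * la ∧ lJ * la = la * la * lJ ∧ lJ * lc = lc * lJ ∧ lc * lc * lc = 1 := by
  decide +kernel

theorem F_facts : la * ew = ew * la ∧ la * ef = ef * la ∧ ei * ew = ew * ei ∧ ei * ef = ef * ei ∧
    ed * ew ≠ ew * ed ∧ ed * ef ≠ ef * ed ∧ ed * (ew * ef) ≠ ew * ef * ed ∧
    (ed * ew * ed⁻¹ = ew ∨ ed * ew * ed⁻¹ = ef ∨ ed * ew * ed⁻¹ = ew * ef) ∧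
    (ed * ef * ed⁻¹ = ew ∨ ed * ef * ed⁻¹ = ef ∨ ed * ef * ed⁻¹ = ew * ef) ∧
    la * ed = ed * la ∧ ei * la = la * la * ei ∧ ei * ed = ed * ei ∧ ed * ed * ed = 1 := by
  decide +kernel

theorem d_conj : eh * (lb * lc) = ed * eh ∧ eh * (la * (lb * lc)) = la * la * ed * eh ∧
    eh * (la * la * (lb * lc)) = la * ed * eh := by decide +kernel

theorem typ_vals : iota ((lb * lc : L) : PP) = A9Norm79.Model.el ((0, 1, 1), (0, 0)) ∧
    iota ((la * (lb * lc) : L) : PP) = A9Norm79.Model.el ((1, 1, 1), (0, 0)) ∧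
    iota ((la * la * (lb * lc) : L) : PP) = A9Norm79.Model.el ((2, 1, 1), (0, 0)) ∧
    iota ((la * lc : L) : PP) = A9Norm79.Model.el ((1, 0, 1), (0, 0)) ∧
    iota ((la * la * lc : L) : PP) = A9Norm79.Model.el ((2, 0, 1), (0, 0)) := by decide +kernel

theorem cent_bc : ∀ k : Fin 4 × Fin 6,
    A9Norm79.Model.mel k * A9Norm79.Model.jel (0, 1, 1) = A9Norm79.Model.jel (0, 1, 1) * A9Norm79.Model.mel k →
    A9Norm79.Model.mel k * A9Norm79.Model.ca = A9Norm79.Model.ca * A9Norm79.Model.mel k ∨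
      A9Norm79.Model.mel k * A9Norm79.Model.ca =
        A9Norm79.Model.ca * A9Norm79.Model.ca * A9Norm79.Model.mel k := by decide +kernel

theorem mirror_vals : let el := A9Norm79.Model.el
    el w0 * el w0 = 1 ∧
    el w0 * iota (la : PP) * el w0 = iota ((lc * lc : L) : PP) ∧
    el w0 * iota (lc : PP) * el w0 = iota ((la * la : L) : PP) ∧
    el w0 * iota (g1 : PP) * el w0 = iota (lJ : PP) ∧
    el w0 * iota (l3 : PP) * el w0 = iota (s5 : PP) ∧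
    el w0 * iota (g6 : PP) * el w0 = iota (s7 : PP) ∧
    el w0 * iota (g7 : PP) * el w0 = iota (g7 : PP) ∧
    iota (g1 : PP) = el ((0, 0, 0), (1, 0)) ∧ iota (g6 : PP) = el ((0, 0, 0), (2, 0)) ∧
    iota (g7 : PP) = el ((1, 0, 0), (2, 0)) ∧ iota (s5 : PP) = el ((1, 0, 0), (3, 0)) ∧
    iota (s7 : PP) = el ((1, 0, 1), (2, 0)) ∧ iota ((lc * lc : L) : PP) = el ((0, 0, 2), (0, 0)) ∧
    iota ((la * la : L) : PP) = el ((2, 0, 0), (0, 0)) := by decide +kernel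

/-- The elements generated by `(3 4 5)` and `(4 5)(7 8)` on the last six points. -/
def T6 : Fin 6 → Perm (Fin 6) :=
  ![1, swap 3 4 * swap 4 5, swap 3 4 * swap 4 5 * (swap 3 4 * swap 4 5), swap 1 2 * swap 4 5,
    swap 3 4 * swap 4 5 * (swap 1 2 * swap 4 5),
    swap 3 4 * swap 4 5 * (swap 3 4 * swap 4 5) * (swap 1 2 * swap 4 5)]

/-- Representatives. -/
def rep : Fin 10 → Perm (Fin 6) :=
  ![swap 2 3 * swap 4 5, swap 1 3 * swap 2 4, swap 0 1 * swap 4 5, swap 0 1 * swap 2 3,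
    swap 0 1 * swap 1 2 * swap 2 3 * swap 4 5, swap 0 1 * swap 1 3 * swap 2 4 * swap 4 5,
    swap 0 3 * swap 4 5, swap 0 3 * swap 2 4, swap 0 3 * swap 2 5,
    swap 0 3 * swap 1 4 * swap 4 2 * swap 2 5]

/-- A word in an element, `(3 4 5)` and `(4 5)(7 8)` for every representative. -/
def word : Fin 10 → Perm (Fin 6) :=
  let c := T6 1
  let s := T6 3
  let x := rep
  ![x 0, x 1 * c * x 1 * (c * c) * x 1, x 2 * s, x 3 * s * x 3, x 4 * s * (x 4)⁻¹,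
    x 5 * (c * c) * s * (x 5)⁻¹ * s, x 6, x 7 * c * x 7 * (c * c) * x 7,
    x 8 * (c * c) * x 8 * c * x 8, x 9 * c * (x 9)⁻¹]

theorem T6_cover : ∀ q : Perm (Fin 6), Perm.sign q = 1 → (∃ i, q = T6 i) ∨
    ∃ i j : Fin 6, ∃ k : Fin 10, T6 i * q * T6 j = rep k ∨ T6 i * q⁻¹ * T6 j = rep k := by
  decide +kernel

theorem word_good : ∀ k : Fin 10, word k = swap 0 3 * swap 4 5 ∨ word k = swap 2 3 * swap 4 5 ∨
    (word k * T6 1 = T6 1 * word k ∧ word k ≠ 1 ∧ word k ≠ T6 1 ∧ word k ≠ T6 1 * T6 1) := by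
  decide +kernel

theorem T6_lift : ((lc : PP).1 = 1 ∧ (g1 : PP).1 = 1) ∧ (lc : PP).2 = T6 1 ∧ (g1 : PP).2 = T6 3 ∧
    (∀ i : Fin 6, T6 i = T6 1 ^ ((i : ℕ) % 3) * T6 3 ^ ((i : ℕ) / 3)) := by decide +kernel

end Cfsg.Agent.Lib.A9Local22.Model
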