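import Cfsg.Agent.Lib.A9Local22.CaseS3

/-!
# The alternating group of degree nine inside the group

Owner: helper22.
-/

set_option autoImplicit false
set_option maxRecDepth 100000
set_option maxHeartbeats 1000000
set_option synthInstance.maxHeartbeats 400000
set_option synthInstance.maxSize 4000

namespace Cfsg.Agent.Lib.A9Local22

open Equiv Model Cfsg.Agent.Lib.A9Norm79 Subgroup
open Cfsg.Agent.Lib.Spectrum.CoxeterAlt (altGen)

universe u

namespace Model

/-- The alternating group of degree nine. -/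
abbrev A9 := alternatingGroup (Fin 9)

/-- The inclusion of `L`. -/
def el9 : L →* A9 :=
  (iota.comp L.subtype).codRestrict _ fun x => Perm.mem_alternatingGroup.2 (iota_even x)

theorem el9_val (x : L) : (el9 x : Perm (Fin 9)) = iota (x : PP) := rfl

theorem el9_injective : Function.Injective el9 := fun _ _ h =>
  Subtype.ext (iota_injective (congrArg Subtype.val h))

/-- The permutation `(0 8)(1 7)(2 6)(3 5)`. -/
def n9 : A9 := ⟨A9Norm79.Model.el w0, Perm.mem_alternatingGroup.2 (by decide +kernel)⟩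

/-- The mirrored inclusion. -/
def el9m : L →* A9 := (MulAut.conj n9).toMonoidHom.comp el9

theorem el9m_val (x : L) :
    (el9m x : Perm (Fin 9)) = A9Norm79.Model.el w0 * iota (x : PP) * (A9Norm79.Model.el w0)⁻¹ := rfl

/-- Moore's generators in `L`, the second left out. -/
def Ys : Fin 7 → L := ![la, 1, lJ, s5, s6', s7, g7]

/-- Moore's generators in the mirror image of `L`, the fifth left out. -/
def Zs : Fin 7 → L := ![lc * lc, ew, g1, l3, 1, g6, g7]

theorem Ys_val : ∀ i : Fin 7, i ≠ 1 → iota ((Ys i : L) : PP) = altGen i := by decide +kernel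

theorem Zs_val : ∀ i : Fin 7, i ≠ 4 →
    A9Norm79.Model.el w0 * iota ((Zs i : L) : PP) * (A9Norm79.Model.el w0)⁻¹ = altGen i := by
  decide +kernel

theorem Ys_rels : ∀ i j : Fin 7, i ≠ 1 → j ≠ 1 →
    (i.val = 0 → Ys i * Ys i * Ys i = 1) ∧ (1 ≤ i.val → Ys i * Ys i = 1) ∧
    (j.val = i.val + 1 → Ys i * Ys j * (Ys i * Ys j) * (Ys i * Ys j) = 1) ∧
    (i.val + 1 < j.val → Ys i * Ys j * (Ys i * Ys j) = 1) := by decide +kernel

theorem Zs_rels : ∀ i j : Fin 7, i ≠ 4 → j ≠ 4 →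
    (i.val = 0 → Zs i * Zs i * Zs i = 1) ∧ (1 ≤ i.val → Zs i * Zs i = 1) ∧
    (j.val = i.val + 1 → Zs i * Zs j * (Zs i * Zs j) * (Zs i * Zs j) = 1) ∧
    (i.val + 1 < j.val → Zs i * Zs j * (Zs i * Zs j) = 1) := by decide +kernel

/-- The inclusion of the even permutations of the last six points. -/
def six : alternatingGroup (Fin 6) →* L :=
  ((MonoidHom.inr (Perm (Fin 3)) (Perm (Fin 6))).comp (alternatingGroup (Fin 6)).subtype).codRestrict _
    fun q => MonoidHom.mem_ker.2 (by simp [parity, Perm.mem_alternatingGroup.1 q.2])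

theorem gens_six : ∀ i : Fin 4, (1, altGen i) = ((![lb, ef, l2, l3] i : L) : PP) := by decide +kernel

theorem Y_words : lb = lJ * s5 ∧ ef = lJ * s6' ∧ l2 = lJ * s7 ∧ l3 = lJ * g7 ∧ s6' = g7 * ew := by
  decide +kernel

theorem Z_words : lb = l3 * g1 ∧ ef = l3 * ew ∧ la = g7 * g6 ∧ lJ = g7 * l3 ∧
    lc = lc * lc * (lc * lc) ∧ ∃ i : Fin 3, lc ^ (i : ℕ) * l3 = l2 * lc ^ (i : ℕ) := by decide +kernel

/-- Homomorphisms of `L` agreeing on six elements are equal. -/
theorem L_ext {G : Type u} [Group G] {φ ψ : L →* G} (h0 : φ la = ψ la) (hJ : φ lJ = ψ lJ)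
    (hb : φ lb = ψ lb) (hf : φ ef = ψ ef) (h2 : φ l2 = ψ l2) (h3 : φ l3 = ψ l3) : φ = ψ := by
  have h6 : φ.comp six = ψ.comp six := by
    refine Moore.hom_ext fun i => ?_
    have e : six (Moore.gen i) = ![lb, ef, l2, l3] i := Subtype.ext (by
      rw [← gens_six i, ← Moore.gen_val i]; rfl)
    show φ (six (Moore.gen i)) = ψ (six (Moore.gen i))
    rw [e]
    fin_cases i
    exacts [hb, hf, h2, h3]
  have key : ∀ x : L, Perm.sign (x : PP).2 = 1 → φ x = ψ x := by
    intro x hx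
    have hp : ∀ p : Perm (Fin 3), Perm.sign p = 1 → ∃ i : Fin 3, p = (swap 0 1 * swap 1 2) ^ (i : ℕ) := by
      decide +kernel
    obtain ⟨i, hi⟩ := hp _ ((sign_eq x).trans hx)
    have e : x = la ^ (i : ℕ) * six ⟨(x : PP).2, Perm.mem_alternatingGroup.2 hx⟩ := by
      refine Subtype.ext (Prod.ext ?_ ?_)
      · show (x : PP).1 = ((la : PP) ^ (i : ℕ)).1 * 1
        rw [mul_one, Prod.pow_fst, hi]; rfl
      · show (x : PP).2 = ((la : PP) ^ (i : ℕ)).2 * (x : PP).2
        rw [Prod.pow_snd, show (la : PP).2 = 1 from rfl, one_pow, one_mul]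
    have h7 := DFunLike.congr_fun h6 ⟨(x : PP).2, Perm.mem_alternatingGroup.2 hx⟩
    simp only [MonoidHom.comp_apply] at h7
    rw [e, map_mul, map_mul, map_pow, map_pow, h0, h7]
  refine MonoidHom.ext fun x => ?_
  rcases Int.units_eq_one_or (Perm.sign (x : PP).2) with h | h
  · exact key x h
  · have e : x = x * lJ * lJ := by
      rw [mul_assoc, show lJ * lJ = 1 by decide +kernel, mul_one]
    rw [e, map_mul, map_mul ψ, hJ, key (x * lJ) (by
      show Perm.sign ((x : PP).2 * s6) = 1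
      rw [map_mul, h, s_facts.2.2.2]; rfl)]

end Model

/-- A copy of `A₉` extending the embedding of `N(⟨a⟩)` and its mirror. -/
structure Emb {G : Type u} [Group G] [Finite G] {C : Cfg G} (T : Th C) where
  f : A9 →* G
  inj : Function.Injective f
  fL : ∀ x, f (el9 x) = T.Θ x
  fm : ∀ x, f (el9m x) = T.m x

namespace Th

variable {G : Type u} [Group G] [Finite G] {C : Cfg G} (T : Th C)

/-- The images of Moore's generators. -/
def Xs (i : Fin 7) : G := if i = 1 then T.m (Zs i) else T.Θ (Ys i)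

theorem Xs_Y {i : Fin 7} (h : i ≠ 1) : T.Xs i = T.Θ (Ys i) := if_neg h

theorem Xs_Z {i : Fin 7} (h : i ≠ 4) : T.Xs i = T.m (Zs i) := by
  obtain rfl | rfl | rfl | rfl | rfl | rfl | rfl : i = 0 ∨ i = 1 ∨ i = 2 ∨ i = 3 ∨ i = 4 ∨ i = 5 ∨ i = 6 := by
    revert i; decide
  · rw [Xs, if_neg (by decide)]
    show T.Θ la = T.m (lc * lc)
    rw [map_mul, T.m_lc, ← map_mul]
    exact congrArg T.Θ (by decide +kernel)
  · rfl
  · exact T.m_g1.symm
  · exact T.m_l3.symm
  · exact absurd rfl h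
  · exact T.m_g6.symm
  · exact T.m_g7.symm

theorem exists_emb : Nonempty (Emb T) := by
  have hcomm : Commute (T.Xs 1) (T.Xs 4) := by
    show Commute (T.m ew) (T.Θ s6')
    rw [Y_words.2.2.2.2, map_mul]
    refine Commute.mul_right ?_ (T.mem_XX.1 T.x1_mem ew (by simp [mem_E0])).symm
    rw [← T.m_g7]
    exact (show Commute ew g7 from (by decide +kernel : ew * g7 = g7 * ew)).map T.m
  have x14 : (T.Xs 1 * T.Xs 4) ^ 2 = 1 := by
    rw [hcomm.mul_pow, Xs_Y T (i := 4) (by decide), Xs_Z T (i := 1) (by decide), ← map_pow, ← map_pow,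
      show Zs 1 ^ 2 = 1 by decide +kernel, show Ys 4 ^ 2 = 1 by decide +kernel, map_one, map_one, one_mul]
  obtain ⟨f, hf⟩ := Moore.exists_hom (k := 7) T.Xs
    (fun i hi => by
      have hne : i ≠ 1 := fun e => by rw [e] at hi; exact absurd hi (by decide)
      rw [T.Xs_Y hne, ← map_pow, pow_succ, pow_two, (Ys_rels i i hne hne).1 hi, map_one])
    (fun i hi => by
      by_cases h : i = 1
      · have hne : i ≠ 4 := by rw [h]; decide
        rw [T.Xs_Z hne, ← map_pow, pow_two, (Zs_rels i i hne hne).2.1 hi, map_one]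
      · rw [T.Xs_Y h, ← map_pow, pow_two, (Ys_rels i i h h).2.1 hi, map_one])
    (fun i j hij => by
      by_cases h : i = 1 ∨ j = 1
      · have h4 : i ≠ 4 ∧ j ≠ 4 :=
          (by decide : ∀ i j : Fin 7, j.val = i.val + 1 → (i = 1 ∨ j = 1) → i ≠ 4 ∧ j ≠ 4) i j hij h
        rw [T.Xs_Z h4.1, T.Xs_Z h4.2, ← map_mul, ← map_pow, pow_succ, pow_two,
          (Zs_rels i j h4.1 h4.2).2.2.1 hij, map_one]
      · push Not at h
        rw [T.Xs_Y h.1, T.Xs_Y h.2, ← map_mul, ← map_pow, pow_succ, pow_two,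
          (Ys_rels i j h.1 h.2).2.2.1 hij, map_one])
    (fun i j hij => by
      by_cases h : i ≠ 1 ∧ j ≠ 1
      · rw [T.Xs_Y h.1, T.Xs_Y h.2, ← map_mul, ← map_pow, pow_two,
          (Ys_rels i j h.1 h.2).2.2.2 hij, map_one]
      · by_cases h4 : i ≠ 4 ∧ j ≠ 4
        · rw [T.Xs_Z h4.1, T.Xs_Z h4.2, ← map_mul, ← map_pow, pow_two,
            (Zs_rels i j h4.1 h4.2).2.2.2 hij, map_one]
        · have key : ∀ i j : Fin 7, i.val + 1 < j.val → ¬ (i ≠ 1 ∧ j ≠ 1) → ¬ (i ≠ 4 ∧ j ≠ 4) →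
              i = 1 ∧ j = 4 := by decide
          obtain ⟨rfl, rfl⟩ := key i j hij h h4
          exact x14)
  have hY : ∀ i, i ≠ 1 → f (el9 (Ys i)) = T.Θ (Ys i) := fun i hi => by
    rw [hf i (el9 (Ys i)) (Ys_val i hi), T.Xs_Y hi]
  have hZ : ∀ i, i ≠ 4 → f (el9m (Zs i)) = T.m (Zs i) := fun i hi => by
    rw [hf i (el9m (Zs i)) (Zs_val i hi), T.Xs_Z hi]
  have hla : f (el9 la) = T.Θ la := hY 0 (by decide)
  obtain ⟨y1, y2, y3, y4, -⟩ := Y_words
  have hJ : f (el9 lJ) = T.Θ lJ := hY 2 (by decide)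
  have h5 : f (el9 s5) = T.Θ s5 := hY 3 (by decide)
  have h6 : f (el9 s6') = T.Θ s6' := hY 4 (by decide)
  have h7 : f (el9 s7) = T.Θ s7 := hY 5 (by decide)
  have h8 : f (el9 g7) = T.Θ g7 := hY 6 (by decide)
  have e1 : f.comp el9 = T.Θ := L_ext hla hJ
    (by show f (el9 lb) = _; rw [y1, map_mul, map_mul, map_mul, hJ, h5])
    (by show f (el9 ef) = _; rw [y2, map_mul, map_mul, map_mul, hJ, h6])
    (by show f (el9 l2) = _; rw [y3, map_mul, map_mul, map_mul, hJ, h7])
    (by show f (el9 l3) = _; rw [y4, map_mul, map_mul, map_mul, hJ, h8])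
  obtain ⟨z1, z2, z3, z4, z5, i, z6⟩ := Z_words
  have k0 : f (el9m (lc * lc)) = T.m (lc * lc) := hZ 0 (by decide)
  have k1 : f (el9m ew) = T.m ew := hZ 1 (by decide)
  have k2 : f (el9m g1) = T.m g1 := hZ 2 (by decide)
  have k3 : f (el9m l3) = T.m l3 := hZ 3 (by decide)
  have k5 : f (el9m g6) = T.m g6 := hZ 5 (by decide)
  have k6 : f (el9m g7) = T.m g7 := hZ 6 (by decide)
  have kc : f (el9m lc) = T.m lc := by
    conv_lhs => rw [z5, map_mul, map_mul, k0]
    conv_rhs => rw [z5, map_mul]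
  have el2 : l2 = lc ^ (i : ℕ) * l3 * (lc ^ (i : ℕ))⁻¹ := by rw [z6, mul_inv_cancel_right]
  have e2 : f.comp el9m = T.m := L_ext
    (by show f (el9m la) = _; rw [z3, map_mul, map_mul, map_mul, k6, k5])
    (by show f (el9m lJ) = _; rw [z4, map_mul, map_mul, map_mul, k6, k3])
    (by show f (el9m lb) = _; rw [z1, map_mul, map_mul, map_mul, k3, k2])
    (by show f (el9m ef) = _; rw [z2, map_mul, map_mul, map_mul, k3, k1])
    (by
      show f (el9m l2) = _
      rw [el2]
      simp only [map_mul, map_inv, map_pow, kc, k3])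
    k3
  refine ⟨⟨f, Moore.injective_of_ne (k := 7) (by norm_num) (p := el9 la) ?_,
    DFunLike.congr_fun e1, DFunLike.congr_fun e2⟩⟩
  rw [hla]
  exact fun h => absurd (T.inj (h.trans (map_one T.Θ).symm)) (by decide +kernel)

end Th

end Cfsg.Agent.Lib.A9Local22
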