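import Cfsg.Agent.Lib.A9Local22.Embed
import Cfsg.Agent.Lib.HalfClasses.Local
import Mathlib.GroupTheory.SchurZassenhaus

/-!
# The centraliser of `(5 6)(7 8)`

Owner: helper22.
-/

set_option autoImplicit false
set_option maxRecDepth 100000
set_option maxHeartbeats 1000000
set_option synthInstance.maxHeartbeats 400000
set_option synthInstance.maxSize 4000

namespace Cfsg.Agent.Lib.A9Local22

open Equiv Model Cfsg.Agent.Lib.A9Norm79 Subgroup

universe u

/-! ### Generalities -/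

/-- An involution without fixed points on an odd subgroup inverts it. -/
theorem inverts_of_free {G : Type u} [Group G] [Finite G] {A : Subgroup G} {e : G}
    (hA : Odd (Nat.card A)) (hn : ∀ x ∈ A, e * x * e⁻¹ ∈ A) (he : e * e = 1)
    (hfree : ∀ x ∈ A, Commute e x → x = 1) : ∀ x ∈ A, e * x * e⁻¹ = x⁻¹ := by
  let φ : A → A := fun x => ⟨(x : G)⁻¹ * (e * x * e⁻¹), mul_mem (inv_mem x.2) (hn x x.2)⟩
  have hinj : Function.Injective φ := by
    intro x y h
    have h1 : (x : G)⁻¹ * (e * x * e⁻¹) = (y : G)⁻¹ * (e * y * e⁻¹) := congrArg Subtype.val h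
    have h2 : e * ((y : G) * (x : G)⁻¹) * e⁻¹ = (y : G) * (x : G)⁻¹ := by
      calc e * ((y : G) * (x : G)⁻¹) * e⁻¹
          = y * ((y : G)⁻¹ * (e * y * e⁻¹)) * (e * x * e⁻¹)⁻¹ := by group
        _ = y * ((x : G)⁻¹ * (e * x * e⁻¹)) * (e * x * e⁻¹)⁻¹ := by rw [h1]
        _ = _ := by group
    have h3 := hfree _ (mul_mem y.2 (inv_mem x.2)) (mul_inv_eq_iff_eq_mul.1 h2)
    exact Subtype.ext (mul_inv_eq_one.1 h3).symm
  intro x hx
  obtain ⟨y, hy⟩ := Finite.injective_iff_surjective.1 hinj ⟨x, hx⟩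
  have hy' : (y : G)⁻¹ * (e * y * e⁻¹) = x := congrArg Subtype.val hy
  rw [← hy']
  have he' : e⁻¹ = e := inv_eq_of_mul_eq_one_right he
  calc e * ((y : G)⁻¹ * (e * y * e⁻¹)) * e⁻¹ = e * (y : G)⁻¹ * e * y * (e⁻¹ * e⁻¹) := by group
    _ = e * (y : G)⁻¹ * e⁻¹ * y := by rw [he', he, mul_one]
    _ = ((y : G)⁻¹ * (e * y * e⁻¹))⁻¹ := by group

/-- An involution commuting with no other conjugate is alone in every two-subgroup. -/
theorem isolated_of_no_comm {Q : Type u} [Group Q] [Finite Q] {x : Q} (hx : x * x = 1)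
    (h : ∀ g : Q, Commute (g * x * g⁻¹) x → g * x * g⁻¹ = x) (P : Subgroup Q) (hP : IsPGroup 2 P)
    (hxP : x ∈ P) (g : Q) (hg : g * x * g⁻¹ ∈ P) : g * x * g⁻¹ = x := by
  set y := g * x * g⁻¹ with hy
  have hyy : y * y = 1 := by rw [hy, ← conj_mul, hx, mul_one, mul_inv_cancel]
  have hinv : (x * y)⁻¹ = y * x := inv_eq_of_mul_eq_one_right (by
    rw [mul_assoc, ← mul_assoc y y, hyy, one_mul, hx])
  obtain ⟨n, hn⟩ := hP ⟨x * y, mul_mem hxP hg⟩
  have hn' : (x * y) ^ 2 ^ n = 1 := congrArg Subtype.val hn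
  clear hn
  induction n with
  | zero =>
    rw [pow_zero, pow_one] at hn'
    exact (mul_left_cancel (hn'.trans hx.symm))
  | succ n ih =>
    cases n with
    | zero =>
      refine h g ?_
      have h2 : x * y = y * x := by
        rw [← hinv]
        exact eq_inv_of_mul_eq_one_left (by rw [← pow_two]; simpa using hn')
      exact h2.symm
    | succ m =>
      refine ih ?_
      set u := (x * y) ^ 2 ^ m
      have hux : ∀ k : ℕ, x * (x * y) ^ k * x = ((x * y)⁻¹) ^ k := by
        intro k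
        induction k with
        | zero => rw [pow_zero, mul_one, hx, pow_zero]
        | succ k ihk =>
          rw [pow_succ, pow_succ, ← ihk, hinv]
          calc x * ((x * y) ^ k * (x * y)) * x = x * (x * y) ^ k * x * (y * x) := by
                simp only [mul_assoc]
            _ = _ := rfl
      have hxi : x⁻¹ = x := inv_eq_of_mul_eq_one_right hx
      have hr : u * x * u⁻¹ = (x * y) ^ 2 ^ (m + 1) * x := by
        have h1 : x * u⁻¹ * x = u := by
          have := congrArg Inv.inv (hux (2 ^ m))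
          rwa [inv_pow, inv_inv, mul_inv_rev, mul_inv_rev, hxi, ← mul_assoc] at this
        calc u * x * u⁻¹ = u * (x * u⁻¹ * x) * x := by
              rw [mul_assoc, mul_assoc, mul_assoc, mul_assoc, hx, mul_one]
          _ = u * u * x := by rw [h1]
          _ = _ := by rw [← pow_add, pow_succ, Nat.mul_two]
      have hconj : (u * g) * x * (u * g)⁻¹ = u * y * u⁻¹ := by rw [hy]; group
      have hrx : Commute (u * x * u⁻¹) x := by
        rw [hr]
        show _ * x * x = x * (_ * x)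
        rw [mul_assoc, hx, mul_one, ← mul_assoc, hux, inv_pow, eq_inv_iff_mul_eq_one, ← pow_add,
          ← Nat.mul_two, ← pow_succ]
        exact hn'
      have h1 := h u hrx
      rw [hr] at h1
      exact mul_right_cancel (h1.trans (one_mul x).symm)

namespace Model

/-- The inclusion of the even permutations of `{0, …, 4}`. -/
def inc5 : alternatingGroup (Fin 5) →* A9 :=
  ((((finSumFinEquiv (m := 5) (n := 4)).permCongrHom.toMonoidHom.comp
    (Perm.sumCongrHom (Fin 5) (Fin 4))).comp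
      (MonoidHom.inl (Perm (Fin 5)) (Perm (Fin 4)))).comp
        (alternatingGroup (Fin 5)).subtype).codRestrict _ fun p => Perm.mem_alternatingGroup.2 (by
      show Perm.sign ((finSumFinEquiv (m := 5) (n := 4)).permCongr (Perm.sumCongr (p : Perm (Fin 5)) 1)) = 1
      rw [Perm.sign_permCongr, Perm.sign_sumCongr, Perm.mem_alternatingGroup.1 p.2, map_one, one_mul])

theorem inc5_fix (p : alternatingGroup (Fin 5)) (j : Fin 4) :
    (inc5 p : Perm (Fin 9)) (finSumFinEquiv (m := 5) (n := 4) (Sum.inr j)) =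
      finSumFinEquiv (m := 5) (n := 4) (Sum.inr j) := by
  show (finSumFinEquiv (m := 5) (n := 4)).permCongr (Perm.sumCongr (p : Perm (Fin 5)) 1) _ = _
  rw [Equiv.permCongr_apply, Equiv.symm_apply_apply]
  rfl

theorem fix_low : ∀ i : Fin 9, (∀ j : Fin 4, i ≠ finSumFinEquiv (m := 5) (n := 4) (Sum.inr j)) →
    iota (ew : PP) i = i ∧ iota (ew' : PP) i = i := by decide +kernel

theorem supp_high : ∀ i : Fin 9, iota (ew : PP) i ≠ i →
    i = 5 ∨ i = iota (ew : PP) 5 ∨ i = iota (ew' : PP) 5 ∨ i = iota ((ew * ew' : L) : PP) 5 := by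
  decide +kernel

theorem high_orbit : ∀ j : Fin 4, let i := finSumFinEquiv (m := 5) (n := 4) (Sum.inr j)
    i = 5 ∨ i = iota (ew : PP) 5 ∨ i = iota (ew' : PP) 5 ∨ i = iota ((ew * ew' : L) : PP) 5 := by
  decide +kernel

theorem inc5_comm (p : alternatingGroup (Fin 5)) :
    inc5 p * el9 ew = el9 ew * inc5 p ∧ inc5 p * el9 ew' = el9 ew' * inc5 p := by
  have key : ∀ v : L, (∀ i : Fin 9, (∀ j : Fin 4, i ≠ finSumFinEquiv (m := 5) (n := 4) (Sum.inr j)) →
      iota (v : PP) i = i) →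
      (∀ j : Fin 4, ∃ j' : Fin 4, iota (v : PP) (finSumFinEquiv (m := 5) (n := 4) (Sum.inr j)) =
        finSumFinEquiv (m := 5) (n := 4) (Sum.inr j')) →
      inc5 p * el9 v = el9 v * inc5 p := by
    intro v hlow hhigh
    refine Subtype.ext (Equiv.ext fun i => ?_)
    show (inc5 p : Perm (Fin 9)) (iota (v : PP) i) = iota (v : PP) ((inc5 p : Perm (Fin 9)) i)
    by_cases h : ∀ j : Fin 4, i ≠ finSumFinEquiv (m := 5) (n := 4) (Sum.inr j)
    · rw [hlow i h, hlow]
      intro j hj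
      have h2 : (inc5 p : Perm (Fin 9)) i = (inc5 p : Perm (Fin 9))
          (finSumFinEquiv (m := 5) (n := 4) (Sum.inr j)) := by rw [inc5_fix]; exact hj
      exact h j (Equiv.injective _ h2)
    · push Not at h
      obtain ⟨j, rfl⟩ := h
      obtain ⟨j', hj'⟩ := hhigh j
      rw [inc5_fix, hj', inc5_fix]
  exact ⟨key ew (fun i h => (fix_low i h).1) (by decide +kernel),
    key ew' (fun i h => (fix_low i h).2) (by decide +kernel)⟩

/-- A permutation of odd order commuting with the four-group lies in the small alternating group. -/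
theorem exists_inc5 {p : A9} (hodd : Odd (orderOf p)) (h1 : p * el9 ew = el9 ew * p)
    (h2 : p * el9 ew' = el9 ew' * p) : ∃ q, inc5 q = p := by
  have hp : ∀ {v : L}, p * el9 v = el9 v * p → ∀ i, (p : Perm (Fin 9)) (iota (v : PP) i) =
      iota (v : PP) ((p : Perm (Fin 9)) i) := fun h i =>
    Equiv.congr_fun (congrArg Subtype.val h) i
  have h12 : p * el9 (ew * ew') = el9 (ew * ew') * p := by
    rw [map_mul, ← mul_assoc, h1, mul_assoc, h2, mul_assoc]
  -- all four points are moved like the first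
  have hall : ∀ {r : Perm (Fin 9)}, (∀ i, r (iota (ew : PP) i) = iota (ew : PP) (r i)) →
      (∀ i, r (iota (ew' : PP) i) = iota (ew' : PP) (r i)) →
      (∀ i, r (iota ((ew * ew' : L) : PP) i) = iota ((ew * ew' : L) : PP) (r i)) → r 5 = 5 →
      ∀ j : Fin 4, r (finSumFinEquiv (m := 5) (n := 4) (Sum.inr j)) =
        finSumFinEquiv (m := 5) (n := 4) (Sum.inr j) := by
    intro r c1 c2 c3 h5 j
    rcases high_orbit j with h | h | h | h <;> rw [h]
    exacts [h5, by rw [c1, h5], by rw [c2, h5], by rw [c3, h5]]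
  have h5 : (p : Perm (Fin 9)) 5 = 5 := by
    have hm : iota (ew : PP) ((p : Perm (Fin 9)) 5) ≠ (p : Perm (Fin 9)) 5 := by
      rw [← hp h1]
      exact fun e => absurd ((p : Perm (Fin 9)).injective e) (by decide +kernel)
    -- the square fixes the point
    have hsq : ((p * p : A9) : Perm (Fin 9)) 5 = 5 := by
      show (p : Perm (Fin 9)) ((p : Perm (Fin 9)) 5) = 5
      rcases supp_high _ hm with h | h | h | h <;> rw [h]
      · exact h
      · rw [hp h1, h]; decide +kernel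
      · rw [hp h2, h]; decide +kernel
      · rw [hp h12, h]; decide +kernel
    obtain ⟨m, hm'⟩ := hodd
    have e : p = (p * p) ^ (m + 1) := by
      rw [← pow_two, ← pow_mul, show 2 * (m + 1) = orderOf p + 1 by omega, pow_succ, pow_orderOf_eq_one,
        one_mul]
    have hk : ∀ k : ℕ, (((p * p) ^ k : A9) : Perm (Fin 9)) 5 = 5 := by
      intro k
      induction k with
      | zero => rfl
      | succ k ih =>
        rw [pow_succ]
        show (((p * p) ^ k : A9) : Perm (Fin 9)) (((p * p : A9) : Perm (Fin 9)) 5) = 5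
        rw [hsq, ih]
    rw [e]
    exact hk _
  have hfix := hall (hp h1) (hp h2) (hp h12) h5
  set e9 := finSumFinEquiv (m := 5) (n := 4)
  set σ : Perm (Fin 5 ⊕ Fin 4) := e9.symm.permCongr (p : Perm (Fin 9)) with hσ
  have hr : ∀ j, σ (Sum.inr j) = Sum.inr j := fun j => by
    rw [hσ, Equiv.permCongr_apply, Equiv.symm_symm, hfix, Equiv.symm_apply_apply]
  have hmaps : Set.MapsTo σ (Set.range Sum.inl) (Set.range Sum.inl) := by
    rintro - ⟨i, rfl⟩
    rcases hs : σ (Sum.inl i) with i' | j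
    · exact ⟨i', rfl⟩
    · exact absurd (σ.injective (hs.trans (hr j).symm)) (by simp)
  obtain ⟨⟨a, b⟩, hab⟩ := Perm.mem_sumCongrHom_range_of_perm_mapsTo_inl hmaps
  have hb : b = 1 := Equiv.ext fun j => by
    have h := hr j
    rw [← hab] at h
    exact Sum.inr_injective h
  subst hb
  have hpv : (p : Perm (Fin 9)) = e9.permCongr (Perm.sumCongr a 1) := by
    rw [show Perm.sumCongr a (1 : Perm (Fin 4)) = σ from hab]
    ext i
    simp [hσ, Equiv.permCongr_apply]
  refine ⟨⟨a, Perm.mem_alternatingGroup.2 ?_⟩, Subtype.ext hpv.symm⟩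
  have h := Perm.mem_alternatingGroup.1 p.2
  rw [hpv, Perm.sign_permCongr, Perm.sign_sumCongr, map_one, mul_one] at h
  exact h

theorem cent_ef : ∀ x : L, x * ew = ew * x → x * ef = ef * x →
    (x ^ 15 = 1 → x = 1 ∨ x = la ∨ x = la * la) ∧ (x ^ 5 = 1 → x = 1) := by decide +kernel

theorem cent_la_ew : ∀ x : L, x * la = la * x → x * ew = ew * x → x ^ 15 = 1 → x * ew' = ew' * x := by
  decide +kernel

theorem pow_sixty_six : ∀ q : Perm (Fin 6), q ^ 60 = 1 := by decide +kernel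

theorem pow_sixty_three : ∀ p : Perm (Fin 3), p ^ 60 = 1 := by decide +kernel

theorem pow_fifteen {x : L} (h : Odd (orderOf x)) : x ^ 15 = 1 := by
  have h60 : x ^ 60 = 1 := Subtype.ext (Prod.ext
    (by show ((x : PP) ^ 60).1 = 1; rw [Prod.pow_fst]; exact pow_sixty_three _)
    (by show ((x : PP) ^ 60).2 = 1; rw [Prod.pow_snd]; exact pow_sixty_six _))
  refine orderOf_dvd_iff_pow_eq_one.1 ?_
  have hco : (orderOf x).Coprime 4 := (Nat.coprime_two_right.2 h).pow_right 2
  exact hco.dvd_of_dvd_mul_left (show orderOf x ∣ 4 * 15 from orderOf_dvd_of_pow_eq_one h60)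

/-- `(0 3)(1 4)` and `(1 3)(2 4)`. -/
def g5 : Fin 2 → alternatingGroup (Fin 5) :=
  ![⟨swap 0 3 * swap 1 4, Perm.mem_alternatingGroup.2 (by decide +kernel)⟩,
    ⟨swap 1 3 * swap 2 4, Perm.mem_alternatingGroup.2 (by decide +kernel)⟩]

/-- `(1 2)(5 6)`. -/
def s12 : L := mk (swap 1 2) (swap 2 3)

theorem g5_conj : inc5 (g5 0) * el9 s6' = el9 ef * inc5 (g5 0) ∧
    inc5 (g5 1) * el9 s12 = el9 ef * inc5 (g5 1) ∧ s6' * s12 = la ∧ la * ew' = ew' * la ∧
    s6' * ew = ew * s6' ∧ s12 * ew = ew * s12 ∧ s6' * s6' = 1 ∧ s12 * s12 = 1 ∧ ew' * ew' = 1 ∧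
    ef * ef = 1 ∧ ew * ew = 1 ∧ ew ≠ 1 ∧ ew' ≠ 1 ∧ ew ≠ ew' ∧ ew * ew' ≠ 1 ∧ ew' * ew = ew * ew' := by
  decide +kernel

/-- `(0 1)(2 3)` and a five-cycle. -/
def t5 : alternatingGroup (Fin 5) × alternatingGroup (Fin 5) :=
  (⟨swap 0 1 * swap 2 3, Perm.mem_alternatingGroup.2 (by decide +kernel)⟩,
   ⟨swap 0 1 * swap 1 2 * (swap 2 3 * swap 3 4), Perm.mem_alternatingGroup.2 (by decide +kernel)⟩)

theorem t5_facts : t5.1 * t5.1 = 1 ∧ t5.1 ≠ 1 ∧ t5.2 ^ 5 = 1 ∧ t5.2 ≠ 1 := by decide +kernel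

theorem inc5_injective : Function.Injective inc5 := fun p q h => Subtype.ext (by
  have h1 : (finSumFinEquiv (m := 5) (n := 4)).permCongr (Perm.sumCongr (p : Perm (Fin 5)) 1) =
      (finSumFinEquiv (m := 5) (n := 4)).permCongr (Perm.sumCongr (q : Perm (Fin 5)) 1) :=
    congrArg Subtype.val h
  have h2 := Perm.sumCongrHom_injective (Equiv.injective _ h1 :
    Perm.sumCongrHom (Fin 5) (Fin 4) ((p : Perm (Fin 5)), 1) =
      Perm.sumCongrHom (Fin 5) (Fin 4) ((q : Perm (Fin 5)), 1))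
  exact congrArg Prod.fst h2)

/-- Number of moved points. -/
def moved (p : Perm (Fin 9)) : ℕ := (Finset.univ.filter fun i => p i ≠ i).card

/-- A conjugator between the pairs of the two types. -/
def pairConj (a b : Fin 5) (s : Bool) : Perm (Fin 9) :=
  let a' : Fin 9 := Fin.castLE (by norm_num) a
  let b' : Fin 9 := Fin.castLE (by norm_num) b
  let q := swap 3 a'
  let p := swap 4 (q b') * q
  let p' := if Perm.sign p = 1 then p else swap 3 4 * p
  if s then swap 5 7 * swap 6 8 * p' else p'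

theorem pairConj_spec : ∀ a b : Fin 5, a ≠ b → ∀ s : Bool,
    Perm.sign (pairConj a b s) = 1 ∧ pairConj a b s * iota (ew : PP) = iota (ew : PP) * pairConj a b s ∧
    pairConj a b s * (swap (Fin.castLE (by norm_num) a) (Fin.castLE (by norm_num) b) *
        (if s then swap 7 8 else swap 5 6)) = iota (ef : PP) * pairConj a b s := by decide +kernel

theorem classify : ∀ a b c d : Fin 9,
    swap a b * swap c d * iota (ew : PP) = iota (ew : PP) * (swap a b * swap c d) →
    moved (swap a b * swap c d) = 4 → moved (swap a b * swap c d * iota (ew : PP)) = 4 →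
    swap a b * swap c d = iota (ew' : PP) ∨ swap a b * swap c d = iota ((ew * ew' : L) : PP) ∨
    ∃ a' b' : Fin 5, a' ≠ b' ∧ ∃ s : Bool, swap a b * swap c d =
      swap (Fin.castLE (by norm_num) a') (Fin.castLE (by norm_num) b') *
        (if s then swap 7 8 else swap 5 6) := by decide +kernel

theorem ew_form : iota (ew : PP) = swap 5 6 * swap 7 8 ∧ moved (iota (ew : PP)) = 4 ∧
    moved (iota (ei : PP)) = 8 := by decide +kernel

theorem E_action : ∀ x y : Fin 3, x ≠ y → ∃ l : L, l * ew = ![ew, ew', ew * ew'] x * l ∧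
    l * ew' = ![ew, ew', ew * ew'] y * l := by decide +kernel

end Model

/-! ### The two classes -/

theorem moved_conj (c p : Perm (Fin 9)) : moved (c * p * c⁻¹) = moved p := by
  unfold moved
  refine Finset.card_bij (fun i _ => c⁻¹ i) ?_ ?_ ?_
  · intro i hi
    simp only [Finset.mem_filter, Finset.mem_univ, true_and, Perm.mul_apply, ne_eq] at hi ⊢
    intro h
    exact hi (by rw [h]; simp)
  · intro i _ j _ h; exact Equiv.injective _ h
  · intro i hi
    refine ⟨c i, ?_, by simp⟩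
    simp only [Finset.mem_filter, Finset.mem_univ, true_and, Perm.mul_apply, ne_eq] at hi ⊢
    simpa using hi

/-- Every involution of `A₉` is conjugate to one of two. -/
theorem invol_class {p : A9} (h : p * p = 1) (h1 : p ≠ 1) :
    IsConj p (el9 ew) ∨ IsConj p (el9 ei) := by
  haveI : Fact (Nat.Prime 2) := ⟨Nat.prime_two⟩
  have hp : (p : Perm (Fin 9)) ^ 2 = 1 := by rw [pow_two]; exact congrArg Subtype.val h
  have key : ∀ v : L, v * v = 1 → moved (iota (v : PP)) = moved (p : Perm (Fin 9)) →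
      swap 0 1 * iota (v : PP) = iota (v : PP) * swap 0 1 → IsConj p (el9 v) := by
    intro v hv hm hs
    have hv2 : iota (v : PP) ^ 2 = 1 := by
      rw [pow_two, ← map_mul, ← Subgroup.coe_mul, hv, Subgroup.coe_one, map_one]
    have hcard : ∀ q : Perm (Fin 9),
        Fintype.card (Function.fixedPoints q) = 9 - moved q := by
      intro q
      unfold moved
      rw [Fintype.card_subtype, Finset.card_filter_add_card_filter_not (s := Finset.univ)
        (fun i => q i ≠ i) |> fun h => (Nat.eq_sub_of_add_eq' h)]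
      simp [Function.fixedPoints, Function.IsFixedPt]
    have hconj : IsConj (p : Perm (Fin 9)) (iota (v : PP)) := by
      rw [Perm.isConj_iff_cycleType_eq, Perm.cycleType_of_pow_prime_eq_one hp,
        Perm.cycleType_of_pow_prime_eq_one hv2]
      congr 2
      rw [hcard, hcard, hm]
    obtain ⟨c, hc⟩ := isConj_iff.1 hconj
    rcases Int.units_eq_one_or (Perm.sign c) with hsc | hsc
    · exact isConj_iff.2 ⟨⟨c, Perm.mem_alternatingGroup.2 hsc⟩, Subtype.ext hc⟩
    · refine isConj_iff.2 ⟨⟨swap 0 1 * c, Perm.mem_alternatingGroup.2 ?_⟩, Subtype.ext ?_⟩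
      · rw [map_mul, hsc, Perm.sign_swap (by decide)]; rfl
      · show swap 0 1 * c * (p : Perm (Fin 9)) * (swap 0 1 * c)⁻¹ = iota (v : PP)
        rw [show swap 0 1 * c * (p : Perm (Fin 9)) * (swap 0 1 * c)⁻¹ =
          swap 0 1 * (c * (p : Perm (Fin 9)) * c⁻¹) * (swap 0 1)⁻¹ by group, hc, hs, mul_inv_cancel_right]
  have hm : moved (p : Perm (Fin 9)) = 4 ∨ moved (p : Perm (Fin 9)) = 8 := by
    have hct := Perm.cycleType_of_pow_prime_eq_one hp
    set k := (Fintype.card (Fin 9) - Fintype.card (Function.fixedPoints (p : Perm (Fin 9)))) / 2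
    have hsupp : moved (p : Perm (Fin 9)) = 2 * k := by
      have h := Perm.sum_cycleType (p : Perm (Fin 9))
      rw [hct, Multiset.sum_replicate, smul_eq_mul] at h
      rw [mul_comm, h]
      rfl
    have hs := Perm.mem_alternatingGroup.1 p.2
    rw [Perm.sign_of_cycleType_eq_replicate (n := 2) (by norm_num) hct, if_neg (by decide)] at hs
    have hk : Even k := by
      by_contra hk
      rw [Nat.not_even_iff_odd] at hk
      rw [hk.neg_one_pow] at hs
      exact absurd hs (by decide)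
    have hle : moved (p : Perm (Fin 9)) ≤ 9 := (Finset.card_le_univ _).trans (by simp)
    have hne : k ≠ 0 := fun e => h1 (Subtype.ext (Perm.cycleType_eq_zero.1 (by
      rw [hct]; show Multiset.replicate k 2 = 0; rw [e]; rfl)))
    obtain ⟨j, hj⟩ := hk
    omega
  rcases hm with hm | hm
  · exact Or.inl (key ew (by decide +kernel) (by rw [hm, ew_form.2.1]) (by decide +kernel))
  · exact Or.inr (key ei (by decide +kernel) (by rw [hm, ew_form.2.2]) (by decide +kernel))

namespace Emb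

variable {G : Type u} [Group G] [Finite G] {C : Cfg G} {T : Th C} (F : Emb T)

/-- The copy of `A₉`. -/
def R : Subgroup G := F.f.range

theorem f_mem (p : A9) : F.f p ∈ F.R := ⟨p, rfl⟩

theorem Θ_mem (x : L) : T.Θ x ∈ F.R := F.fL x ▸ F.f_mem _

theorem m_mem (x : L) : T.m x ∈ F.R := F.fm x ▸ F.f_mem _

theorem mem_of_comm_la {g : G} (h : Commute g (T.Θ la)) : g ∈ F.R := by
  obtain ⟨x, -, rfl⟩ := T.exists_of_comm h.eq
  exact F.Θ_mem x

theorem mem_of_comm_lc {g : G} (h : Commute g (T.Θ lc)) : g ∈ F.R := by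
  obtain ⟨x, -, rfl⟩ := T.exists_of_comm_lc h.eq
  exact F.m_mem x

theorem XX_E0_le {g : G} (hg : g ∈ T.XX E0) : g ∈ F.R := by
  obtain ⟨x, -, -, k, -, rfl⟩ := T.exists_of_XX_E0 hg
  exact mul_mem (F.m_mem x) (F.Θ_mem k)

theorem mem_XX_E0_iff {g : G} :
    g ∈ T.XX E0 ↔ Commute (T.Θ ew) g ∧ Commute (T.Θ ew') g := by
  rw [T.mem_XX]
  refine ⟨fun h => ⟨h _ (by simp [mem_E0]), h _ (by simp [mem_E0])⟩, fun ⟨h1, h2⟩ k hk => ?_⟩
  rcases hk with rfl | rfl | rfl | rfl
  exacts [by rw [map_one]; exact Commute.one_left _, h1, h2, by rw [map_mul]; exact h1.mul_left h2]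

theorem mem_XX_F0 {g : G} (h1 : Commute (T.Θ ew) g) (h2 : Commute (T.Θ ef) g) : g ∈ T.XX F0 := by
  rw [T.mem_XX]
  intro k hk
  rcases hk with rfl | rfl | rfl | rfl
  exacts [by rw [map_one]; exact Commute.one_left _, h1, h2, by rw [map_mul]; exact h1.mul_left h2]

theorem comm_iff {p q : A9} : Commute (F.f p) (F.f q) ↔ p * q = q * p := by
  constructor
  · intro h; exact F.inj (by rw [map_mul, map_mul]; exact h.eq)
  · intro h; exact (show Commute p q from h).map F.f

/-- Involutions of the copy conjugate to `(5 6)(7 8)` are so inside it. -/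
theorem exists_conj_ew {p : A9} (hc : IsConj (F.f p) (T.Θ ew)) : IsConj p (el9 ew) := by
  obtain ⟨c, hc'⟩ := isConj_iff.1 hc
  have hpp : p * p = 1 := F.inj (by
    have h2 : c * (F.f p * F.f p) * c⁻¹ = 1 := by
      rw [← conj_mul, hc', ← map_mul, g5_conj.2.2.2.2.2.2.2.2.2.2.1, map_one]
    rw [map_mul, map_one]
    exact conj_eq_one_iff.1 h2)
  have hp1 : p ≠ 1 := fun e => by
    rw [e, map_one, mul_one, mul_inv_cancel] at hc'
    exact g5_conj.2.2.2.2.2.2.2.2.2.2.2.1 (T.inj (hc'.symm.trans (map_one T.Θ).symm))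
  refine (invol_class hpp hp1).resolve_right fun h => T.not_ei_ew ?_
  have h2 := F.f.map_isConj h
  rw [F.fL] at h2
  exact hc.symm.trans h2

/-- An odd subgroup of the centraliser of `(5 6)(7 8)` normalised by it is trivial. -/
theorem odd_trivial {A : Subgroup G} (hA : ∀ x ∈ A, Commute (T.Θ ew) x)
    (hn : ∀ g, Commute (T.Θ ew) g → ∀ x ∈ A, g * x * g⁻¹ ∈ A) (hodd : Odd (Nat.card A)) :
    A = ⊥ := by
  classical
  obtain ⟨c1, c2, hs, hlaw, hs1, hs2, q1, q2, q3, q4, -⟩ := g5_conj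
  have hord : ∀ x ∈ A, Odd (orderOf x) := fun x hx => hodd.of_dvd_nat (Subgroup.orderOf_dvd_natCard A hx)
  have fc : ∀ (g : alternatingGroup (Fin 5)), Commute (T.Θ ew) (F.f (inc5 g)) := fun g => by
    rw [← F.fL]; exact F.comm_iff.2 (inc5_comm g).1.symm
  -- fixed points of the four-group
  have hfix : ∀ x ∈ A, Commute (T.Θ ew') x → x = 1 := by
    intro x hx hxc
    obtain ⟨p, rfl⟩ := F.XX_E0_le (mem_XX_E0_iff.2 ⟨hA x hx, hxc⟩)
    have hpo : Odd (orderOf p) := orderOf_injective F.f F.inj p ▸ hord _ hx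
    have h1 := hA _ hx
    rw [← F.fL, F.comm_iff] at h1
    rw [← F.fL, F.comm_iff] at hxc
    obtain ⟨q, rfl⟩ := exists_inc5 hpo h1.symm hxc.symm
    set N := A.comap (F.f.comp inc5)
    haveI : N.Normal := ⟨fun n hn' g => by
      show F.f (inc5 (g * n * g⁻¹)) ∈ A
      rw [map_mul, map_mul, map_inv, map_mul, map_mul, map_inv]
      exact hn _ (fc g) _ hn'⟩
    haveI : IsSimpleGroup (alternatingGroup (Fin 5)) := alternatingGroup.isSimpleGroup (by simp)
    rcases (inferInstance : N.Normal).eq_bot_or_eq_top with hN | hN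
    · have hq : q ∈ N := hx
      rw [hN, mem_bot] at hq
      rw [hq, map_one, map_one]
    · exfalso
      have ht : t5.1 ∈ N := hN ▸ mem_top _
      have h2 : orderOf (F.f (inc5 t5.1)) = 2 := by
        haveI : Fact (Nat.Prime 2) := ⟨Nat.prime_two⟩
        refine orderOf_eq_prime ?_ fun h => t5_facts.2.1 ?_
        · rw [pow_two, ← map_mul, ← map_mul, t5_facts.1, map_one, map_one]
        · exact inc5_injective ((F.inj (h.trans (map_one F.f).symm)).trans (map_one inc5).symm)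
      exact absurd (h2 ▸ hord _ ht) (by decide)
  have hinv' := inverts_of_free hodd
    (fun x hx => hn _ (((show Commute ew ew' from g5_conj.2.2.2.2.2.2.2.2.2.2.2.2.2.2.2.symm).map T.Θ)) x hx)
    (by rw [← map_mul, q3, map_one]) hfix
  have one_of : ∀ x ∈ A, x * x = 1 → x = 1 := fun x hx h => by
    have h1 : orderOf x ∣ 2 := orderOf_dvd_of_pow_eq_one (by rw [pow_two]; exact h)
    rcases (Nat.dvd_prime Nat.prime_two).1 h1 with h2 | h2
    · exact orderOf_eq_one_iff.1 h2
    · exact absurd (h2 ▸ hord x hx) (by decide)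
  have one_inv : ∀ x ∈ A, Commute (T.Θ ew') x → x = 1 := hfix
  have hfef : ∀ x ∈ A, Commute (T.Θ ef) x → x = 1 := by
    intro x hx hxc
    obtain ⟨l, rfl⟩ := T.mem_range_of_XX_F0 (mem_XX_F0 (hA x hx) hxc)
    have hlo : Odd (orderOf l) := orderOf_injective T.Θ T.inj l ▸ hord _ hx
    have e1 : l * ew = ew * l := T.inj (by rw [map_mul, map_mul]; exact (hA _ hx).eq.symm)
    have e2 : l * ef = ef * l := T.inj (by rw [map_mul, map_mul]; exact hxc.eq.symm)
    refine one_inv _ hx ?_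
    rcases (cent_ef l e1 e2).1 (pow_fifteen hlo) with rfl | rfl | rfl
    · rw [map_one]; exact Commute.one_right _
    · exact (show Commute ew' la from hlaw.symm).map T.Θ
    · exact ((show Commute ew' la from hlaw.symm).mul_right (show Commute ew' la from hlaw.symm)).map T.Θ
  have hconj : ∀ (g : alternatingGroup (Fin 5)) (s : L), inc5 g * el9 s = el9 ef * inc5 g →
      ∀ x ∈ A, Commute (T.Θ s) x → x = 1 := by
    intro g s hgs x hx hxc
    have h := hfef _ (hn _ (fc g) x hx) (by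
      have e : T.Θ ef = F.f (inc5 g) * T.Θ s * (F.f (inc5 g))⁻¹ := by
        rw [← F.fL, ← F.fL, ← map_mul, hgs, map_mul, mul_inv_cancel_right]
      rw [e]
      exact (Commute.conj_iff _).2 hxc)
    exact conj_eq_one_iff.1 h
  have hi1 := inverts_of_free hodd (fun x hx => hn _ ((show Commute ew s6' from hs1.symm).map T.Θ) x hx)
    (by rw [← map_mul, q1, map_one]) (hconj _ _ c1)
  have hi2 := inverts_of_free hodd (fun x hx => hn _ ((show Commute ew s12 from hs2.symm).map T.Θ) x hx)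
    (by rw [← map_mul, q2, map_one]) (hconj _ _ c2)
  refine (eq_bot_iff_forall _).2 fun x hx => ?_
  have hla : Commute x (T.Θ la) := by
    have h2 : T.Θ la * x * (T.Θ la)⁻¹ = x := by
      rw [← hs, map_mul]
      calc T.Θ s6' * T.Θ s12 * x * (T.Θ s6' * T.Θ s12)⁻¹
          = T.Θ s6' * (T.Θ s12 * x * (T.Θ s12)⁻¹) * (T.Θ s6')⁻¹ := by group
        _ = T.Θ s6' * x⁻¹ * (T.Θ s6')⁻¹ := by rw [hi2 x hx]
        _ = x := by rw [hi1 _ (inv_mem hx), inv_inv]
    exact (mul_inv_eq_iff_eq_mul.1 h2).symm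
  obtain ⟨l, hl, rfl⟩ := T.exists_of_comm hla.eq
  refine one_inv _ hx ?_
  have hlo : Odd (orderOf l) := orderOf_injective T.Θ T.inj l ▸ hord _ hx
  exact (show Commute l ew' from cent_la_ew l hl (T.inj (by rw [map_mul, map_mul]; exact (hA _ hx).eq.symm))
    (pow_fifteen hlo)).symm.map T.Θ

/-- An element mapping `(5 6)(7 8)` and `(5 7)(6 8)` into their four-group. -/
theorem mem_of_E {g : G} (h1 : ∃ x : Fin 3, g * T.Θ ew * g⁻¹ = T.Θ (![ew, ew', ew * ew'] x))
    (h2 : ∃ y : Fin 3, g * T.Θ ew' * g⁻¹ = T.Θ (![ew, ew', ew * ew'] y)) : g ∈ F.R := by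
  obtain ⟨x, hx⟩ := h1
  obtain ⟨y, hy⟩ := h2
  have hne : x ≠ y := fun e => by
    rw [e] at hx
    exact g5_conj.2.2.2.2.2.2.2.2.2.2.2.2.2.1 (T.inj (mul_left_cancel (mul_right_cancel (hx.trans hy.symm))))
  obtain ⟨l, hl1, hl2⟩ := E_action x y hne
  have key : ∀ (v v' : L), l * v = v' * l → g * T.Θ v * g⁻¹ = T.Θ v' →
      Commute (T.Θ v) ((T.Θ l)⁻¹ * g) := by
    intro v v' hv hg
    rw [show v' = l * v * l⁻¹ by rw [hv, mul_inv_cancel_right], map_mul, map_mul, map_inv] at hg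
    refine (mul_inv_eq_iff_eq_mul.1 ?_).symm
    calc (T.Θ l)⁻¹ * g * T.Θ v * ((T.Θ l)⁻¹ * g)⁻¹
        = (T.Θ l)⁻¹ * (g * T.Θ v * g⁻¹) * T.Θ l := by group
      _ = T.Θ v := by rw [hg]; group
  have h := F.XX_E0_le (mem_XX_E0_iff.2 ⟨key _ _ hl1 hx, key _ _ hl2 hy⟩)
  simpa using mul_mem (F.Θ_mem l) h

/-- A conjugate of `(5 7)(6 8)` under the centraliser of `(5 6)(7 8)` nearly commuting with it. -/
theorem conj_mem_E {g : G} (hg : Commute (T.Θ ew) g)
    (hc : g * T.Θ ew' * g⁻¹ * T.Θ ew' * (g * T.Θ ew' * g⁻¹)⁻¹ = T.Θ ew' ∨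
      g * T.Θ ew' * g⁻¹ * T.Θ ew' * (g * T.Θ ew' * g⁻¹)⁻¹ = T.Θ (ew * ew')) :
    g * T.Θ ew' * g⁻¹ = T.Θ ew' ∨ g * T.Θ ew' * g⁻¹ = T.Θ (ew * ew') := by
  set z := g * T.Θ ew' * g⁻¹ with hz
  obtain ⟨-, -, -, -, -, -, -, -, q3, q4, q5, qw, qw', -⟩ := g5_conj
  have hgw : g * T.Θ ew * g⁻¹ = T.Θ ew := by rw [hg.symm.eq, mul_inv_cancel_right]
  have hzw : z * T.Θ ew * z⁻¹ = T.Θ ew := by
    have h1 : Commute (T.Θ ew) z := by
      rw [← hgw, hz]
      exact (Commute.conj_iff g).2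
        ((show Commute ew ew' from g5_conj.2.2.2.2.2.2.2.2.2.2.2.2.2.2.2.symm).map T.Θ)
    rw [h1.symm.eq, mul_inv_cancel_right]
  have hzR : z ∈ F.R := F.mem_of_E ⟨0, hzw⟩ (hc.elim (fun h => ⟨1, h⟩) fun h => ⟨2, h⟩)
  obtain ⟨p, hp⟩ := hzR
  have hpc : IsConj p (el9 ew) := F.exists_conj_ew (by
    rw [hp]
    obtain ⟨l, hl, -⟩ := E_action 1 0 (by decide)
    exact (isConj_iff.2 ⟨g, rfl⟩).symm.trans (T.isConj_conj l ew ew' hl).symm)
  have hpw : IsConj (p * el9 ew) (el9 ew) := F.exists_conj_ew (by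
    rw [map_mul, hp, F.fL]
    obtain ⟨l, hl, -⟩ := E_action 2 0 (by decide)
    have e : z * T.Θ ew = g * T.Θ (ew * ew') * g⁻¹ := by
      rw [show ew * ew' = ew' * ew from g5_conj.2.2.2.2.2.2.2.2.2.2.2.2.2.2.2.symm, map_mul, hz]
      conv_lhs => rw [← hgw]
      group
    rw [e]
    exact (isConj_iff.2 ⟨g, rfl⟩).symm.trans (T.isConj_conj l ew (ew * ew') hl).symm)
  have hcm : p * el9 ew = el9 ew * p := F.inj (by
    rw [map_mul, map_mul, hp, F.fL]; exact mul_inv_eq_iff_eq_mul.1 hzw)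
  have hv : ∀ {q : A9}, IsConj q (el9 ew) → moved (q : Perm (Fin 9)) = 4 := by
    intro q hq
    obtain ⟨c, hc'⟩ := isConj_iff.1 hq
    rw [← moved_conj (c : Perm (Fin 9)), show (c : Perm (Fin 9)) * q * (c : Perm (Fin 9))⁻¹ = iota (ew : PP)
      from congrArg Subtype.val hc']
    exact ew_form.2.1
  obtain ⟨c, hc'⟩ := isConj_iff.1 hpc.symm
  set c' : Perm (Fin 9) := (c : Perm (Fin 9))
  have hpv : (p : Perm (Fin 9)) = swap (c' 5) (c' 6) * swap (c' 7) (c' 8) := by
    rw [← hc', Perm.swap_apply_apply c' 5 6, Perm.swap_apply_apply c' 7 8]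
    show c' * iota (ew : PP) * c'⁻¹ = _
    rw [ew_form.1]; group
  have hcm' : (p : Perm (Fin 9)) * iota (ew : PP) = iota (ew : PP) * (p : Perm (Fin 9)) :=
    congrArg Subtype.val hcm
  have h4 := hv hpw
  change moved ((p : Perm (Fin 9)) * iota (ew : PP)) = 4 at h4
  have h4' := hv hpc
  rw [hpv] at hcm' h4 h4'
  rcases classify _ _ _ _ hcm' h4' h4 with h | h | ⟨a, b, hab, s, h⟩
  · exact Or.inl (hp.symm.trans (by
      rw [← F.fL]; exact congrArg F.f (Subtype.ext (hpv.trans h))))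
  · exact Or.inr (hp.symm.trans (by
      rw [← F.fL]; exact congrArg F.f (Subtype.ext (hpv.trans h))))
  · exfalso
    obtain ⟨hs, hrw, hre⟩ := pairConj_spec a b hab s
    set r : A9 := ⟨pairConj a b s, Perm.mem_alternatingGroup.2 hs⟩
    have hr1 : r * el9 ew = el9 ew * r := Subtype.ext hrw
    have hr2 : r * p = el9 ef * r := Subtype.ext (by
      show pairConj a b s * (p : Perm (Fin 9)) = _
      rw [hpv, h]; exact hre)
    set x := F.f (inc5 t5.2)
    set y := F.f r * (g * x * g⁻¹) * (F.f r)⁻¹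
    have hxw : Commute (T.Θ ew) x := by rw [← F.fL]; exact F.comm_iff.2 (inc5_comm _).1.symm
    have hxw' : Commute (T.Θ ew') x := by rw [← F.fL]; exact F.comm_iff.2 (inc5_comm _).2.symm
    have hy : y ∈ T.XX F0 := by
      refine mem_XX_F0 ?_ ?_
      · have e : T.Θ ew = F.f r * (g * T.Θ ew * g⁻¹) * (F.f r)⁻¹ := by
          rw [hgw, ← F.fL, ← map_mul, hr1, map_mul, mul_inv_cancel_right]
        rw [e]
        exact (Commute.conj_iff _).2 ((Commute.conj_iff _).2 hxw)
      · have e : T.Θ ef = F.f r * z * (F.f r)⁻¹ := by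
          rw [← hp, ← F.fL, ← map_mul, hr2, map_mul, mul_inv_cancel_right]
        rw [e, hz]
        exact (Commute.conj_iff _).2 ((Commute.conj_iff _).2 hxw')
    obtain ⟨l, hl⟩ := T.mem_range_of_XX_F0 hy
    have h1 : Commute (T.Θ ew) (T.Θ l) := hl ▸ T.mem_XX.1 hy ew (by simp [mem_F0])
    have h2 : Commute (T.Θ ef) (T.Θ l) := hl ▸ T.mem_XX.1 hy ef (by simp [mem_F0])
    have hl5 : l ^ 5 = 1 := T.inj (by
      rw [map_pow, hl, map_one, conj_pow, conj_pow, ← map_pow, ← map_pow, t5_facts.2.2.1, map_one,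
        map_one, mul_one, mul_inv_cancel, mul_one, mul_inv_cancel])
    have hl1 := (cent_ef l (T.inj (by rw [map_mul, map_mul]; exact h1.eq.symm))
      (T.inj (by rw [map_mul, map_mul]; exact h2.eq.symm))).2 hl5
    rw [hl1, map_one] at hl
    exact t5_facts.2.2.2 (inc5_injective ((F.inj ((conj_eq_one_iff.1 (conj_eq_one_iff.1 hl.symm)).trans
      (map_one F.f).symm)).trans (map_one inc5).symm))

/-- The centraliser of `(5 6)(7 8)` lies in the copy of `A₉`. -/
theorem mem_of_comm_ew {g : G} (hg : Commute (T.Θ ew) g) : g ∈ F.R := by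
  classical
  obtain ⟨-, -, -, -, -, -, -, -, q3, q4, q5, qw, qw', qne, qne', qcomm⟩ := g5_conj
  set Y := centralizer ({T.Θ ew} : Set G)
  have memY : ∀ {y : G}, y ∈ Y ↔ Commute (T.Θ ew) y := fun {y} =>
    ⟨fun h => (mem_centralizer_singleton_iff.1 h : y * T.Θ ew = T.Θ ew * y).symm,
      fun h => mem_centralizer_singleton_iff.2 h.eq.symm⟩
  set wY : Y := ⟨T.Θ ew, memY.2 (Commute.refl _)⟩
  set Z := zpowers wY
  have hw2 : wY * wY = 1 := Subtype.ext (by show T.Θ ew * T.Θ ew = 1; rw [← map_mul, q5, map_one])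
  have hZ : ∀ z ∈ Z, z = 1 ∨ z = wY := by
    intro z hz
    obtain ⟨k, rfl⟩ := mem_zpowers_iff.1 hz
    have h2 : wY ^ (2 : ℤ) = 1 := by rw [zpow_two]; exact hw2
    rw [← Int.mul_ediv_add_emod k 2, zpow_add, zpow_mul, h2, one_zpow, one_mul]
    rcases Int.emod_two_eq_zero_or_one k with h | h <;> rw [h]
    · exact Or.inl (zpow_zero _)
    · exact Or.inr (zpow_one _)
  have hcent : ∀ z ∈ Z, ∀ y : Y, y * z = z * y := by
    intro z hz y
    rcases hZ z hz with rfl | rfl
    · simp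
    · exact Subtype.ext (memY.1 y.2).symm.eq
  haveI : Z.Normal := ⟨fun z hz y => by rw [hcent z hz y, mul_inv_cancel_right]; exact hz⟩
  set π := QuotientGroup.mk' Z
  have hπ1 : ∀ y : Y, π y = 1 ↔ y = 1 ∨ y = wY := fun y => by
    rw [QuotientGroup.mk'_apply, QuotientGroup.eq_one_iff]
    exact ⟨hZ y, by rintro (rfl | rfl); exacts [one_mem _, mem_zpowers _]⟩
  set e : Y := ⟨T.Θ ew', memY.2 ((show Commute ew ew' from qcomm.symm).map T.Θ)⟩
  set x := π e
  have hxx : x * x = 1 := by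
    rw [← map_mul, (hπ1 _).2 (Or.inl (Subtype.ext (by
      show T.Θ ew' * T.Θ ew' = 1; rw [← map_mul, q3, map_one])))]
  have hx1 : x ≠ 1 := fun h => by
    rcases (hπ1 _).1 h with h | h
    · exact qw' (T.inj ((congrArg Subtype.val h).trans (map_one T.Θ).symm))
    · exact qne (T.inj (congrArg Subtype.val h).symm)
  have hlift : ∀ u v : Y, π u = π v → (u : G) = v ∨ (u : G) = T.Θ ew * v := by
    intro u v h
    rcases (hπ1 (u * v⁻¹)).1 (by rw [map_mul, map_inv, h, mul_inv_cancel]) with h1 | h1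
    · exact Or.inl (congrArg Subtype.val (mul_inv_eq_one.1 h1))
    · exact Or.inr (congrArg Subtype.val (mul_inv_eq_iff_eq_mul.1 h1))
  have hno : ∀ q : Y ⧸ Z, Commute (q * x * q⁻¹) x → q * x * q⁻¹ = x := by
    intro q hq
    obtain ⟨y, rfl⟩ := QuotientGroup.mk'_surjective Z q
    have h1 : π (y * e * y⁻¹ * e * (y * e * y⁻¹)⁻¹) = π e := by
      simp only [map_mul, map_inv]
      exact mul_inv_eq_iff_eq_mul.2 hq.eq
    have h2 := hlift _ _ h1
    simp only [coe_mul, coe_inv, e] at h2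
    rw [← map_mul] at h2
    have h3 := F.conj_mem_E (g := (y : G)) (memY.1 y.2) h2
    rw [← map_inv, ← map_mul, ← map_mul]
    rcases h3 with h | h
    · exact congrArg π (Subtype.ext h)
    · have e2 : y * e * y⁻¹ = wY * e := Subtype.ext (by rw [map_mul] at h; exact h)
      rw [e2, map_mul, (hπ1 wY).2 (Or.inr rfl), one_mul]
  haveI : Fact (Nat.Prime 2) := ⟨Nat.prime_two⟩
  have hox : orderOf x = 2 := orderOf_eq_prime (by rw [pow_two]; exact hxx) hx1
  obtain ⟨P, hP⟩ := (IsPGroup.of_card (p := 2) (n := 1)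
    (by rw [Nat.card_zpowers, hox, pow_one]) : IsPGroup 2 (zpowers x)).exists_le_sylow
  obtain ⟨N, hN, hNodd, hcomm⟩ := HalfClasses.involutionThm (Y ⧸ Z) P x hox (hP (mem_zpowers _))
    fun q hq => isolated_of_no_comm hxx hno P P.isPGroup' (hP (mem_zpowers _)) q hq
  -- the odd part is trivial
  haveI := hN
  set W := N.comap π
  have hcW : Nat.card (Z.subgroupOf W) = 2 ∧ (Z.subgroupOf W).index = Nat.card N := by
    have hle : Z ≤ W := fun z hz => by
      show π z ∈ N
      rw [(hπ1 z).2 (hZ z hz)]; exact one_mem _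
    refine ⟨?_, ?_⟩
    · rw [Nat.card_congr (subgroupOfEquivOfLe hle).toEquiv, Nat.card_zpowers]
      exact orderOf_eq_prime (by rw [pow_two]; exact hw2)
        fun h => qw (T.inj ((congrArg Subtype.val h).trans (map_one T.Θ).symm))
    · show Z.relIndex W = _
      have h1 := relIndex_ker π (K := W)
      rw [show π.ker = Z from QuotientGroup.ker_mk' Z] at h1
      rw [h1, map_comap_eq_self_of_surjective (QuotientGroup.mk'_surjective Z)]
  haveI : (Z.subgroupOf W).Normal := inferInstance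
  obtain ⟨K, hK⟩ := exists_right_complement'_of_coprime (N := Z.subgroupOf W)
    (by rw [hcW.1, hcW.2]; exact Nat.coprime_two_left.2 hNodd)
  have hKodd : Odd (Nat.card K) := by
    have h := hK.card_mul_card
    rw [← (Z.subgroupOf W).card_mul_index, hcW.2] at h
    rwa [Nat.eq_of_mul_eq_mul_left (by rw [hcW.1]; norm_num) h]
  have hchar : ∀ u : W, Odd (orderOf u) → u ∈ K := by
    intro u hu
    obtain ⟨⟨⟨z, hz⟩, k⟩, rfl⟩ := hK.2 u
    dsimp only at hu ⊢
    obtain ⟨m, hm⟩ := hu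
    set u := z * (k : W)
    have hsq : u * u = (k : W) * k := by
      have hzc : ∀ v : W, v * z = z * v := fun v => Subtype.ext (hcent _ (mem_subgroupOf.1 hz) v)
      have hzz : z * z = 1 := by
        rcases hZ _ (mem_subgroupOf.1 hz) with h | h
        · exact Subtype.ext (by rw [coe_mul, h, mul_one]; rfl)
        · exact Subtype.ext (by rw [coe_mul, h, hw2]; rfl)
      calc u * u = z * ((k : W) * z) * k := by simp only [u, mul_assoc]
        _ = z * z * (k * k) := by rw [hzc]; simp only [mul_assoc]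
        _ = _ := by rw [hzz, one_mul]
    have e : u = (u * u) ^ (m + 1) := by
      rw [← pow_two, ← pow_mul, show 2 * (m + 1) = orderOf u + 1 by omega, pow_succ, pow_orderOf_eq_one,
        one_mul]
    rw [e, hsq]
    exact pow_mem (mul_mem k.2 k.2) _
  set A : Subgroup G := (K.map W.subtype).map Y.subtype
  have hAbot : A = ⊥ := by
    refine F.odd_trivial ?_ ?_ ?_
    · rintro - ⟨y, -, rfl⟩; exact memY.1 y.2
    · rintro g hg - ⟨-, ⟨w, hw, rfl⟩, rfl⟩
      set gY : Y := ⟨g, memY.2 hg⟩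
      refine ⟨_, ⟨⟨gY * w * gY⁻¹, (inferInstance : W.Normal).conj_mem _ w.2 _⟩, hchar _ ?_, rfl⟩, rfl⟩
      rw [← Subgroup.orderOf_coe, ← MulAut.conj_apply,
        orderOf_injective (MulAut.conj gY).toMonoidHom (MulAut.conj gY).injective, Subgroup.orderOf_coe]
      exact hKodd.of_dvd_nat (Subgroup.orderOf_dvd_natCard K hw)
    · rw [card_map_of_injective Y.subtype_injective, card_map_of_injective W.subtype_injective]
      exact hKodd
  have hK1 : Nat.card K = 1 := by
    rw [← card_map_of_injective W.subtype_injective, ← card_map_of_injective Y.subtype_injective]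
    exact hAbot ▸ card_bot
  have hNbot : N = ⊥ := by
    refine card_eq_one.1 ?_
    have h := hK.card_mul_card
    rw [← (Z.subgroupOf W).card_mul_index, hcW.1, hcW.2, hK1] at h
    omega
  set gY : Y := ⟨g, memY.2 hg⟩
  have hfix := hcomm (π gY)
  rw [hNbot, mem_bot, mul_inv_eq_one, mul_inv_eq_iff_eq_mul] at hfix
  have hfix' : π (gY * e * gY⁻¹) = π e := by
    rw [map_mul, map_mul, map_inv]
    exact mul_inv_eq_iff_eq_mul.2 hfix.symm
  refine F.mem_of_E ⟨0, ?_⟩ ?_
  · show g * T.Θ ew * g⁻¹ = T.Θ ew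
    rw [hg.symm.eq, mul_inv_cancel_right]
  · rcases hlift _ _ hfix' with h | h
    · exact ⟨1, h⟩
    · exact ⟨2, by rw [show T.Θ (![ew, ew', ew * ew'] 2) = T.Θ ew * T.Θ ew' from map_mul _ _ _]; exact h⟩

/-- An element carrying an involution of the first class of the copy into it lies in it. -/
theorem mem_of_conj {x g : G} (hx : x ∈ F.R) (hc : IsConj x (T.Θ ew)) (hg : g * x * g⁻¹ ∈ F.R) :
    g ∈ F.R := by
  obtain ⟨p, rfl⟩ := hx
  obtain ⟨q, hq⟩ := hg
  obtain ⟨c, hc'⟩ := isConj_iff.1 (F.exists_conj_ew hc)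
  obtain ⟨d, hd⟩ := isConj_iff.1 (F.exists_conj_ew (p := q)
    (by rw [hq]; exact (isConj_iff.2 ⟨g, rfl⟩).symm.trans hc))
  have e1 : F.f c * F.f p * (F.f c)⁻¹ = T.Θ ew := by
    rw [← F.fL, ← hc', map_mul, map_mul, map_inv]
  have e2 : F.f d * F.f q * (F.f d)⁻¹ = T.Θ ew := by
    rw [← F.fL, ← hd, map_mul, map_mul, map_inv]
  have hcm : Commute (T.Θ ew) (F.f d * g * (F.f c)⁻¹) := by
    refine (mul_inv_eq_iff_eq_mul.1 ?_).symm
    rw [← e1]
    calc F.f d * g * (F.f c)⁻¹ * (F.f c * F.f p * (F.f c)⁻¹) * (F.f d * g * (F.f c)⁻¹)⁻¹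
        = F.f d * (g * F.f p * g⁻¹) * (F.f d)⁻¹ := by group
      _ = F.f c * F.f p * (F.f c)⁻¹ := by rw [← hq, e1, e2]
  have h := F.mem_of_comm_ew hcm
  have h2 := mul_mem (mul_mem (inv_mem (F.f_mem d)) h) (F.f_mem c)
  simpa [mul_assoc] using h2

theorem mem_of_comm {x g : G} (hx : x ∈ F.R) (hc : IsConj x (T.Θ ew)) (hg : Commute g x) :
    g ∈ F.R :=
  F.mem_of_conj hx hc (by rw [hg.eq, mul_inv_cancel_right]; exact hx)

end Emb

end Cfsg.Agent.Lib.A9Local22
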