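import Cfsg.Agent.S3331
import Cfsg.Agent.Lib.Cores.Basic
import Cfsg.Agent.Lib.Coprime.Generation
import Cfsg.Agent.Lib.Coprime.Glauberman
import Cfsg.Agent.Lib.Alternating.Aut
import Cfsg.Agent.Lib.Linear.Simple
import Cfsg.Agent.Lib.Linear.Order

/-!
# Groups with a nearly self-centralising element of order three and an automorphism

Owner: helper22.
-/

set_option autoImplicit false
set_option maxRecDepth 100000
set_option maxHeartbeats 1000000
set_option linter.style.haveILetI false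

namespace Cfsg.Agent.Lib.A9Local22.Top

open Subgroup Equiv
open scoped Pointwise

universe u

theorem perm3_cover : ∀ r s q : Perm (Fin 3), r * r * r = 1 → r ≠ 1 → s * r = r * r * s →
    ∃ i j : Fin 3, q = r ^ (i : ℕ) * s ^ (j : ℕ) := by decide +kernel

theorem perm3_core : ∀ p : Perm (Fin 3), p ≠ 1 →
    p * p * p = 1 ∨ ∃ q : Perm (Fin 3), p * (q * p * q⁻¹) ≠ 1 ∧
      p * (q * p * q⁻¹) * (p * (q * p * q⁻¹)) * (p * (q * p * q⁻¹)) = 1 := by decide +kernel

theorem perm5_cent : ∀ r : Perm (Fin 5), r * r * r = 1 → r ≠ 1 → ∀ σ : Perm (Fin 5),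
    σ * r = r * σ → σ * σ * σ = 1 → σ = 1 ∨ σ = r ∨ σ = r * r := by decide +kernel

theorem card_L27 :
    Nat.card (Matrix.ProjectiveSpecialLinearGroup (Fin 2) (ZMod 7)) = 168 := by
  haveI : Fact (Nat.Prime 7) := ⟨by norm_num⟩
  have h := Linear.two_mul_card_PSL_two_of_odd (F := ZMod 7) (by rw [ZMod.card]; decide)
  rw [ZMod.card] at h
  norm_num at h ⊢
  omega

theorem card_A5 : Nat.card (alternatingGroup (Fin 5)) = 60 := by
  rw [nat_card_alternatingGroup, Nat.card_eq_fintype_card, Fintype.card_fin]; decide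

/-- The hypotheses: `E` of order four normal in `X`, `a ∈ X` of order three with `C_X(a) = ⟨a⟩E`,
inverted by `t ∈ X`, and `d` normalising `X` and `E`, commuting with `a` and `t`. -/
structure Data {G : Type u} [Group G] (X E : Subgroup G) (a d t : G) : Prop where
  le : E ≤ X
  card : Nat.card E = 4
  normal : X ≤ normalizer (E : Set G)
  ha : orderOf a = 3
  haX : a ∈ X
  hd : d ^ 3 = 1
  had : Commute a d
  dX : ∀ x ∈ X, d * x * d⁻¹ ∈ X
  dE : ∀ e ∈ E, d * e * d⁻¹ ∈ E
  aE : ∀ e ∈ E, Commute a e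
  free : ∀ e ∈ E, Commute d e → e = 1
  cent : ∀ x ∈ X, Commute a x → ∃ i : ℕ, ∃ e ∈ E, x = a ^ i * e
  htX : t ∈ X
  hta : t * a = a * a * t
  htd : Commute t d
  seven : ∀ x : G, orderOf x = 7 → ¬ Commute d x
  small1 : Nat.card (centralizer ({a * d} : Set G)) ∣ 162
  small2 : Nat.card (centralizer ({a * a * d} : Set G)) ∣ 162

variable {G : Type u} [Group G] [Finite G] {X E : Subgroup G} {a d t : G}

/-- The elements of `X` that agree modulo `E` with one commuting with `d`. -/
def M (X E : Subgroup G) (d : G) : Subgroup G := (X ⊓ centralizer ({d} : Set G)) ⊔ E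

theorem mem_M (D : Data X E a d t) {x : G} (hx : x ∈ M X E d) :
    ∃ e ∈ E, Commute (x * e) d := by
  have hn : X ⊓ centralizer ({d} : Set G) ≤ normalizer (E : Set G) := inf_le_left.trans D.normal
  have hc : x ∈ ((X ⊓ centralizer ({d} : Set G) : Subgroup G) : Set G) * (E : Set G) := by
    rw [← Subgroup.coe_mul_of_left_le_normalizer_right _ _ hn]; exact hx
  obtain ⟨y, hy, e, he, rfl⟩ := hc
  exact ⟨e⁻¹, inv_mem he, by
    rw [mul_inv_cancel_right]
    exact mem_centralizer_singleton_iff.1 (mem_inf.1 hy).2⟩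

theorem mem_M_of_comm {x : G} (hx : x ∈ X) (h : Commute x d) : x ∈ M X E d :=
  mem_sup_left (mem_inf.2 ⟨hx, mem_centralizer_singleton_iff.2 h.eq⟩)

theorem E_sq (D : Data X E a d t) {e : G} (he : e ∈ E) : e ^ 4 = 1 := by
  have h := orderOf_dvd_iff_pow_eq_one.1 (Subgroup.orderOf_dvd_natCard E he)
  rwa [D.card] at h

theorem Data.a3 (D : Data X E a d t) : a ^ 3 = 1 := D.ha ▸ pow_orderOf_eq_one a

theorem Data.a_not_mem (D : Data X E a d t) : a ∉ E := fun h => by
  have h1 := Subgroup.orderOf_dvd_natCard E h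
  rw [D.card, D.ha] at h1
  norm_num at h1

omit [Finite G] in
theorem three_one {y : G} (h3 : y ^ 3 = 1) (h4 : y ^ 4 = 1) : y = 1 := by
  rwa [pow_succ, h3, one_mul] at h4

/-- A normal `3'`-subgroup of `X` invariant under `d` lies in `M`. -/
theorem le_M (D : Data X E a d t) {W : Subgroup G} (hWX : W ≤ X)
    (hWn : X ≤ normalizer (W : Set G)) (h3 : ¬ 3 ∣ Nat.card W)
    (hWd : ∀ w ∈ W, d * w * d⁻¹ ∈ W) : W ≤ M X E d := by
  classical
  set A := closure ({a, d} : Set G) with hA
  have habel : ∀ x ∈ A, ∀ y ∈ A, x * y = y * x := by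
    intro x hx y hy
    have hc : A ≤ centralizer (A : Set G) := by
      rw [hA, closure_le]
      intro z hz
      rw [SetLike.mem_coe, centralizer_closure, mem_centralizer_iff]
      intro u hu
      rcases hz with rfl | rfl <;> rcases hu with rfl | rfl
      · rfl
      · exact D.had.eq.symm
      · exact D.had.eq
      · rfl
    exact (mem_centralizer_iff.1 (hc hx) y hy).symm
  haveI : IsMulCommutative A := ⟨⟨fun x y => Subtype.ext (habel x x.2 y y.2)⟩⟩
  have word : ∀ x ∈ A, ∃ i j : ℕ, x = a ^ i * d ^ j := by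
    intro x hx
    induction hx using closure_induction with
    | mem x hx =>
      rcases hx with rfl | rfl
      · exact ⟨1, 0, by simp⟩
      · exact ⟨0, 1, by simp⟩
    | one => exact ⟨0, 0, by simp⟩
    | mul x y _ _ hx hy =>
      obtain ⟨i, j, rfl⟩ := hx
      obtain ⟨k, l, rfl⟩ := hy
      refine ⟨i + k, j + l, ?_⟩
      rw [pow_add, pow_add, mul_assoc, ← mul_assoc (d ^ j), (D.had.symm.pow_pow j k).eq]
      simp only [mul_assoc]
    | inv x _ hx =>
      obtain ⟨i, j, rfl⟩ := hx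
      refine ⟨2 * i, 2 * j, inv_eq_of_mul_eq_one_right ?_⟩
      rw [mul_assoc, ← mul_assoc (d ^ j), (D.had.symm.pow_pow j (2 * i)).eq, mul_assoc, ← pow_add,
        ← mul_assoc, ← pow_add, show i + 2 * i = 3 * i by ring, show j + 2 * j = 3 * j by ring,
        pow_mul, pow_mul, D.a3, D.hd, one_pow, one_pow, one_mul]
  have cube : ∀ x ∈ A, x ^ 3 = 1 := by
    intro x hx
    obtain ⟨i, j, rfl⟩ := word x hx
    rw [(D.had.pow_pow i j).mul_pow, ← pow_mul, ← pow_mul, mul_comm i, mul_comm j, pow_mul, pow_mul,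
      D.a3, D.hd, one_pow, one_pow, one_mul]
  have hncyc : ¬ IsCyclic A := by
    intro hc
    obtain ⟨g, hg⟩ := hc.exists_generator
    have hdvd : Nat.card A ∣ 3 := by
      rw [← orderOf_eq_card_of_forall_mem_zpowers hg]
      exact orderOf_dvd_of_pow_eq_one (Subtype.ext (cube g g.2))
    have hle : zpowers a ≤ A := zpowers_le.2 (subset_closure (by simp))
    have heq : zpowers a = A := eq_of_le_of_card_ge hle (by
      rw [Nat.card_zpowers, D.ha]; exact Nat.le_of_dvd (by norm_num) hdvd)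
    have hd : d ∈ zpowers a := heq ▸ subset_closure (by simp)
    obtain ⟨k, hk⟩ := mem_zpowers_iff.1 hd
    obtain ⟨e, he, he1⟩ := E.bot_or_exists_ne_one.resolve_left (fun h => by
      have := D.card; rw [h, card_bot] at this; norm_num at this)
    exact he1 (D.free e he (hk ▸ (D.aE e he).zpow_left k))
  have hA3 : IsPGroup 3 A := fun x => ⟨1, Subtype.ext (by simpa using cube x x.2)⟩
  have hcop : (Nat.card A).Coprime (Nat.card W) := by
    haveI : Fact (Nat.Prime 3) := ⟨Nat.prime_three⟩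
    obtain ⟨n, hn⟩ := IsPGroup.iff_card.1 hA3
    rw [hn]
    exact Nat.Coprime.pow_left _ ((Nat.prime_three.coprime_iff_not_dvd).2 h3)
  have hAW : A ≤ normalizer (W : Set G) := by
    rw [hA, closure_le]
    rintro x (rfl | rfl)
    · exact hWn D.haX
    · rw [SetLike.mem_coe, mem_normalizer_iff_map_conj_eq]
      refine eq_of_le_of_card_ge ?_ (by rw [card_map_of_injective (MulEquiv.injective _)])
      rintro - ⟨w, hw, rfl⟩
      exact hWd w hw
  have coprime3 : ∀ w ∈ W, w ^ 3 = 1 → w = 1 := fun w hw h => by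
    rcases (Nat.dvd_prime Nat.prime_three).1 (orderOf_dvd_of_pow_eq_one h) with h1 | h1
    · exact orderOf_eq_one_iff.1 h1
    · exact absurd (h1 ▸ Subgroup.orderOf_dvd_natCard W hw) h3
  have hCa : ∀ w ∈ W, Commute a w → w ∈ E := by
    intro w hw hc
    obtain ⟨i, e, he, rfl⟩ := D.cent w (hWX hw) hc
    have h4 : (a ^ i * e) ^ 4 ∈ W := pow_mem hw _
    rw [((D.aE e he).pow_left i).mul_pow, E_sq D he, mul_one, ← pow_mul] at h4
    have h1 := coprime3 _ h4 (by rw [← pow_mul, mul_comm, pow_mul, D.a3, one_pow])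
    rw [pow_mul] at h1
    have : a ^ i = 1 := three_one (by rw [← pow_mul, mul_comm, pow_mul, D.a3, one_pow]) h1
    rw [this, one_mul]; exact he
  rw [← Coprime.iSup_centralizer_eq hncyc hAW hcop]
  refine iSup₂_le fun u hu => ?_
  obtain ⟨huA, hu1⟩ := hu
  obtain ⟨i, j, rfl⟩ := word u huA
  intro x hx
  obtain ⟨hxW, hxc⟩ := mem_inf.1 hx
  have hxu : Commute (a ^ i * d ^ j) x := (mem_centralizer_singleton_iff.1 hxc).symm
  rw [← pow_mod_orderOf a, D.ha] at hxu hu1
  have hj : d ^ j = d ^ (j % 3) := by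
    conv_lhs => rw [← Nat.mod_add_div j 3, pow_add, pow_mul, D.hd, one_pow, mul_one]
  rw [hj] at hxu hu1
  have small : ∀ v : G, v ∈ A → Nat.card (centralizer ({v} : Set G)) ∣ 162 → Commute v x →
      x ∈ M X E d := by
    intro v hvA hdv hvx
    set B := W ⊓ centralizer ({v} : Set G)
    have hB2 : Nat.card B ∣ 2 := by
      have h1 : Nat.card B ∣ 162 := (card_dvd_of_le inf_le_right).trans hdv
      have h2 : (Nat.card B).Coprime 81 := by
        rw [show 81 = 3 ^ 4 by norm_num]
        exact Nat.Coprime.pow_right _ ((Nat.prime_three.coprime_iff_not_dvd).2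
          fun h => h3 (h.trans (card_dvd_of_le inf_le_left))).symm
      exact h2.dvd_of_dvd_mul_right (by norm_num; exact h1)
    have hfix : ∀ g ∈ A, Commute g x := by
      intro g hg
      have hy : g * x * g⁻¹ ∈ B := by
        refine mem_inf.2 ⟨(mem_normalizer_iff.1 (hAW hg) x).1 hxW, ?_⟩
        rw [mem_centralizer_singleton_iff]
        have hgv : g * v = v * g := habel g hg v hvA
        have : Commute (g * x * g⁻¹) v := by
          have h1 : Commute g v := hgv
          exact ((h1.mul_left hvx.symm).mul_left h1.inv_left)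
        exact this.eq
      have hxB : x ∈ B := mem_inf.2 ⟨hxW, mem_centralizer_singleton_iff.2 hvx.symm.eq⟩
      by_cases hx1 : x = 1
      · rw [hx1]; exact Commute.one_right g
      have key : ∀ y ∈ B, y ≠ 1 → y = x := by
        intro y hy hy1
        by_contra hne
        have h3' : 3 ≤ Nat.card B := by
          haveI : Fintype B := Fintype.ofFinite _
          rw [Nat.card_eq_fintype_card]
          refine le_trans ?_ (Finset.card_le_univ
            ({(1 : B), ⟨x, hxB⟩, ⟨y, hy⟩} : Finset B))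
          rw [Finset.card_eq_three.2 ⟨(1 : B), ⟨x, hxB⟩, ⟨y, hy⟩,
            fun h => hx1 (congrArg Subtype.val h).symm, fun h => hy1 (congrArg Subtype.val h).symm,
            fun h => hne (congrArg Subtype.val h).symm, rfl⟩]
        have := Nat.le_of_dvd (by norm_num) hB2
        omega
      have h2 := key _ hy (fun h => hx1 (conj_eq_one_iff.1 h))
      exact mul_inv_eq_iff_eq_mul.1 h2
    have hxE := hCa x hxW (hfix a (subset_closure (by simp)))
    rw [D.free x hxE (hfix d (subset_closure (by simp)))]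
    exact one_mem _
  have hle : ∀ {y : G}, y ∈ W → Commute y d → y ∈ M X E d := fun hy h => mem_M_of_comm (hWX hy) h
  have hia : i % 3 < 3 := Nat.mod_lt _ (by norm_num)
  have hjd : j % 3 < 3 := Nat.mod_lt _ (by norm_num)
  have ha2 : (a * a)⁻¹ = a := inv_eq_of_mul_eq_one_right (by rw [← pow_two, ← pow_succ]; exact D.a3)
  have hd2 : (d * d)⁻¹ = d := inv_eq_of_mul_eq_one_right (by rw [← pow_two, ← pow_succ]; exact D.hd)
  have hmem : a * d ∈ A := mul_mem (subset_closure (by simp)) (subset_closure (by simp))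
  have hmem2 : a * a * d ∈ A :=
    mul_mem (mul_mem (subset_closure (by simp)) (subset_closure (by simp))) (subset_closure (by simp))
  interval_cases hi : i % 3 <;> interval_cases hjv : j % 3 <;>
    simp only [pow_zero, pow_one, one_mul, mul_one, pow_two] at hxu hu1
  · exact absurd rfl hu1
  · exact hle hxW hxu.symm
  · exact hle hxW (by simpa [hd2] using hxu.inv_left.symm)
  · exact mem_sup_right (hCa x hxW hxu)
  · exact small _ hmem D.small1 hxu
  · refine small _ hmem2 D.small2 ?_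
    have h := hxu.inv_left
    rwa [mul_inv_rev, hd2, show a⁻¹ = a * a from (inv_eq_of_mul_eq_one_right
      (by rw [← mul_assoc, ← pow_two, ← pow_succ]; exact D.a3)), ← (D.had.mul_left D.had).eq] at h
  · exact mem_sup_right (hCa x hxW (by simpa [ha2] using hxu.inv_left))
  · exact small _ hmem2 D.small2 hxu
  · refine small _ hmem D.small1 ?_
    have h := hxu.inv_left
    rwa [mul_inv_rev, hd2, ha2, ← D.had.eq] at h

theorem fac7 : Nat.factorization 672 7 = 1 := by
  haveI : Fact (Nat.Prime 7) := ⟨by norm_num⟩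
  rw [show (672 : ℕ) = 7 ^ 1 * 96 by norm_num, Nat.factorization_mul (by norm_num) (by norm_num),
    Nat.Prime.factorization_pow (by norm_num), Finsupp.add_apply, Finsupp.single_eq_same,
    Nat.factorization_eq_zero_of_not_dvd (by norm_num)]

/-- Sylow subgroups for the prime seven: one is normalised by `a` and `d`. -/
theorem exists_seven (D : Data X E a d t) (h672 : Nat.card X = 672) :
    ∃ p ∈ X, orderOf p = 7 ∧ a * p * a⁻¹ ∈ zpowers p ∧ d * p * d⁻¹ ∈ zpowers p := by
  classical
  haveI : Fact (Nat.Prime 7) := ⟨by norm_num⟩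
  haveI : Fact (Nat.Prime 3) := ⟨Nat.prime_three⟩
  let Ω := {P : Subgroup G // P ≤ X ∧ Nat.card P = 7}
  set A := closure ({a, d} : Set G)
  have hAX : ∀ g ∈ A, ∀ x ∈ X, g * x * g⁻¹ ∈ X := by
    intro g hg
    induction hg using closure_induction with
    | mem g hg =>
      rcases hg with rfl | rfl
      · exact fun x hx => mul_mem (mul_mem D.haX hx) (inv_mem D.haX)
      · exact D.dX
    | one => intro x hx; simpa using hx
    | mul g h _ _ ihg ihh =>
      intro x hx; simpa [mul_assoc] using ihg _ (ihh x hx)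
    | inv g _ ih =>
      have hmap : X.map (MulAut.conj g).toMonoidHom = X := eq_of_le_of_card_ge
        (by rintro - ⟨x, hx, rfl⟩; exact ih x hx) (by rw [card_map_of_injective (MulEquiv.injective _)])
      intro x hx
      obtain ⟨y, hy, rfl⟩ := hmap.ge hx
      simpa [mul_assoc] using hy
  letI : MulAction A Ω :=
  { smul := fun g P => ⟨P.1.map (MulAut.conj (g : G)).toMonoidHom,
      by rintro - ⟨x, hx, rfl⟩; exact hAX g g.2 x (P.2.1 hx),
      by rw [card_map_of_injective (MulEquiv.injective _), P.2.2]⟩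
    one_smul := fun P => Subtype.ext (by
      show P.1.map _ = P.1
      ext x; simp)
    mul_smul := fun g h P => Subtype.ext (by
      show P.1.map _ = (P.1.map _).map _
      rw [map_map]; congr 1; ext x; simp [mul_assoc]) }
  have key : ∀ P : Ω, Nat.card (P.1.subgroupOf X) = 7 ^ (Nat.card X).factorization 7 := by
    intro P
    rw [Nat.card_congr (subgroupOfEquivOfLe P.2.1).toEquiv, P.2.2, h672,
      fac7, pow_one]
  let e : Ω ≃ Sylow 7 X :=
  { toFun := fun P => Sylow.ofCard (P.1.subgroupOf X) (key P)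
    invFun := fun Q => ⟨(Q : Subgroup X).map X.subtype, map_subtype_le _, by
      rw [card_map_of_injective X.subtype_injective, Q.card_eq_multiplicity, h672,
        fac7, pow_one]⟩
    left_inv := fun P => Subtype.ext (map_subgroupOf_eq_of_le P.2.1)
    right_inv := fun Q => Sylow.ext (by
      show ((Q : Subgroup X).map X.subtype).subgroupOf X = Q
      exact comap_map_eq_self_of_injective X.subtype_injective _) }
  have hn : ¬ 3 ∣ Nat.card Ω := by
    rw [Nat.card_congr e]
    obtain ⟨Q⟩ : Nonempty (Sylow 7 X) := inferInstance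
    have h96 : Nat.card (Sylow 7 X) ∣ 96 := by
      refine Q.card_dvd_index.trans (dvd_of_eq ?_)
      have h := (Q : Subgroup X).card_mul_index
      rw [Q.card_eq_multiplicity, h672, show (672 : ℕ) = 7 ^ 1 * 96 by norm_num,
        Nat.factorization_mul (by norm_num) (by norm_num), Nat.Prime.factorization_pow (by norm_num),
        Finsupp.add_apply, Finsupp.single_eq_same,
        Nat.factorization_eq_zero_of_not_dvd (by norm_num)] at h
      omega
    have hmod : Nat.card (Sylow 7 X) % 7 = 1 := by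
      have := card_sylow_modEq_one 7 X
      exact this
    generalize Nat.card (Sylow 7 X) = n at h96 hmod
    have key : ∀ n ∈ Nat.divisors 96, n % 7 = 1 → ¬ 3 ∣ n := by decide +kernel
    exact key n (Nat.mem_divisors.2 ⟨h96, by norm_num⟩) hmod
  have hA3 : IsPGroup 3 A := by
    haveI : IsMulCommutative A := Subgroup.isMulCommutative_closure (by
      rintro x (rfl | rfl) y (rfl | rfl)
      exacts [rfl, D.had.eq, D.had.eq.symm, rfl])
    intro x
    refine ⟨1, ?_⟩
    obtain ⟨x, hx⟩ := x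
    induction hx using closure_induction with
    | mem x hx =>
      rcases hx with rfl | rfl
      · exact Subtype.ext (by simpa using D.a3)
      · exact Subtype.ext (by simpa using D.hd)
    | one => exact one_pow _
    | mul x y hx hy ihx ihy =>
      have : (⟨x * y, mul_mem hx hy⟩ : A) = ⟨x, hx⟩ * ⟨y, hy⟩ := rfl
      rw [this, (show Commute (⟨x, hx⟩ : A) ⟨y, hy⟩ from IsMulCommutative.is_comm.comm _ _).mul_pow, ihx, ihy, one_mul]
    | inv x hx ih =>
      have : (⟨x⁻¹, inv_mem hx⟩ : A) = (⟨x, hx⟩ : A)⁻¹ := rfl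
      rw [this, inv_pow, ih, inv_one]
  obtain ⟨P, hP⟩ := hA3.nonempty_fixed_point_of_prime_not_dvd_card Ω hn
  obtain ⟨⟨p, hpP⟩, hp⟩ := exists_prime_orderOf_dvd_card' (G := P.1) 7 (by rw [P.2.2])
  rw [← Subgroup.orderOf_coe] at hp
  have hzp : zpowers p = P.1 := eq_of_le_of_card_ge (zpowers_le.2 hpP)
    (by rw [Nat.card_zpowers, P.2.2]; exact le_of_eq hp.symm)
  have hfix : ∀ g ∈ A, g * p * g⁻¹ ∈ zpowers p := fun g hg => by
    have h := congrArg Subtype.val (hP ⟨g, hg⟩)
    rw [hzp, ← h]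
    exact ⟨p, hpP, rfl⟩
  exact ⟨p, P.2.1 hpP, hp, hfix a (subset_closure (by simp)), hfix d (subset_closure (by simp))⟩

theorem card_comap_dvd_of_quot {E' : Subgroup X} [E'.Normal]
    (π : X →* X ⧸ E') (N : Subgroup (X ⧸ E')) (h4 : Nat.card E = 4)
    (hker : ∀ x : X, π x = 1 ↔ (x : G) ∈ E) : Nat.card (N.comap π) ∣ Nat.card N * 4 := by
  have h3 := (π.comp (N.comap π).subtype).ker.card_mul_index
  rw [index_ker] at h3
  rw [← h3, mul_comm (Nat.card N), ← h4]
  refine mul_dvd_mul ?_ (card_dvd_of_le ?_)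
  · rw [← card_map_of_injective (K := (π.comp (N.comap π).subtype).ker)
      (f := X.subtype.comp (N.comap π).subtype) (fun a b h => Subtype.ext (Subtype.ext h))]
    refine card_dvd_of_le ?_
    rintro - ⟨z, hz, rfl⟩
    exact (hker _).1 hz
  · rintro - ⟨z, rfl⟩
    exact z.2

omit [Finite G] in
theorem exists_exp {p g : G} (hp7 : p ^ 7 = 1) (h : g * p * g⁻¹ ∈ zpowers p) :
    ∃ i < 7, g * p * g⁻¹ = p ^ i := by
  obtain ⟨k, hk⟩ := mem_zpowers_iff.1 h
  refine ⟨(k % 7).toNat, by omega, ?_⟩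
  rw [← zpow_natCast, Int.toNat_of_nonneg (Int.emod_nonneg k (by norm_num)), ← hk]
  conv_lhs => rw [← Int.mul_ediv_add_emod k 7, zpow_add, zpow_mul]
  rw [show p ^ (7 : ℤ) = 1 by exact_mod_cast hp7, one_zpow, one_mul]

omit [Finite G] in
theorem conj_pow_exp {p g v : G} {i k : ℕ} (hg : g * p * g⁻¹ = p ^ i) (hv : v * p * v⁻¹ = p ^ k) :
    g * v * p * (g * v)⁻¹ = p ^ (i * k) := by
  calc g * v * p * (g * v)⁻¹ = g * (v * p * v⁻¹) * g⁻¹ := by group
    _ = (g * p * g⁻¹) ^ k := by rw [hv, conj_pow]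
    _ = p ^ (i * k) := by rw [hg, pow_mul]


section Quot

variable [hnE : (E.subgroupOf X).Normal]

theorem selfCent (D : Data X E a d t) :
    let π := QuotientGroup.mk' (E.subgroupOf X)
    orderOf (π ⟨a, D.haX⟩) = 3 ∧
      centralizer ((zpowers (π ⟨a, D.haX⟩) : Subgroup (X ⧸ E.subgroupOf X)) : Set (X ⧸ E.subgroupOf X)) =
        zpowers (π ⟨a, D.haX⟩) := by
  classical
  haveI : Fact (Nat.Prime 3) := ⟨Nat.prime_three⟩
  set π := QuotientGroup.mk' (E.subgroupOf X) with hπdef
  set aX : X := ⟨a, D.haX⟩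
  have hπ : Function.Surjective π := QuotientGroup.mk'_surjective _
  have hker : ∀ x : X, π x = 1 ↔ (x : G) ∈ E := fun x => by
    rw [hπdef, QuotientGroup.mk'_apply, QuotientGroup.eq_one_iff, mem_subgroupOf]
  have ha1 : π aX ≠ 1 := fun h => D.a_not_mem ((hker _).1 h)
  have hoa : orderOf (π aX) = 3 := by
    refine orderOf_eq_prime ?_ ha1
    rw [← map_pow, show aX ^ 3 = 1 from Subtype.ext D.a3, map_one]
  have hsc : centralizer ((zpowers (π aX) : Subgroup (X ⧸ E.subgroupOf X)) : Set (X ⧸ E.subgroupOf X)) = zpowers (π aX) := by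
    refine le_antisymm (fun q hq => ?_) (le_centralizer _)
    obtain ⟨x, rfl⟩ := hπ q
    have hc := mem_centralizer_iff.1 hq (π aX) (mem_zpowers _)
    have he : π (x * aX * x⁻¹ * aX⁻¹) = 1 := by
      rw [map_mul, map_mul, map_mul, map_inv, map_inv, ← hc, mul_inv_cancel_right, mul_inv_cancel]
    have heE := (hker _).1 he
    set e := (x : G) * a * (x : G)⁻¹ * a⁻¹ with hedef
    have hxe : (x : G) * a * (x : G)⁻¹ = e * a := by rw [hedef, inv_mul_cancel_right]
    have he3 : e ^ 3 = 1 := by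
      have h1 : ((x : G) * a * (x : G)⁻¹) ^ 3 = 1 := by rw [conj_pow, D.a3, mul_one, mul_inv_cancel]
      rwa [hxe, (D.aE e heE).symm.mul_pow, D.a3, mul_one] at h1
    rw [three_one he3 (E_sq D heE), one_mul] at hxe
    obtain ⟨i, e', he', hx⟩ := D.cent x x.2 (mul_inv_eq_iff_eq_mul.1 hxe).symm
    refine mem_zpowers_iff.2 ⟨i, ?_⟩
    rw [zpow_natCast, ← map_pow, show x = aX ^ i * ⟨e', D.le he'⟩ from Subtype.ext (by simpa using hx),
      map_mul, (hker ⟨e', D.le he'⟩).2 he', mul_one]
  exact ⟨hoa, hsc⟩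

theorem comap_le_M (D : Data X E a d t) (N : Subgroup (X ⧸ E.subgroupOf X)) (hN : N.Normal)
    (hco : (Nat.card N).Coprime 3)
    (hmax : ∀ L : Subgroup (X ⧸ E.subgroupOf X), L.Normal → ¬ 3 ∣ Nat.card L → L ≤ N) :
    (N.comap (QuotientGroup.mk' (E.subgroupOf X))).map X.subtype ≤ M X E d := by
  classical
  haveI : Fact (Nat.Prime 3) := ⟨Nat.prime_three⟩
  set π := QuotientGroup.mk' (E.subgroupOf X) with hπdef
  set aX : X := ⟨a, D.haX⟩
  have hπ : Function.Surjective π := QuotientGroup.mk'_surjective _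
  have hker : ∀ x : X, π x = 1 ↔ (x : G) ∈ E := fun x => by
    rw [hπdef, QuotientGroup.mk'_apply, QuotientGroup.eq_one_iff, mem_subgroupOf]
  have ha1 : π aX ≠ 1 := fun h => D.a_not_mem ((hker _).1 h)
  have hoa : orderOf (π aX) = 3 := by
    refine orderOf_eq_prime ?_ ha1
    rw [← map_pow, show aX ^ 3 = 1 from Subtype.ext D.a3, map_one]
  have hXmap : X.map (MulAut.conj d).toMonoidHom = X := eq_of_le_of_card_ge
    (by rintro - ⟨x, hx, rfl⟩; exact D.dX x hx) (by rw [card_map_of_injective (MulEquiv.injective _)])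
  let σ : X ≃* X := ((MulAut.conj d).subgroupMap X).trans (MulEquiv.subgroupCongr hXmap)
  have hσ : ∀ x : X, (σ x : G) = d * x * d⁻¹ := fun x => rfl
  haveI := hN
  set W := N.comap π
  have hW3 : ¬ 3 ∣ Nat.card W := fun hd =>
    (Nat.prime_three.dvd_mul.1 (hd.trans (card_comap_dvd_of_quot π N D.card hker))).elim
      (fun h1 => (Nat.prime_three.coprime_iff_not_dvd.1 hco.symm) h1) (by norm_num)
  have hinv : W.map σ.toMonoidHom ≤ W := by
    have : (W.map σ.toMonoidHom).Normal := Normal.map inferInstance _ σ.surjective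
    have h1 : (W.map σ.toMonoidHom).map π ≤ N := hmax _ (Normal.map this π hπ) fun h => hW3 ?_
    · exact map_le_iff_le_comap.1 h1
    refine h.trans ((card_map_dvd _ π).trans ?_)
    rw [card_map_of_injective σ.injective]
  refine le_M D (map_subtype_le _) ?_ ?_ ?_
  · exact (normal_subgroupOf_iff_le_normalizer (map_subtype_le _)).1 (by
      rw [subgroupOf, comap_map_eq_self_of_injective X.subtype_injective]; infer_instance)
  · rwa [card_map_of_injective X.subtype_injective]
  · rintro - ⟨w, hw, rfl⟩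
    exact ⟨σ w, hinv ⟨w, hw, rfl⟩, rfl⟩

theorem le_M_of_solvable (D : Data X E a d t) (N : Subgroup (X ⧸ E.subgroupOf X)) (hN : N.Normal)
    (hco : (Nat.card N).Coprime 3)
    (hq : Nat.card ((X ⧸ E.subgroupOf X) ⧸ N) = 3 ∨
      Nonempty ((X ⧸ E.subgroupOf X) ⧸ N ≃* Perm (Fin 3))) :
    X ≤ M X E d := by
  classical
  haveI : Fact (Nat.Prime 3) := ⟨Nat.prime_three⟩
  set π := QuotientGroup.mk' (E.subgroupOf X) with hπdef
  set aX : X := ⟨a, D.haX⟩
  have hπ : Function.Surjective π := QuotientGroup.mk'_surjective _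
  have hker : ∀ x : X, π x = 1 ↔ (x : G) ∈ E := fun x => by
    rw [hπdef, QuotientGroup.mk'_apply, QuotientGroup.eq_one_iff, mem_subgroupOf]
  have ha1 : π aX ≠ 1 := fun h => D.a_not_mem ((hker _).1 h)
  have hoa : orderOf (π aX) = 3 := by
    refine orderOf_eq_prime ?_ ha1
    rw [← map_pow, show aX ^ 3 = 1 from Subtype.ext D.a3, map_one]
  have haM : a ∈ M X E d := mem_M_of_comm D.haX D.had
  have htM : t ∈ M X E d := mem_M_of_comm D.htX D.htd
  haveI := hN
  set ψ := (QuotientGroup.mk' N).comp π with hψdef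
  have haN : ψ aX ≠ 1 := fun h => by
    have hm : π aX ∈ N := (QuotientGroup.eq_one_iff (π aX)).1 h
    have h3 := Subgroup.orderOf_dvd_natCard N hm
    rw [hoa] at h3
    exact (Nat.prime_three.coprime_iff_not_dvd.1 hco.symm) h3
  have hoaN : orderOf (ψ aX) = 3 := orderOf_eq_prime
    (by rw [← map_pow, show aX ^ 3 = 1 from Subtype.ext D.a3, map_one]) haN
  have hWM := comap_le_M D N hN hco (fun L hL hL3 => by
    haveI := hL
    intro l hl
    by_contra hlN
    refine hL3 (dvd_trans ?_ (card_map_dvd L (QuotientGroup.mk' N)))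
    have hmem : QuotientGroup.mk' N l ∈ L.map (QuotientGroup.mk' N) := ⟨l, hl, rfl⟩
    have hne : QuotientGroup.mk' N l ≠ 1 := fun h => hlN ((QuotientGroup.eq_one_iff l).1 h)
    rcases hq with h3 | ⟨⟨e⟩⟩
    · have := orderOf_dvd_natCard (QuotientGroup.mk' N l)
      rw [h3] at this
      rcases (Nat.dvd_prime Nat.prime_three).1 this with h1 | h1
      · exact absurd (orderOf_eq_one_iff.1 h1) hne
      · exact h1 ▸ Subgroup.orderOf_dvd_natCard _ hmem
    · haveI : (L.map (QuotientGroup.mk' N)).Normal :=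
        Normal.map hL _ (QuotientGroup.mk'_surjective _)
      have tr : ∀ z : (X ⧸ E.subgroupOf X) ⧸ N, z ∈ L.map (QuotientGroup.mk' N) → e z ≠ 1 →
          e z * e z * e z = 1 → 3 ∣ Nat.card (L.map (QuotientGroup.mk' N)) := by
        intro z hz h1 h3
        have ho : orderOf z = 3 := orderOf_eq_prime (e.injective (by
          rw [map_pow, map_one, pow_succ, pow_two]; exact h3)) fun h => h1 (by rw [h, map_one])
        exact ho ▸ Subgroup.orderOf_dvd_natCard _ hz
      have hne' : e (QuotientGroup.mk' N l) ≠ 1 := fun h => hne (e.injective (by rw [h, map_one]))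
      rcases perm3_core _ hne' with h3 | ⟨q, h1, h3⟩
      · exact tr _ hmem hne' h3
      · refine tr _ (mul_mem hmem (Normal.conj_mem inferInstance _ hmem (e.symm q))) ?_ ?_ <;>
          rw [map_mul, map_mul, map_mul, map_inv, e.apply_symm_apply]
        · exact h1
        · exact h3)
  intro x hx
  obtain ⟨i, j, hij⟩ : ∃ i j : ℕ, ψ ⟨x, hx⟩ = ψ (aX ^ i * ⟨t, D.htX⟩ ^ j) := by
    rcases hq with h3 | ⟨⟨e⟩⟩
    · have htop : zpowers (ψ aX) = ⊤ := eq_top_of_card_eq _ (by rw [Nat.card_zpowers, hoaN, h3])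
      obtain ⟨k, hk⟩ := mem_zpowers_iff.1 (htop ▸ mem_top (ψ ⟨x, hx⟩))
      refine ⟨(k % 3).toNat, 0, ?_⟩
      rw [pow_zero, mul_one, map_pow, ← hk, ← zpow_natCast, Int.toNat_of_nonneg (Int.emod_nonneg k
        (by norm_num)), ← zpow_mod_orderOf (ψ aX) k, hoaN]
      rfl
    · have hta : (⟨t, D.htX⟩ : X) * aX = aX * aX * ⟨t, D.htX⟩ := Subtype.ext D.hta
      obtain ⟨i, j, hij⟩ := perm3_cover (e (ψ aX)) (e (ψ ⟨t, D.htX⟩)) (e (ψ ⟨x, hx⟩))
        (by
          rw [← map_mul, ← map_mul, ← pow_two, ← pow_succ]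
          exact (congrArg e (orderOf_dvd_iff_pow_eq_one.1 hoaN.dvd)).trans (map_one e))
        (fun h => haN (e.injective (h.trans (map_one e).symm)))
        (by rw [← map_mul, ← map_mul, ← map_mul, ← map_mul, ← map_mul, ← map_mul, hta])
      refine ⟨i, j, e.injective ?_⟩
      rw [hij, map_mul, map_pow, map_pow, map_mul, map_pow, map_pow]
  set y : X := aX ^ i * ⟨t, D.htX⟩ ^ j
  have hm : π (y⁻¹ * ⟨x, hx⟩) ∈ N := (QuotientGroup.eq_one_iff _).1 (by
    show ψ (y⁻¹ * ⟨x, hx⟩) = 1
    rw [map_mul, map_inv, ← hij, inv_mul_cancel])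
  have : x = (y : G) * ((y⁻¹ * ⟨x, hx⟩ : X) : G) := by simp
  rw [this]
  refine mul_mem ?_ (hWM ⟨_, hm, rfl⟩)
  simp only [y, coe_mul, SubmonoidClass.coe_pow]
  exact mul_mem (pow_mem haM _) (pow_mem htM _)

theorem le_M_of_A5 (D : Data X E a d t) (N : Subgroup (X ⧸ E.subgroupOf X)) (hN : N.Normal)
    (hel : ∀ n ∈ N, n ^ 2 = 1) (e : (X ⧸ E.subgroupOf X) ⧸ N ≃* alternatingGroup (Fin 5)) :
    X ≤ M X E d := by
  classical
  haveI : Fact (Nat.Prime 3) := ⟨Nat.prime_three⟩
  set π := QuotientGroup.mk' (E.subgroupOf X) with hπdef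
  set aX : X := ⟨a, D.haX⟩
  have hπ : Function.Surjective π := QuotientGroup.mk'_surjective _
  have hker : ∀ x : X, π x = 1 ↔ (x : G) ∈ E := fun x => by
    rw [hπdef, QuotientGroup.mk'_apply, QuotientGroup.eq_one_iff, mem_subgroupOf]
  have ha1 : π aX ≠ 1 := fun h => D.a_not_mem ((hker _).1 h)
  have hoa : orderOf (π aX) = 3 := by
    refine orderOf_eq_prime ?_ ha1
    rw [← map_pow, show aX ^ 3 = 1 from Subtype.ext D.a3, map_one]
  have haM : a ∈ M X E d := mem_M_of_comm D.haX D.had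
  have htM : t ∈ M X E d := mem_M_of_comm D.htX D.htd
  have hXmap : X.map (MulAut.conj d).toMonoidHom = X := eq_of_le_of_card_ge
    (by rintro - ⟨x, hx, rfl⟩; exact D.dX x hx) (by rw [card_map_of_injective (MulEquiv.injective _)])
  let σ : X ≃* X := ((MulAut.conj d).subgroupMap X).trans (MulEquiv.subgroupCongr hXmap)
  have hσ : ∀ x : X, (σ x : G) = d * x * d⁻¹ := fun x => rfl
  haveI := hN
  have hco : (Nat.card N).Coprime 3 := by
    haveI : Fact (Nat.Prime 2) := ⟨Nat.prime_two⟩
    obtain ⟨n, hn⟩ := IsPGroup.iff_card.1 (show IsPGroup 2 N from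
      fun n => ⟨1, Subtype.ext (by simpa using hel n n.2)⟩)
    rw [hn]
    exact Nat.Coprime.pow_left _ (by norm_num)
  haveI := alternatingGroup.isSimpleGroup_five
  set ψ := e.toMonoidHom.comp ((QuotientGroup.mk' N).comp π) with hψdef
  have hψ : Function.Surjective ψ :=
    e.surjective.comp ((QuotientGroup.mk'_surjective N).comp hπ)
  have hψker : ∀ x : X, ψ x = 1 ↔ π x ∈ N := fun x => by
    rw [hψdef]
    show e (QuotientGroup.mk' N (π x)) = 1 ↔ _
    rw [map_eq_one_iff e e.injective, QuotientGroup.mk'_apply, QuotientGroup.eq_one_iff]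
  have hmax : ∀ L : Subgroup (X ⧸ E.subgroupOf X), L.Normal → ¬ 3 ∣ Nat.card L → L ≤ N := by
    intro L hL hL3 l hl
    set f := e.toMonoidHom.comp (QuotientGroup.mk' N)
    have hf : Function.Surjective f := e.surjective.comp (QuotientGroup.mk'_surjective N)
    rcases (Normal.map hL f hf).eq_bot_or_eq_top with h | h
    · have h1 : f l ∈ L.map f := ⟨l, hl, rfl⟩
      rw [h, mem_bot] at h1
      exact (QuotientGroup.eq_one_iff l).1 ((map_eq_one_iff e e.injective).1 h1)
    · exfalso
      refine hL3 (dvd_trans ?_ (card_map_dvd L f))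
      rw [h, card_top, card_A5]; norm_num
  have hWM := comap_le_M D N hN hco hmax
  have hinvW : ∀ x : X, ψ x = 1 → ψ (σ x) = 1 := by
    intro x hx
    have hWσ : ((N.comap π).map σ.toMonoidHom).map π ≤ N := by
      refine hmax _ (Normal.map (Normal.map inferInstance _ σ.surjective) π hπ) fun h => ?_
      have h1 := h.trans (card_map_dvd _ π)
      rw [card_map_of_injective σ.injective] at h1
      have h2 := card_comap_dvd_of_quot π N D.card hker
      exact (Nat.prime_three.dvd_mul.1 (h1.trans h2)).elim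
        (fun h1 => (Nat.prime_three.coprime_iff_not_dvd.1 hco.symm) h1) (by norm_num)
    exact (hψker _).2 (hWσ ⟨σ x, ⟨x, (hψker x).1 hx, rfl⟩, rfl⟩)
  -- the induced automorphism is trivial
  let τ0 : alternatingGroup (Fin 5) →* alternatingGroup (Fin 5) :=
    (ψ.liftOfSurjective hψ) ⟨ψ.comp σ.toMonoidHom, fun x hx => hinvW x hx⟩
  have hτ0 : ∀ x, τ0 (ψ x) = ψ (σ x) := fun x =>
    MonoidHom.liftOfRightInverse_comp_apply _ _ _ _ x
  have hτsurj : Function.Surjective τ0 := fun q => by
    obtain ⟨x, rfl⟩ := hψ q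
    exact ⟨ψ (σ.symm x), by rw [hτ0, σ.apply_symm_apply]⟩
  let τ : MulAut (alternatingGroup (Fin 5)) :=
    MulEquiv.ofBijective τ0 ⟨Finite.injective_iff_surjective.2 hτsurj, hτsurj⟩
  obtain ⟨s, hs⟩ := Alternating.exists_conj_eq (by simp) (by simp) τ
  have hs0 : ∀ x : X, (ψ (σ x) : Perm (Fin 5)) = s * ψ x * s⁻¹ := fun x => by
    rw [← hτ0]; exact hs _
  have hσ3 : ∀ x : X, σ (σ (σ x)) = x := fun x => Subtype.ext (by
    rw [hσ, hσ, hσ]
    calc d * (d * (d * (x : G) * d⁻¹) * d⁻¹) * d⁻¹ = d ^ 3 * x * (d ^ 3)⁻¹ := by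
          simp only [pow_succ, pow_zero, one_mul, mul_inv_rev, mul_assoc]
      _ = x := by rw [D.hd, one_mul, inv_one, mul_one])
  have hs3 : s * s * s = 1 := by
    refine Subgroup.mem_bot.1 ?_
    rw [← Alternating.centralizer_alt_eq_bot (α := Fin 5) (by simp), mem_centralizer_iff]
    intro p hp
    obtain ⟨x, hx⟩ := hψ ⟨p, hp⟩
    have h := hs0 (σ (σ x))
    rw [hσ3, hs0, hs0, hx] at h
    calc p * (s * s * s) = s * (s * (s * p * s⁻¹) * s⁻¹) * s⁻¹ * (s * s * s) := by rw [← h]
      _ = s * s * s * p := by group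
  set r : Perm (Fin 5) := ((ψ aX : alternatingGroup (Fin 5)) : Perm (Fin 5)) with hr
  set v : Perm (Fin 5) := ((ψ ⟨t, D.htX⟩ : alternatingGroup (Fin 5)) : Perm (Fin 5)) with hv
  have hr1 : r ≠ 1 := fun h => by
    have h1 : π aX ∈ N := (hψker _).1 (Subtype.ext h)
    have h3 := Subgroup.orderOf_dvd_natCard N h1
    rw [hoa] at h3
    exact (Nat.prime_three.coprime_iff_not_dvd.1 hco.symm) h3
  have hr3 : r * r * r = 1 := by
    rw [hr, ← coe_mul, ← coe_mul, ← map_mul, ← map_mul,
      show aX * aX * aX = 1 from Subtype.ext (by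
        simp only [coe_mul, coe_one, ← pow_two, ← pow_succ]; exact D.a3), map_one, coe_one]
  have fixed : ∀ {g : G} (hg : g ∈ X), Commute g d →
      s * (ψ ⟨g, hg⟩ : Perm (Fin 5)) = (ψ ⟨g, hg⟩ : Perm (Fin 5)) * s := by
    intro g hg hgd
    have h := hs0 ⟨g, hg⟩
    rw [show σ ⟨g, hg⟩ = ⟨g, hg⟩ from Subtype.ext (by
      rw [hσ]; exact mul_inv_eq_iff_eq_mul.2 hgd.symm.eq)] at h
    exact (mul_inv_eq_iff_eq_mul.1 h.symm)
  have hvr : v * r = r * r * v := by
    rw [hv, hr, ← coe_mul, ← coe_mul, ← coe_mul, ← map_mul, ← map_mul, ← map_mul,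
      show (⟨t, D.htX⟩ : X) * aX = aX * aX * ⟨t, D.htX⟩ from Subtype.ext D.hta]
  have hs1 : s = 1 := by
    have hcv : s * v = v * s := fixed D.htX D.htd
    rcases perm5_cent r hr3 hr1 s (fixed D.haX D.had) hs3 with h | h | h
    · exact h
    · exfalso
      rw [h, hvr] at hcv
      exact hr1 (by simpa [mul_assoc] using hcv)
    · exfalso
      rw [h] at hcv
      have h1 : v * (r * r) = r * v := by
        calc v * (r * r) = v * r * r := (mul_assoc _ _ _).symm
          _ = r * r * v * r := by rw [hvr]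
          _ = r * r * (v * r) := mul_assoc _ _ _
          _ = r * r * (r * r * v) := by rw [hvr]
          _ = r * r * r * r * v := by simp only [mul_assoc]
          _ = r * v := by rw [hr3, one_mul]
      have h2 : r * r = r := mul_right_cancel (hcv.trans h1)
      exact hr1 (mul_left_cancel (h2.trans (mul_one r).symm))
  intro x hx
  obtain ⟨n, hn, hc⟩ := Coprime.exists_mul_fixed (A := zpowers d) (N := (N.comap π).map X.subtype)
    (k := x) (zpowers_le.2 (mem_normalizer_iff_map_conj_eq.2 (eq_of_le_of_card_ge (by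
        rintro - ⟨-, ⟨w, hw, rfl⟩, rfl⟩
        exact ⟨σ w, (hψker _).1 (hinvW w ((hψker w).2 hw)), rfl⟩)
      (le_of_eq (card_map_of_injective (f := ((MulAut.conj d : MulAut G) : G →* G)) (MulEquiv.injective (MulAut.conj d))).symm))))
    (by
      have h3 : Nat.card (zpowers d) ∣ 3 := by
        rw [Nat.card_zpowers]; exact orderOf_dvd_of_pow_eq_one D.hd
      refine Nat.Coprime.of_dvd_left h3 ?_
      rw [card_map_of_injective X.subtype_injective]
      refine (Nat.prime_three.coprime_iff_not_dvd).2 fun hd3 => ?_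
      have h1 := hd3.trans (card_comap_dvd_of_quot π N D.card hker)
      exact (Nat.prime_three.dvd_mul.1 h1).elim
        (fun h1 => (Nat.prime_three.coprime_iff_not_dvd.1 hco.symm) h1) (by norm_num))
    (Or.inl (Coprime.isSolvable_zpowers d))
    (fun g hg => by
      have key : ∀ k : ℕ, ψ ((σ ^ k : MulAut X) ⟨x, hx⟩) = ψ ⟨x, hx⟩ := fun k => by
        induction k with
        | zero => rfl
        | succ k ih =>
          rw [pow_succ', MulAut.mul_apply]
          refine Subtype.ext ?_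
          rw [hs0, hs1, one_mul, inv_one, mul_one, ih]
      obtain ⟨k, rfl⟩ := mem_zpowers_iff.1 hg
      obtain ⟨m, hm⟩ : ∃ m : ℕ, d ^ k = d ^ m := ⟨(k % 3).toNat, by
        rw [← zpow_natCast, Int.toNat_of_nonneg (Int.emod_nonneg k (by norm_num))]
        conv_lhs => rw [← Int.mul_ediv_add_emod k 3, zpow_add, zpow_mul]
        rw [show d ^ (3 : ℤ) = 1 by exact_mod_cast D.hd, one_zpow, one_mul]⟩
      rw [hm]
      have hval : ∀ m : ℕ, (((σ ^ m : MulAut X) ⟨x, hx⟩ : X) : G) = d ^ m * x * (d ^ m)⁻¹ := by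
        intro m
        induction m with
        | zero => simp
        | succ m ih => rw [pow_succ', MulAut.mul_apply, hσ, ih, pow_succ']; group
      refine ⟨(⟨x, hx⟩ : X)⁻¹ * (σ ^ m : MulAut X) ⟨x, hx⟩, (hψker _).1 ?_, ?_⟩
      · rw [map_mul, map_inv, key, inv_mul_cancel]
      · simp [hval])
  have hxn : x * n ∈ M X E d := mem_M_of_comm
    (mul_mem hx (map_subtype_le _ hn))
    (mem_centralizer_iff.1 hc d (mem_zpowers d)).symm
  simpa using mul_mem hxn (inv_mem (hWM hn))

theorem false_of_L27 (D : Data X E a d t)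
    (e : X ⧸ E.subgroupOf X ≃* Matrix.ProjectiveSpecialLinearGroup (Fin 2) (ZMod 7)) : False := by
  exfalso
  have h168 : Nat.card (X ⧸ E.subgroupOf X) = 168 := by rw [Nat.card_congr e.toEquiv, card_L27]
  have h672 : Nat.card X = 672 := by
    rw [Subgroup.card_eq_card_quotient_mul_card_subgroup (E.subgroupOf X), h168,
      Nat.card_congr (subgroupOfEquivOfLe D.le).toEquiv, D.card]
  obtain ⟨p, hpX, hp, hap, hdp⟩ := exists_seven D h672
  have hp7 : p ^ 7 = 1 := hp ▸ pow_orderOf_eq_one p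
  obtain ⟨i, hi, hai⟩ := exists_exp hp7 hap
  obtain ⟨j, hj, hdj⟩ := exists_exp hp7 hdp
  have hcyc : ∀ {g : G} {k : ℕ}, g * p * g⁻¹ = p ^ k → g ^ 3 = 1 → p ^ (k * k * k) = p := by
    intro g k hg h3
    have h := conj_pow_exp hg (conj_pow_exp hg hg)
    have e : g * (g * g) = 1 := by rw [← mul_assoc, ← pow_two, ← pow_succ]; exact h3
    rw [e, one_mul, inv_one, mul_one] at h
    rw [mul_assoc]; exact h.symm
  have hi3 := hcyc hai D.a3
  have hj3 := hcyc hdj D.hd
  have hap' : a * p * a⁻¹ = p ^ i := hai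
  have hnot : ∀ v : G, Nat.card (centralizer ({v} : Set G)) ∣ 162 → v * p * v⁻¹ ≠ p := by
    intro v hv h
    have hm : p ∈ centralizer ({v} : Set G) :=
      mem_centralizer_singleton_iff.2 (mul_inv_eq_iff_eq_mul.1 h).symm
    have h1 := (Subgroup.orderOf_dvd_natCard _ hm).trans hv
    rw [hp] at h1
    norm_num at h1
  have hi1 : i ≠ 1 := by
    rintro rfl
    rw [pow_one] at hai
    obtain ⟨k, e, he, hpe⟩ := D.cent p hpX (mul_inv_eq_iff_eq_mul.1 hai)
    have h12 : p ^ 12 = 1 := by
      rw [hpe, ((D.aE e he).pow_left k).mul_pow, ← pow_mul,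
        show k * 12 = 3 * (4 * k) by ring, pow_mul, D.a3, one_pow, one_mul,
        show (12 : ℕ) = 4 * 3 from rfl, pow_mul, E_sq D he, one_pow]
    have := orderOf_dvd_of_pow_eq_one h12
    rw [hp] at this
    norm_num at this
  have hj1 : j ≠ 1 := by
    rintro rfl
    rw [pow_one] at hdj
    exact D.seven p hp (mul_inv_eq_iff_eq_mul.1 hdj)
  have hmod : ∀ k : ℕ, p ^ k = p → k % 7 = 1 := by
    intro k hk
    have h1 : p ^ k = p ^ 1 := by rw [pow_one]; exact hk
    rw [pow_eq_pow_iff_modEq, hp] at h1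
    exact h1
  have hi7 := hmod _ hi3
  have hj7 := hmod _ hj3
  have e1 := conj_pow_exp hap' hdj
  have e2 := conj_pow_exp hap' (conj_pow_exp hap' hdj)
  have key : i * j % 7 = 1 ∨ i * (i * j) % 7 = 1 := by
    interval_cases i <;> interval_cases j <;> omega
  have back : ∀ k : ℕ, k % 7 = 1 → p ^ k = p := fun k hk => by
    rw [← pow_mod_orderOf, hp, hk, pow_one]
  rcases key with h | h
  · refine hnot _ D.small1 ?_
    rw [e1]; exact back _ h
  · refine hnot _ D.small2 ?_
    rw [show a * a * d = a * (a * d) from mul_assoc _ _ _, e2]; exact back _ h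


end Quot

/-- Modulo `E` every element of `X` commutes with `d`. -/
theorem exists_mul_comm (D : Data X E a d t) : ∀ x ∈ X, ∃ e ∈ E, Commute (x * e) d := by
  haveI : (E.subgroupOf X).Normal := (normal_subgroupOf_iff_le_normalizer D.le).2 D.normal
  suffices h : X ≤ M X E d from fun x hx => mem_M D (h hx)
  obtain ⟨hoa, hsc⟩ := selfCent D
  rcases Cfsg.Agent.S3331.result _ (by rw [Nat.card_zpowers, hoa]) hsc with
    ⟨N, hN, -, hco, hq⟩ | ⟨N, hN, -, hel, ⟨e⟩⟩ | ⟨⟨e⟩⟩
  · exact le_M_of_solvable D N hN hco hq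
  · exact le_M_of_A5 D N hN hel e
  · exact (false_of_L27 D e).elim

end Cfsg.Agent.Lib.A9Local22.Top
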