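import Cfsg.Agent.Lib.A9Local22.Theta
import Cfsg.Agent.Lib.A9Local22.Top
import Cfsg.Agent.Lib.A9Local22.Elems
import Cfsg.Agent.Lib.A9Norm79.CentZ

/-!
# Centralisers of four-groups

The centralisers of the four-groups `{(5 6)(7 8), (5 7)(6 8)}` and `{(5 6)(7 8), (3 4)(5 6)}`.

Owner: helper22.
-/

set_option autoImplicit false
set_option maxRecDepth 100000
set_option maxHeartbeats 1000000

namespace Cfsg.Agent.Lib.A9Local22

open Equiv Model Cfsg.Agent.Lib.A9Norm79 Subgroup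

universe u

namespace Model

theorem word_mem (Q : Subgroup (Perm (Fin 6))) (h1 : T6 1 ∈ Q) (h3 : T6 3 ∈ Q) :
    ∀ k, rep k ∈ Q → word k ∈ Q := by
  have key : word 0 = rep 0 ∧ word 1 = rep 1 * T6 1 * rep 1 * (T6 1 * T6 1) * rep 1 ∧
      word 2 = rep 2 * T6 3 ∧ word 3 = rep 3 * T6 3 * rep 3 ∧ word 4 = rep 4 * T6 3 * (rep 4)⁻¹ ∧
      word 5 = rep 5 * (T6 1 * T6 1) * T6 3 * (rep 5)⁻¹ * T6 3 ∧ word 6 = rep 6 ∧
      word 7 = rep 7 * T6 1 * rep 7 * (T6 1 * T6 1) * rep 7 ∧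
      word 8 = rep 8 * (T6 1 * T6 1) * rep 8 * T6 1 * rep 8 ∧ word 9 = rep 9 * T6 1 * (rep 9)⁻¹ := by
    decide +kernel
  obtain ⟨k0, k1, k2, k3, k4, k5, k6, k7, k8, k9⟩ := key
  intro k
  obtain rfl | rfl | rfl | rfl | rfl | rfl | rfl | rfl | rfl | rfl : k = 0 ∨ k = 1 ∨ k = 2 ∨ k = 3 ∨
      k = 4 ∨ k = 5 ∨ k = 6 ∨ k = 7 ∨ k = 8 ∨ k = 9 := by
    revert k; decide
  all_goals intro hk
  · rw [k0]; exact hk
  · rw [k1]; exact mul_mem (mul_mem (mul_mem (mul_mem hk h1) hk) (mul_mem h1 h1)) hk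
  · rw [k2]; exact mul_mem hk h3
  · rw [k3]; exact mul_mem (mul_mem hk h3) hk
  · rw [k4]; exact mul_mem (mul_mem hk h3) (inv_mem hk)
  · rw [k5]; exact mul_mem (mul_mem (mul_mem (mul_mem hk (mul_mem h1 h1)) h3) (inv_mem hk)) h3
  · rw [k6]; exact hk
  · rw [k7]; exact mul_mem (mul_mem (mul_mem (mul_mem hk h1) hk) (mul_mem h1 h1)) hk
  · rw [k8]; exact mul_mem (mul_mem (mul_mem (mul_mem hk (mul_mem h1 h1)) hk) h1) hk
  · rw [k9]; exact mul_mem (mul_mem hk h1) (inv_mem hk)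

end Model

namespace Th

variable {G : Type u} [Group G] [Finite G] {C : Cfg G} (T : Th C)

omit [Finite G] in
theorem va : T.Θ la = C.E wa := T.agree wa la iota_vals.1

omit [Finite G] in
theorem map_eq {x y : L} : T.Θ x = T.Θ y ↔ x = y := T.inj.eq_iff

omit [Finite G] in
theorem exists_of_comm {g : G} (h : g * T.Θ la = T.Θ la * g) :
    ∃ x : L, x * la = la * x ∧ T.Θ x = g := by
  obtain ⟨x, rfl⟩ := T.cent g (by rw [← T.va]; exact h)
  exact ⟨x, T.inj (by rw [map_mul, map_mul]; exact h), rfl⟩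

theorem card_centralizer_of_isConj {x y : G} (h : IsConj x y) :
    Nat.card (centralizer ({x} : Set G)) = Nat.card (centralizer ({y} : Set G)) := by
  obtain ⟨g, rfl⟩ := isConj_iff.1 h
  refine Nat.card_congr ((MulAut.conj g).toEquiv.subtypeEquiv fun z => ?_)
  rw [mem_centralizer_singleton_iff, mem_centralizer_singleton_iff]
  show z * x = x * z ↔ g * z * g⁻¹ * (g * x * g⁻¹) = g * x * g⁻¹ * (g * z * g⁻¹)
  constructor
  · intro h
    calc g * z * g⁻¹ * (g * x * g⁻¹) = g * (z * x) * g⁻¹ := by group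
      _ = g * (x * z) * g⁻¹ := by rw [h]
      _ = _ := by group
  · intro h
    have h2 : g * (z * x) * g⁻¹ = g * (x * z) * g⁻¹ := by
      calc g * (z * x) * g⁻¹ = g * z * g⁻¹ * (g * x * g⁻¹) := by group
        _ = _ := h
        _ = g * (x * z) * g⁻¹ := by group
    exact mul_left_cancel (mul_right_cancel h2)

theorem card_typ {x : L} {i : Fin 3 × Fin 3 × Fin 3} (hx : iota (x : PP) = A9Norm79.Model.el (i, (0, 0)))
    {k : Fin 3 × Fin 3 × Fin 3} (hik : A9Norm79.Model.typ i = A9Norm79.Model.typ k) :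
    Nat.card (centralizer ({T.Θ x} : Set G)) = Nat.card (centralizer ({C.j k} : Set G)) := by
  rw [T.agree _ x hx]
  exact card_centralizer_of_isConj ((C.isConj_j_iff i k).2 hik)

theorem card_bc : Nat.card (centralizer ({T.Θ (lb * lc)} : Set G)) = 54 :=
  (T.card_typ typ_vals.1 (by decide)).trans C.card_centralizer_d

theorem card_ac : Nat.card (centralizer ({T.Θ (la * lc)} : Set G)) = 54 :=
  (T.card_typ typ_vals.2.2.2.1 (by decide)).trans C.card_centralizer_d

theorem card_aac : Nat.card (centralizer ({T.Θ (la * la * lc)} : Set G)) = 54 :=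
  (T.card_typ typ_vals.2.2.2.2 (by decide)).trans C.card_centralizer_d

theorem card_abc : Nat.card (centralizer ({T.Θ (la * (lb * lc))} : Set G)) = 81 :=
  (T.card_typ typ_vals.2.1 (by decide)).trans C.card_centralizer_z

theorem card_aabc : Nat.card (centralizer ({T.Θ (la * la * (lb * lc))} : Set G)) = 81 :=
  (T.card_typ typ_vals.2.2.1 (by decide)).trans C.card_centralizer_z

theorem isConj_conj (h x y : L) (he : h * x = y * h) : IsConj (T.Θ x) (T.Θ y) :=
  isConj_iff.2 ⟨T.Θ h, mul_inv_eq_iff_eq_mul.2 (by rw [← map_mul, ← map_mul, he])⟩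

theorem card_d : Nat.card (centralizer ({T.Θ ed} : Set G)) = 54 :=
  (card_centralizer_of_isConj (T.isConj_conj _ _ _ d_conj.1)).symm.trans T.card_bc

theorem card_ad : Nat.card (centralizer ({T.Θ (la * ed)} : Set G)) = 81 :=
  (card_centralizer_of_isConj (T.isConj_conj _ _ _ d_conj.2.2)).symm.trans T.card_aabc

theorem card_aad : Nat.card (centralizer ({T.Θ (la * la * ed)} : Set G)) = 81 :=
  (card_centralizer_of_isConj (T.isConj_conj _ _ _ d_conj.2.1)).symm.trans T.card_abc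

/-- The centraliser of `(3 4 5)(6 7 8)` normalises `⟨a⟩`. -/
theorem mem_range_of_comm_bc {g : G} (h : g * T.Θ (lb * lc) = T.Θ (lb * lc) * g) :
    g ∈ T.Θ.range := by
  have hj : T.Θ (lb * lc) = C.j (0, 1, 1) := T.agree _ _ typ_vals.1
  rw [hj] at h
  obtain ⟨w, rfl⟩ := C.exists_E (C.centralizer_typ_two_le (i := (0, 1, 1)) (by decide)
    (mem_centralizer_singleton_iff.2 h))
  have hca : A9Norm79.Model.el wa = A9Norm79.Model.ca := by decide +kernel
  have hjc : ∀ i, A9Norm79.Model.jel i * A9Norm79.Model.ca =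
      A9Norm79.Model.ca * A9Norm79.Model.jel i := fun i => A9Norm79.Model.jel_comm i 0
  have hr3 : A9Norm79.Model.ca * A9Norm79.Model.ca = (A9Norm79.Model.ca)⁻¹ := by decide +kernel
  have lift : ∀ {x y : A9Norm79.Model.H0}, (x : A9Norm79.Model.P9) = y → C.φ x = C.φ y :=
    fun h => congrArg C.φ (Subtype.ext h)
  rcases cent_bc w.2 ((C.comm_E_j_iff w _).1 h) with hk | hk
  · obtain ⟨x, hx⟩ := T.cent (C.E w) ((C.E_comm_iff w wa).2 (by
      show A9Norm79.Model.jel w.1 * A9Norm79.Model.mel w.2 * A9Norm79.Model.el wa = _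
      rw [hca, mul_assoc, hk, ← mul_assoc, hjc]
      simp only [A9Norm79.Model.el, mul_assoc]))
    exact ⟨x, hx⟩
  · obtain ⟨x, hx⟩ := T.norm (C.E w) (by
      rw [E_def, E_def, ← map_inv, ← map_inv, ← map_mul, ← map_mul]
      refine lift ?_
      show A9Norm79.Model.el w * A9Norm79.Model.el wa * (A9Norm79.Model.el w)⁻¹ = (A9Norm79.Model.el wa)⁻¹
      rw [hca, mul_inv_eq_iff_eq_mul, ← hr3]
      show A9Norm79.Model.jel w.1 * A9Norm79.Model.mel w.2 * A9Norm79.Model.ca = _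
      rw [mul_assoc, hk]
      show A9Norm79.Model.jel w.1 * (A9Norm79.Model.ca * A9Norm79.Model.ca * A9Norm79.Model.mel w.2) =
        A9Norm79.Model.ca * A9Norm79.Model.ca * (A9Norm79.Model.jel w.1 * A9Norm79.Model.mel w.2)
      simp only [← mul_assoc]
      rw [hjc, mul_assoc A9Norm79.Model.ca (A9Norm79.Model.jel w.1), hjc, ← mul_assoc])
    exact ⟨x, hx⟩

/-- The centraliser of `(3 5 7)(4 6 8)` normalises `⟨a⟩`. -/
theorem mem_range_of_comm_d {g : G} (h : g * T.Θ ed = T.Θ ed * g) : g ∈ T.Θ.range := by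
  have he : T.Θ ed = T.Θ eh * T.Θ (lb * lc) * (T.Θ eh)⁻¹ := by
    rw [← map_mul, d_conj.1, map_mul, mul_inv_cancel_right]
  rw [he] at h
  have h2 : (T.Θ eh)⁻¹ * g * T.Θ eh * T.Θ (lb * lc) = T.Θ (lb * lc) * ((T.Θ eh)⁻¹ * g * T.Θ eh) := by
    calc (T.Θ eh)⁻¹ * g * T.Θ eh * T.Θ (lb * lc)
        = (T.Θ eh)⁻¹ * (g * (T.Θ eh * T.Θ (lb * lc) * (T.Θ eh)⁻¹)) * T.Θ eh := by group
      _ = (T.Θ eh)⁻¹ * (T.Θ eh * T.Θ (lb * lc) * (T.Θ eh)⁻¹ * g) * T.Θ eh := by rw [h]
      _ = _ := by group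
  obtain ⟨x, hx⟩ := T.mem_range_of_comm_bc h2
  exact ⟨eh * x * eh⁻¹, by rw [map_mul, map_mul, map_inv, hx]; group⟩

/-- The subgroup of elements centralising the image of a subgroup of `L`. -/
def XX (K0 : Subgroup L) : Subgroup G := centralizer ((K0.map T.Θ : Subgroup G) : Set G)

omit [Finite G] in
theorem mem_XX {K0 : Subgroup L} {g : G} : g ∈ T.XX K0 ↔ ∀ k ∈ K0, Commute (T.Θ k) g := by
  rw [XX, mem_centralizer_iff]
  exact ⟨fun h k hk => h _ ⟨k, hk, rfl⟩, by rintro h - ⟨k, hk, rfl⟩; exact h k hk⟩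

/-- The hypotheses of `Top`. -/
theorem data {K0 : Subgroup L} (h4 : Nat.card K0 = 4) {d t : L}
    (hab : ∀ x ∈ K0, ∀ y ∈ K0, x * y = y * x) (hla : ∀ k ∈ K0, la * k = k * la)
    (ht : ∀ k ∈ K0, t * k = k * t) (hfree : ∀ k ∈ K0, d * k = k * d → k = 1)
    (hdK : ∀ k ∈ K0, d * k * d⁻¹ ∈ K0)
    (hcent : ∀ x : L, x * la = la * x → (∀ k ∈ K0, x * k = k * x) →
      ∃ i : Fin 3, ∃ k ∈ K0, x = la ^ (i : ℕ) * k)
    (hda : la * d = d * la) (hta : t * la = la * la * t) (htd : t * d = d * t) (hd : d * d * d = 1)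
    (h7 : ∀ x : G, orderOf x = 7 → ¬ Commute (T.Θ d) x)
    (h1 : Nat.card (centralizer ({T.Θ (la * d)} : Set G)) ∣ 162)
    (h2 : Nat.card (centralizer ({T.Θ (la * la * d)} : Set G)) ∣ 162) :
    Top.Data (T.XX K0) (K0.map T.Θ) (T.Θ la) (T.Θ d) (T.Θ t) where
  le := by
    rintro - ⟨k, hk, rfl⟩
    exact T.mem_XX.2 fun l hl => (show Commute l k from hab l hl k hk).map T.Θ
  card := by rw [card_map_of_injective T.inj, h4]
  normal := centralizer_le_normalizer _
  ha := by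
    haveI : Fact (Nat.Prime 3) := ⟨Nat.prime_three⟩
    refine orderOf_eq_prime ?_ fun h => ?_
    · rw [← map_pow, pow_succ, pow_two, l_rels.1, map_one]
    · exact absurd (T.inj (h.trans (map_one T.Θ).symm)) (by decide +kernel)
  haX := T.mem_XX.2 fun k hk => (show Commute k la from (hla k hk).symm).map T.Θ
  hd := by rw [← map_pow, pow_succ, pow_two, hd, map_one]
  had := (show Commute la d from hda).map T.Θ
  dX := fun x hx => T.mem_XX.2 fun k hk => by
    have hk' : d⁻¹ * k * d ∈ K0 := by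
      have h := hdK _ (hdK k hk)
      have e : d * (d * k * d⁻¹) * d⁻¹ = d⁻¹ * k * d := by
        rw [show d⁻¹ = d * d from inv_eq_of_mul_eq_one_right (by rw [← mul_assoc]; exact hd)]
        have hd' : d * (d * d) = 1 := by rw [← mul_assoc]; exact hd
        calc d * (d * k * (d * d)) * (d * d) = d * d * k * (d * (d * d)) * d := by
              simp only [mul_assoc]
          _ = d * d * k * d := by rw [hd', mul_one]
      rwa [e] at h
    have h := T.mem_XX.1 hx _ hk'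
    have e : T.Θ k = T.Θ d * T.Θ (d⁻¹ * k * d) * (T.Θ d)⁻¹ := by
      rw [map_mul, map_mul, map_inv]; group
    rw [e]
    calc T.Θ d * T.Θ (d⁻¹ * k * d) * (T.Θ d)⁻¹ * (T.Θ d * x * (T.Θ d)⁻¹)
        = T.Θ d * (T.Θ (d⁻¹ * k * d) * x) * (T.Θ d)⁻¹ := by group
      _ = T.Θ d * (x * T.Θ (d⁻¹ * k * d)) * (T.Θ d)⁻¹ := by rw [h.eq]
      _ = _ := by group
  dE := by
    rintro - ⟨k, hk, rfl⟩
    exact ⟨_, hdK k hk, by rw [map_mul, map_mul, map_inv]⟩
  aE := by
    rintro - ⟨k, hk, rfl⟩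
    exact (show Commute la k from hla k hk).map T.Θ
  free := by
    rintro - ⟨k, hk, rfl⟩ h
    rw [hfree k hk (T.inj (by rw [map_mul, map_mul]; exact h.eq)), map_one]
  cent := fun x hx hax => by
    obtain ⟨l, hl, rfl⟩ := T.exists_of_comm hax.eq.symm
    obtain ⟨i, k, hk, rfl⟩ := hcent l hl fun k hk => T.inj (by
      rw [map_mul, map_mul]; exact (T.mem_XX.1 hx k hk).eq.symm)
    exact ⟨i, T.Θ k, ⟨k, hk, rfl⟩, by rw [map_mul, map_pow]⟩
  htX := T.mem_XX.2 fun k hk => (show Commute k t from (ht k hk).symm).map T.Θ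
  hta := by rw [← map_mul, hta, map_mul, map_mul]
  htd := (show Commute t d from htd).map T.Θ
  seven := h7
  small1 := by rw [← map_mul]; exact h1
  small2 := by rw [← map_mul, ← map_mul]; exact h2

omit [Finite G] in
theorem not_seven_of_la {x : G} (hx : orderOf x = 7) : ¬ Commute (T.Θ la) x := by
  intro h
  obtain ⟨l, -, rfl⟩ := T.exists_of_comm h.eq.symm
  rw [orderOf_injective T.Θ T.inj, ← Subgroup.orderOf_coe] at hx
  have h1 := orderOf_dvd_natCard (l : PP)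
  rw [hx, Nat.card_prod, Nat.card_perm, Nat.card_perm, Nat.card_eq_fintype_card,
    Nat.card_eq_fintype_card, Fintype.card_fin, Fintype.card_fin] at h1
  revert h1
  decide

/-! ### The mirror -/

/-- The element `(0 8)(1 7)(2 6)(3 5)`. -/
def n0 (C : Cfg G) : G := C.E w0

omit [Finite G] in
theorem n0_sq : n0 C * n0 C = 1 := by
  rw [n0, E_def, ← map_mul, show hE w0 * hE w0 = 1 from Subtype.ext mirror_vals.1, map_one]

/-- The mirror image of `Θ`. -/
def m : L →* G := (MulAut.conj (n0 C)).toMonoidHom.comp T.Θ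

omit [Finite G] in
theorem m_apply (x : L) : T.m x = n0 C * T.Θ x * n0 C := by
  show n0 C * T.Θ x * (n0 C)⁻¹ = _
  rw [inv_eq_of_mul_eq_one_right n0_sq]

omit [Finite G] in
theorem m_eq_of {x y : L} {u v : W} (hx : iota (x : PP) = A9Norm79.Model.el u)
    (hy : iota (y : PP) = A9Norm79.Model.el v)
    (h : A9Norm79.Model.el w0 * iota (x : PP) * A9Norm79.Model.el w0 = iota (y : PP)) :
    T.m x = T.Θ y := by
  rw [m_apply, T.agree u x hx, T.agree v y hy, n0, E_def, E_def, E_def, ← map_mul, ← map_mul]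
  refine congrArg C.φ (Subtype.ext ?_)
  show A9Norm79.Model.el w0 * A9Norm79.Model.el u * A9Norm79.Model.el w0 = A9Norm79.Model.el v
  rw [← hx, ← hy, h]

omit [Finite G] in
theorem m_lc : T.m lc = T.Θ (la * la) := by
  obtain ⟨-, -, h, -, -, -, -, -, -, -, -, -, -, hv⟩ := mirror_vals
  exact T.m_eq_of iota_vals.2.2.1 hv h

omit [Finite G] in
theorem m_la : T.m la = T.Θ (lc * lc) := by
  obtain ⟨-, h, -, -, -, -, -, -, -, -, -, -, hv, -⟩ := mirror_vals
  exact T.m_eq_of iota_vals.1 hv h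

omit [Finite G] in
theorem m_g1 : T.m g1 = T.Θ lJ := by
  obtain ⟨-, -, -, h, -, -, -, hv, -⟩ := mirror_vals
  exact T.m_eq_of hv iota_vals.2.2.2.2.2.1 h

omit [Finite G] in
theorem m_l3 : T.m l3 = T.Θ s5 := by
  obtain ⟨-, -, -, -, h, -, -, -, -, -, hv, -⟩ := mirror_vals
  exact T.m_eq_of iota_vals.2.2.2.2.1 hv h

omit [Finite G] in
theorem m_g6 : T.m g6 = T.Θ s7 := by
  obtain ⟨-, -, -, -, -, h, -, -, hu, -, -, hv, -⟩ := mirror_vals
  exact T.m_eq_of hu hv h

omit [Finite G] in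
theorem m_g7 : T.m g7 = T.Θ g7 := by
  obtain ⟨-, -, -, -, -, -, h, -, -, hu, -⟩ := mirror_vals
  exact T.m_eq_of hu hu h

omit [Finite G] in
theorem exists_of_comm_lc {g : G} (h : g * T.Θ lc = T.Θ lc * g) :
    ∃ x : L, x * la = la * x ∧ T.m x = g := by
  have hc : T.Θ lc = n0 C * T.Θ (la * la) * n0 C := by
    rw [← T.m_lc, m_apply]
    simp only [← mul_assoc]
    rw [n0_sq, one_mul, mul_assoc, n0_sq, mul_one]
  set y := n0 C * g * n0 C
  have key : ∀ u v : G, n0 C * u * n0 C * (n0 C * v * n0 C) = n0 C * (u * v) * n0 C := fun u v => by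
    simp only [mul_assoc]; rw [← mul_assoc (n0 C) (n0 C), n0_sq, one_mul]
  have hy : y * T.Θ (la * la) = T.Θ (la * la) * y := by
    have e : T.Θ (la * la) = n0 C * T.Θ lc * n0 C := by
      rw [hc]; simp only [← mul_assoc]; rw [n0_sq, one_mul, mul_assoc, n0_sq, mul_one]
    rw [e, key, key, h]
  obtain ⟨x, hx, hxy⟩ := T.exists_of_comm (g := y) (by
    have h2 := (show Commute y (T.Θ (la * la)) from hy).pow_right 2
    rwa [← map_pow, show (la * la) ^ 2 = la by decide +kernel] at h2)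
  refine ⟨x, hx, ?_⟩
  rw [m_apply, hxy]
  simp only [y, ← mul_assoc]
  rw [n0_sq, one_mul, mul_assoc, n0_sq, mul_one]

/-! ### The two centralisers -/

theorem fData : Top.Data (T.XX F0) (F0.map T.Θ) (T.Θ la) (T.Θ ed) (T.Θ ei) := by
  obtain ⟨f1, f2, f3, f4, f5, f6, f7, f8, f9, f10, f11, f12, f13⟩ := F_facts
  refine T.data card_F0 ?_ ?_ ?_ ?_ ?_ ?_ f10 f11 f12 f13 ?_ ?_ ?_
  · rintro x (rfl | rfl | rfl | rfl) y (rfl | rfl | rfl | rfl) <;> decide +kernel
  · rintro k (rfl | rfl | rfl | rfl)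
    exacts [by simp, f1, f2, by rw [← mul_assoc, f1, mul_assoc, f2, mul_assoc]]
  · rintro k (rfl | rfl | rfl | rfl)
    exacts [by simp, f3, f4, by rw [← mul_assoc, f3, mul_assoc, f4, mul_assoc]]
  · rintro k (rfl | rfl | rfl | rfl) h
    exacts [rfl, absurd h f5, absurd h f6, absurd h f7]
  · rintro k (rfl | rfl | rfl | rfl)
    · simp [mem_F0]
    · exact mem_F0.2 (Or.inr f8)
    · exact mem_F0.2 (Or.inr f9)
    · have h : ed * (ew * ef) * ed⁻¹ = ed * ew * ed⁻¹ * (ed * ef * ed⁻¹) := by group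
      rw [h]
      exact mul_mem (mem_F0.2 (Or.inr f8)) (mem_F0.2 (Or.inr f9))
  · intro x hx hk
    obtain ⟨i, h | h | h | h⟩ := cent_F0 x hx (hk ew (by simp [mem_F0])) (hk ef (by simp [mem_F0]))
    exacts [⟨i, 1, one_mem _, by rw [mul_one]; exact h⟩, ⟨i, _, mem_F0.2 (by simp), h⟩,
      ⟨i, _, mem_F0.2 (by simp), h⟩, ⟨i, _, mem_F0.2 (by simp), h⟩]
  · intro x hx hc
    have h1 := Subgroup.orderOf_dvd_natCard (centralizer ({T.Θ ed} : Set G))
      (mem_centralizer_singleton_iff.2 hc.eq.symm)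
    rw [hx, T.card_d] at h1
    norm_num at h1
  · rw [T.card_ad]; norm_num
  · rw [T.card_aad]; norm_num

theorem eData : Top.Data (T.XX E0) (E0.map T.Θ) (T.Θ la) (T.Θ lc) (T.Θ lJ) := by
  obtain ⟨f1, f2, f3, f4, f5, f6, f7, f8, f9, f10, f11, f12, f13⟩ := E_facts
  refine T.data card_E0 ?_ ?_ ?_ ?_ ?_ ?_ f10 f11 f12 f13 ?_ ?_ ?_
  · rintro x (rfl | rfl | rfl | rfl) y (rfl | rfl | rfl | rfl) <;> decide +kernel
  · rintro k (rfl | rfl | rfl | rfl)
    exacts [by simp, f1, f2, by rw [← mul_assoc, f1, mul_assoc, f2, mul_assoc]]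
  · rintro k (rfl | rfl | rfl | rfl)
    exacts [by simp, f3, f4, by rw [← mul_assoc, f3, mul_assoc, f4, mul_assoc]]
  · rintro k (rfl | rfl | rfl | rfl) h
    exacts [rfl, absurd h f5, absurd h f6, absurd h f7]
  · rintro k (rfl | rfl | rfl | rfl)
    · simp [mem_E0]
    · exact mem_E0.2 (Or.inr f8)
    · exact mem_E0.2 (Or.inr f9)
    · have h : lc * (ew * ew') * lc⁻¹ = lc * ew * lc⁻¹ * (lc * ew' * lc⁻¹) := by group
      rw [h]
      exact mul_mem (mem_E0.2 (Or.inr f8)) (mem_E0.2 (Or.inr f9))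
  · intro x hx hk
    obtain ⟨i, h | h | h | h⟩ := cent_E0 x hx (hk ew (by simp [mem_E0])) (hk ew' (by simp [mem_E0]))
    exacts [⟨i, 1, one_mem _, by rw [mul_one]; exact h⟩, ⟨i, _, mem_E0.2 (by simp), h⟩,
      ⟨i, _, mem_E0.2 (by simp), h⟩, ⟨i, _, mem_E0.2 (by simp), h⟩]
  · intro x hx hc
    obtain ⟨l, hl, rfl⟩ := T.exists_of_comm_lc hc.eq.symm
    rw [m, orderOf_injective _ ((MulAut.conj (n0 C)).injective.comp T.inj)] at hx
    refine T.not_seven_of_la (x := T.Θ l) (by rw [orderOf_injective _ T.inj]; exact hx) ?_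
    exact (show Commute la l from hl.symm).map T.Θ
  · rw [T.card_ac]; norm_num
  · rw [T.card_aac]; norm_num

/-- The centraliser of `{(5 6)(7 8), (3 4)(5 6)}` normalises `⟨a⟩`. -/
theorem mem_range_of_XX_F0 {g : G} (hg : g ∈ T.XX F0) : g ∈ T.Θ.range := by
  obtain ⟨e, ⟨k, -, rfl⟩, h⟩ := Top.exists_mul_comm T.fData g hg
  obtain ⟨x, hx⟩ := T.mem_range_of_comm_d h.eq
  exact ⟨x * k⁻¹, by rw [map_mul, map_inv, hx, mul_inv_cancel_right]⟩

/-- An element centralising `{(5 6)(7 8), (5 7)(6 8)}` agrees modulo it with a mirror element. -/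
theorem exists_of_XX_E0 {g : G} (hg : g ∈ T.XX E0) :
    ∃ x : L, x * la = la * x ∧ T.m x ∈ T.XX E0 ∧ ∃ k ∈ E0, g = T.m x * T.Θ k := by
  obtain ⟨-, ⟨k, hk, rfl⟩, h⟩ := Top.exists_mul_comm T.eData g hg
  obtain ⟨x, hx, hxy⟩ := T.exists_of_comm_lc h.eq
  refine ⟨x, hx, ?_, k⁻¹, inv_mem hk, by rw [hxy, map_inv, mul_inv_cancel_right]⟩
  rw [hxy]
  exact mul_mem hg (T.eData.le ⟨k, hk, rfl⟩)

/-- The mirrored part of the centraliser. -/
def Yp : Subgroup L :=
  centralizer ({la} : Set L) ⊓ (T.XX E0).comap T.m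

theorem mem_Yp {x : L} : x ∈ T.Yp ↔ x * la = la * x ∧ T.m x ∈ T.XX E0 := by
  rw [Yp, mem_inf, mem_centralizer_singleton_iff, mem_comap]

theorem cube_lc {x : L} (hx : x ∈ T.Yp) (h : x * lc = lc * x) :
    ∃ i : Fin 3, x = lc ^ (i : ℕ) := by
  obtain ⟨hxa, hxm⟩ := T.mem_Yp.1 hx
  have hcomm : T.m x * T.Θ (la * la) = T.Θ (la * la) * T.m x := by
    rw [← T.m_lc, ← map_mul, ← map_mul, h]
  obtain ⟨l, hl, hl'⟩ := T.exists_of_comm (g := T.m x) (by
    have h2 := (show Commute (T.m x) (T.Θ (la * la)) from hcomm).pow_right 2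
    rwa [← map_pow, show (la * la) ^ 2 = la by decide +kernel] at h2)
  have hlc : l * lc = lc * l := by
    apply T.inj
    rw [map_mul, map_mul, hl', show T.Θ lc = T.m (la * la) by
      rw [map_mul, T.m_la, ← map_mul]; exact congrArg T.Θ (by decide +kernel), ← map_mul, ← map_mul]
    exact congrArg T.m ((show Commute x la from hxa).mul_right hxa).eq
  have hk : ∀ k ∈ E0, l * k = k * l := fun k hk => T.inj (by
    rw [map_mul, map_mul, hl']; exact (T.mem_XX.1 hxm k hk).eq.symm)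
  obtain ⟨i, hi⟩ := cent_E0 l hl (hk ew (by simp [mem_E0])) (hk ew' (by simp [mem_E0]))
  obtain ⟨-, -, -, -, f5, f6, f7, -, -, f10, -⟩ := E_facts
  have hpc : la ^ (i : ℕ) * lc = lc * la ^ (i : ℕ) := ((show Commute la lc from f10).pow_left _).eq
  have hout : ∀ k : L, l = la ^ (i : ℕ) * k → k * lc = lc * k := fun k hk => by
    rw [hk] at hlc
    refine mul_left_cancel (a := la ^ (i : ℕ)) ?_
    calc la ^ (i : ℕ) * (k * lc) = la ^ (i : ℕ) * k * lc := (mul_assoc _ _ _).symm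
      _ = lc * (la ^ (i : ℕ) * k) := hlc
      _ = la ^ (i : ℕ) * lc * k := by rw [hpc, mul_assoc]
      _ = la ^ (i : ℕ) * (lc * k) := mul_assoc _ _ _
  rcases hi with hi | hi | hi | hi
  · refine ⟨⟨2 * (i : ℕ) % 3, Nat.mod_lt _ (by norm_num)⟩, ?_⟩
    have hmm : Function.Injective T.m := (MulAut.conj (n0 C)).injective.comp T.inj
    refine hmm ?_
    rw [← hl', hi, map_pow T.m, T.m_lc, ← map_pow]
    exact congrArg T.Θ ((by decide +kernel :
      ∀ i : Fin 3, la ^ (i : ℕ) = (la * la) ^ (2 * (i : ℕ) % 3)) i)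
  · exact absurd (hout _ hi).symm f5
  · exact absurd (hout _ hi).symm f6
  · exact absurd (hout _ hi).symm f7

theorem lc_mem_Yp : lc ∈ T.Yp :=
  T.mem_Yp.2 ⟨E_facts.2.2.2.2.2.2.2.2.2.1.symm, by
    rw [T.m_lc, map_mul]; exact mul_mem T.eData.haX T.eData.haX⟩

theorem g1_mem_Yp : g1 ∈ T.Yp :=
  T.mem_Yp.2 ⟨by decide +kernel, by rw [T.m_g1]; exact T.eData.htX⟩

/-- The three possibilities for the centraliser of the four-group. -/
theorem cases_XX_E0 :
    (∀ g ∈ T.XX E0, g ∈ T.Θ.range) ∨ T.m ek ∈ T.XX E0 ∨ T.m ew ∈ T.XX E0 := by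
  classical
  set Q : Subgroup (Perm (Fin 6)) :=
    T.Yp.map ((MonoidHom.snd (Perm (Fin 3)) (Perm (Fin 6))).comp L.subtype) with hQ
  have hsign : ∀ x ∈ T.Yp, Perm.sign (x : PP).1 = 1 ∧ Perm.sign (x : PP).2 = 1 := by
    intro x hx
    have h := congrArg (fun y : L => (y : PP).1) (T.mem_Yp.1 hx).1
    have key : ∀ p : Perm (Fin 3), p * (swap 0 1 * swap 1 2) = swap 0 1 * swap 1 2 * p →
        Perm.sign p = 1 := by decide +kernel
    exact ⟨key _ h, (sign_eq x).symm.trans (key _ h)⟩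
  have cube : ∀ x ∈ T.Yp, (x : PP).1 * (x : PP).1 * (x : PP).1 = 1 := fun x hx =>
    (by decide +kernel : ∀ p : Perm (Fin 3), Perm.sign p = 1 → p * p * p = 1) _ (hsign x hx).1
  obtain ⟨⟨hlc1, hg11⟩, hlc2, hg12, hT⟩ := T6_lift
  have hT6 : ∀ i, T6 i ∈ Q := fun i => by
    rw [hT i]
    exact mul_mem (pow_mem (show T6 1 ∈ Q from ⟨lc, T.lc_mem_Yp, hlc2⟩) _)
      (pow_mem (show T6 3 ∈ Q from ⟨g1, T.g1_mem_Yp, hg12⟩) _)
  have lift : ∀ {q : Perm (Fin 6)}, q * q = 1 → q ∈ Q → ∀ y : L, (y : PP).1 = 1 → (y : PP).2 = q →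
      T.m y ∈ T.XX E0 := by
    rintro q hq ⟨x, hx, rfl⟩ y hy1 hy2
    have e : y = x * x * x := by
      refine Subtype.ext (Prod.ext ?_ ?_)
      · show (y : PP).1 = (x : PP).1 * (x : PP).1 * (x : PP).1
        rw [hy1, cube x hx]
      · show (y : PP).2 = (x : PP).2 * (x : PP).2 * (x : PP).2
        rw [hy2]
        exact ((congrArg (· * (x : PP).2) hq).trans (one_mul _)).symm
    rw [e]
    exact (T.mem_Yp.1 (mul_mem (mul_mem hx hx) hx)).2
  have hgood : ∀ k, word k ∈ Q → T.m ek ∈ T.XX E0 ∨ T.m ew ∈ T.XX E0 := by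
    intro k hk
    rcases word_good k with h | h | ⟨hcomm, hn0, hn1, hn2⟩
    · exact Or.inl (lift (by rw [h]; decide +kernel) hk ek rfl h.symm)
    · exact Or.inr (lift (by rw [h]; decide +kernel) hk ew rfl h.symm)
    · exfalso
      obtain ⟨x, hx, hxw⟩ := hk
      have hxw' : (x : PP).2 = word k := hxw
      have hxc : x * lc = lc * x := by
        refine Subtype.ext (Prod.ext ?_ ?_)
        · show (x : PP).1 * (lc : PP).1 = (lc : PP).1 * (x : PP).1
          rw [hlc1, mul_one, one_mul]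
        · show (x : PP).2 * (lc : PP).2 = (lc : PP).2 * (x : PP).2
          rw [hxw', hlc2]; exact hcomm
      obtain ⟨i, hi⟩ := T.cube_lc hx hxc
      have hw : word k = T6 1 ^ (i : ℕ) := by rw [← hxw', hi, ← hlc2]; rfl
      fin_cases i
      · exact hn0 (by rw [hw]; exact pow_zero _)
      · exact hn1 (by rw [hw]; exact pow_one _)
      · exact hn2 (by rw [hw]; exact pow_two _)
  by_cases hall : ∀ q ∈ Q, ∃ i, q = T6 i
  · refine Or.inl fun g hg => ?_
    obtain ⟨x, hxa, hxm, k, -, rfl⟩ := T.exists_of_XX_E0 hg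
    have hx : x ∈ T.Yp := T.mem_Yp.2 ⟨hxa, hxm⟩
    obtain ⟨i, hi⟩ := hall _ ⟨x, hx, rfl⟩
    have e : (x : PP).2 = T6 i := hi
    set y : L := lc ^ ((i : ℕ) % 3) * g1 ^ ((i : ℕ) / 3) with hy
    have hyY : y ∈ T.Yp := mul_mem (pow_mem T.lc_mem_Yp _) (pow_mem T.g1_mem_Yp _)
    have hz : (x * y⁻¹ : L) * lc = lc * (x * y⁻¹) := by
      refine Subtype.ext (Prod.ext ?_ ?_)
      · show _ * (lc : PP).1 = (lc : PP).1 * _
        rw [hlc1, mul_one, one_mul]
      · show (x : PP).2 * (y : PP).2⁻¹ * (lc : PP).2 = (lc : PP).2 * ((x : PP).2 * (y : PP).2⁻¹)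
        have : (y : PP).2 = T6 i := by
          rw [hT i, ← hlc2, ← hg12]; rfl
        rw [e, this, mul_inv_cancel, one_mul, mul_one]
    obtain ⟨j, hj⟩ := T.cube_lc (mul_mem hx (inv_mem hyY)) hz
    refine mul_mem ?_ ⟨k, rfl⟩
    rw [show x = lc ^ (j : ℕ) * y by rw [← hj, inv_mul_cancel_right], hy, map_mul, map_mul, map_pow,
      map_pow, map_pow, T.m_lc, T.m_g1]
    have hr : ∀ z, T.Θ z ∈ T.Θ.range := fun z => ⟨z, rfl⟩
    exact mul_mem (pow_mem (hr _) _) (mul_mem (pow_mem (hr _) _) (pow_mem (hr _) _))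
  · push Not at hall
    obtain ⟨q, hq, hne⟩ := hall
    refine Or.inr ?_
    have hs : Perm.sign q = 1 := by
      obtain ⟨x, hx, rfl⟩ := hq
      exact (hsign x hx).2
    rcases T6_cover q hs with ⟨i, hi⟩ | ⟨i, j, k, hk⟩
    · exact absurd hi (hne i)
    have hr : rep k ∈ Q := by
      rcases hk with hk | hk <;> rw [← hk]
      · exact mul_mem (mul_mem (hT6 i) hq) (hT6 j)
      · exact mul_mem (mul_mem (hT6 i) (inv_mem hq)) (hT6 j)
    refine hgood k ?_
    have hw : ∀ k, rep k ∈ Q → word k ∈ Q := fun k hk => word_mem Q (hT6 1) (hT6 3) k hk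
    exact hw k hr

/-- The case of a symmetric group of degree four does not occur. -/
theorem not_ek : T.m ek ∉ T.XX E0 := by
  intro hk
  have hF : T.m ek ∈ T.XX F0 := by
    refine T.mem_XX.2 fun k hk0 => ?_
    have h1 : Commute (T.Θ ew) (T.m ek) := T.mem_XX.1 hk ew (by simp [mem_E0])
    have h2 : Commute (T.Θ l3) (T.m ek) := by
      have e : T.Θ l3 = T.m s5 := by
        rw [T.m_apply, ← T.m_l3, T.m_apply]
        simp only [← mul_assoc]
        rw [n0_sq, one_mul, mul_assoc, n0_sq, mul_one]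
      rw [e]
      exact (show Commute s5 ek from (by decide +kernel : s5 * ek = ek * s5)).map T.m
    have hef : ef = ew * l3 := by decide +kernel
    have h3 : Commute (T.Θ ef) (T.m ek) := by rw [hef, map_mul]; exact h1.mul_left h2
    rcases hk0 with rfl | rfl | rfl | rfl
    · rw [map_one]; exact Commute.one_left _
    · exact h1
    · exact h3
    · rw [map_mul]; exact h1.mul_left h3
  obtain ⟨l, hl⟩ := T.mem_range_of_XX_F0 hF
  have hnorm : ∀ l : L, l * la * l⁻¹ = la ∨ l * la * l⁻¹ = la * la := by decide +kernel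
  have hla2 : la = (la * la) * (la * la) := by decide +kernel
  have himg : T.m ek * T.Θ la * (T.m ek)⁻¹ = T.m (ek * (lc * lc) * ek⁻¹) := by
    rw [map_mul, map_mul, map_inv]
    congr 2
    rw [map_mul, T.m_lc, ← map_mul]
    exact congrArg T.Θ hla2
  have hmla : T.Θ la = T.m (lc * lc) := by
    rw [map_mul, T.m_lc, ← map_mul]
    exact congrArg T.Θ hla2
  have hmla2 : T.Θ (la * la) = T.m lc := T.m_lc.symm
  have hmm : Function.Injective T.m := (MulAut.conj (n0 C)).injective.comp T.inj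
  rw [← hl] at himg
  rw [← map_inv, ← map_mul, ← map_mul] at himg
  rcases hnorm l with h | h <;> rw [h] at himg
  · exact absurd (hmm (hmla.symm.trans himg)) (by decide +kernel)
  · exact absurd (hmm (hmla2.symm.trans himg)) (by decide +kernel)

end Th

end Cfsg.Agent.Lib.A9Local22
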