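import Cfsg.Agent.Lib.A9Local22.Moore
import Mathlib.Tactic.Group

/-!
# The stabiliser in `A₉` of three points, and gluing a homomorphism out of it

Owner: helper22.
-/

set_option autoImplicit false
set_option maxRecDepth 100000
set_option synthInstance.maxHeartbeats 400000

namespace Cfsg.Agent.Lib.A9Local22.Model

open Equiv

/-- A permutation of `{0, 1, 2}` and one of `{3, …, 8}`. -/
abbrev PP := Perm (Fin 3) × Perm (Fin 6)

/-- The product of the signs. -/
def parity : PP →* ℤˣ :=
  ((Perm.sign).comp (MonoidHom.fst (Perm (Fin 3)) (Perm (Fin 6)))) *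
    ((Perm.sign).comp (MonoidHom.snd (Perm (Fin 3)) (Perm (Fin 6))))

/-- The even elements. -/
abbrev L : Subgroup PP := parity.ker

instance : DecidablePred (· ∈ L) := fun x =>
  decidable_of_iff (parity x = 1) MonoidHom.mem_ker.symm

instance : Fintype L := Subtype.fintype fun x : PP => x ∈ L

/-- An element of `L`. -/
def mk (p : Perm (Fin 3)) (q : Perm (Fin 6)) (h : parity (p, q) = 1 := by decide +kernel) : L :=
  ⟨(p, q), MonoidHom.mem_ker.2 h⟩

/-- The points `0, 1, 2` and `3, …, 8`. -/
def iota : PP →* Perm (Fin 9) :=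
  (finSumFinEquiv (m := 3) (n := 6)).permCongrHom.toMonoidHom.comp (Perm.sumCongrHom (Fin 3) (Fin 6))

theorem iota_injective : Function.Injective iota :=
  (finSumFinEquiv (m := 3) (n := 6)).permCongrHom.injective.comp Perm.sumCongrHom_injective

theorem iota_even (x : L) : Perm.sign (iota (x : PP)) = 1 := by
  have h := MonoidHom.mem_ker.1 x.2
  show Perm.sign ((finSumFinEquiv (m := 3) (n := 6)).permCongr (Perm.sumCongr (x : PP).1 (x : PP).2)) = 1
  rw [Perm.sign_permCongr, Perm.sign_sumCongr]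
  exact h

/-- The transposition of the first two of the three points. -/
def s3 : Perm (Fin 3) := swap 0 1

/-- The transposition of the first two of the six points. -/
def s6 : Perm (Fin 6) := swap 0 1

theorem s_facts : s3 * s3 = 1 ∧ s6 * s6 = 1 ∧ Perm.sign s3 = -1 ∧ Perm.sign s6 = -1 := by decide +kernel

theorem sign_eq (x : L) : Perm.sign (x : PP).1 = Perm.sign (x : PP).2 := by
  have h : Perm.sign (x : PP).1 * Perm.sign (x : PP).2 = 1 := MonoidHom.mem_ker.1 x.2
  rcases Int.units_eq_one_or (Perm.sign (x : PP).1) with h1 | h1 <;>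
    rcases Int.units_eq_one_or (Perm.sign (x : PP).2) with h2 | h2 <;>
    rw [h1, h2] at h ⊢ <;> exact absurd h (by decide)

/-- Conjugation by the transposition on three points. -/
def tw3 (p : alternatingGroup (Fin 3)) : alternatingGroup (Fin 3) :=
  ⟨s3 * p * s3, by
    rw [Perm.mem_alternatingGroup, map_mul, map_mul, Perm.mem_alternatingGroup.1 p.2, s_facts.2.2.1]
    rfl⟩

/-- Conjugation by the transposition on six points. -/
def tw6 (q : alternatingGroup (Fin 6)) : alternatingGroup (Fin 6) :=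
  ⟨s6 * q * s6, by
    rw [Perm.mem_alternatingGroup, map_mul, map_mul, Perm.mem_alternatingGroup.1 q.2, s_facts.2.2.2]
    rfl⟩

variable {G : Type*} [Group G] (α : alternatingGroup (Fin 3) →* G) (θ : alternatingGroup (Fin 6) →* G) (J : G)

/-- The value of the glued map. -/
noncomputable def glue (x : L) : G :=
  if h : Perm.sign (x : PP).2 = 1 then
    α ⟨(x : PP).1, Perm.mem_alternatingGroup.2 ((sign_eq x).trans h)⟩ *
      θ ⟨(x : PP).2, Perm.mem_alternatingGroup.2 h⟩
  else
    α ⟨(x : PP).1 * s3, Perm.mem_alternatingGroup.2 (by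
      rw [map_mul, sign_eq x, (Int.units_eq_one_or _).resolve_left h, s_facts.2.2.1]; rfl)⟩ *
    θ ⟨(x : PP).2 * s6, Perm.mem_alternatingGroup.2 (by
      rw [map_mul, (Int.units_eq_one_or _).resolve_left h, s_facts.2.2.2]; rfl)⟩ * J

variable {α θ J} (hc : ∀ p q, Commute (α p) (θ q)) (hJ : J * J = 1)
  (hα : ∀ p, J * α p = α (tw3 p) * J) (hθ : ∀ q, J * θ q = θ (tw6 q) * J)

include hc hJ hα hθ

theorem glue_mul (x y : L) : glue α θ J (x * y) = glue α θ J x * glue α θ J y := by
  obtain ⟨h3, h6, t3, t6⟩ := s_facts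
  have hs : ∀ z : L, Perm.sign (z : PP).2 = 1 ∨ Perm.sign (z : PP).2 = -1 := fun z => Int.units_eq_one_or _
  have hxy : Perm.sign ((x * y : L) : PP).2 = Perm.sign (x : PP).2 * Perm.sign (y : PP).2 := map_mul _ _ _
  have hne : (-1 : ℤˣ) ≠ 1 := by decide
  have assoc4 : ∀ (p p' : alternatingGroup (Fin 3)) (q q' : alternatingGroup (Fin 6)),
      α p * θ q * (α p' * θ q') = α (p * p') * θ (q * q') := fun p p' q q' => by
    rw [map_mul, map_mul, mul_assoc, ← mul_assoc (θ q), ← (hc p' q).eq]
    simp only [mul_assoc]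
  have push : ∀ (p : alternatingGroup (Fin 3)) (q : alternatingGroup (Fin 6)),
      J * (α p * θ q) = α (tw3 p) * θ (tw6 q) * J := fun p q => by
    rw [← mul_assoc, hα, mul_assoc, hθ, ← mul_assoc]
  rcases hs x with hx | hx <;> rcases hs y with hy | hy
  · unfold glue
    rw [dif_pos (by rw [hxy, hx, hy]; rfl), dif_pos hx, dif_pos hy, assoc4]
    rfl
  · unfold glue
    rw [dif_neg (by rw [hxy, hx, hy, one_mul]; exact hne), dif_pos hx, dif_neg (by rw [hy]; exact hne),
      ← mul_assoc _ (α _ * θ _) J, assoc4]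
    congr 3
  · unfold glue
    rw [dif_neg (by rw [hxy, hx, hy, mul_one]; exact hne), dif_neg (by rw [hx]; exact hne), dif_pos hy,
      mul_assoc _ J, push, ← mul_assoc, assoc4]
    congr 3 <;> refine Subtype.ext ?_
    · show _ = (x : PP).1 * s3 * (s3 * (y : PP).1 * s3)
      calc (x : PP).1 * (y : PP).1 * s3 = (x : PP).1 * (s3 * s3) * (y : PP).1 * s3 := by rw [h3, mul_one]
        _ = _ := by simp only [mul_assoc]
    · show _ = (x : PP).2 * s6 * (s6 * (y : PP).2 * s6)
      calc (x : PP).2 * (y : PP).2 * s6 = (x : PP).2 * (s6 * s6) * (y : PP).2 * s6 := by rw [h6, mul_one]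
        _ = _ := by simp only [mul_assoc]
  · unfold glue
    rw [dif_pos (by rw [hxy, hx, hy]; rfl), dif_neg (by rw [hx]; exact hne),
      dif_neg (by rw [hy]; exact hne), mul_assoc _ J, ← mul_assoc J, push, mul_assoc _ J J, hJ, mul_one,
      assoc4]
    congr 2 <;> refine Subtype.ext ?_
    · show _ = (x : PP).1 * s3 * (s3 * ((y : PP).1 * s3) * s3)
      calc (x : PP).1 * (y : PP).1 = (x : PP).1 * (s3 * s3) * (y : PP).1 * (s3 * s3) := by
            rw [h3, mul_one, mul_one]
        _ = _ := by simp only [mul_assoc]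
    · show _ = (x : PP).2 * s6 * (s6 * ((y : PP).2 * s6) * s6)
      calc (x : PP).2 * (y : PP).2 = (x : PP).2 * (s6 * s6) * (y : PP).2 * (s6 * s6) := by
            rw [h6, mul_one, mul_one]
        _ = _ := by simp only [mul_assoc]

theorem exists_glue : ∃ Θ : L →* G, Θ (mk s3 s6) = J ∧
    ∀ (x : L) (p : alternatingGroup (Fin 3)) (q : alternatingGroup (Fin 6)),
      (x : PP) = ((p : Perm (Fin 3)), (q : Perm (Fin 6))) → Θ x = α p * θ q := by
  refine ⟨MonoidHom.mk' (glue α θ J) (glue_mul hc hJ hα hθ), ?_, fun x p q hx => ?_⟩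
  · show glue α θ J (mk s3 s6) = J
    unfold glue
    rw [dif_neg (by show Perm.sign s6 ≠ 1; rw [s_facts.2.2.2]; decide)]
    have e1 : ∀ h, (⟨s3 * s3, h⟩ : alternatingGroup (Fin 3)) = 1 := fun h => Subtype.ext s_facts.1
    have e2 : ∀ h, (⟨s6 * s6, h⟩ : alternatingGroup (Fin 6)) = 1 := fun h => Subtype.ext s_facts.2.1
    simp only [mk, e1, e2, map_one, one_mul]
  · show glue α θ J x = _
    unfold glue
    rw [dif_pos (show Perm.sign (x : PP).2 = 1 by rw [hx]; exact Perm.mem_alternatingGroup.1 q.2)]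
    congr 2
    · exact Subtype.ext (congrArg Prod.fst hx)
    · exact Subtype.ext (congrArg Prod.snd hx)

end Cfsg.Agent.Lib.A9Local22.Model
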