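import Cfsg.Agent.Lib.Spectrum.CoxeterAlt

/-!
# Homomorphisms out of alternating groups from Moore's relations

Owner: helper22.
-/

set_option autoImplicit false

namespace Cfsg.Agent.Lib.A9Local22.Moore

open Cfsg.Agent.Lib.Spectrum.CoxeterAlt

variable {G : Type*} [Group G] {k : ℕ}

/-- Moore's generators as elements of the alternating group. -/
noncomputable def gen (i : Fin k) : alternatingGroup (Fin (k + 2)) :=
  presentedAltEquiv k (PresentedGroup.of i)

theorem gen_val (i : Fin k) : (gen i : Equiv.Perm (Fin (k + 2))) = altGen i := by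
  show toPermAlt k (PresentedGroup.of i) = _
  exact PresentedGroup.toGroup.of _

/-- Moore's relations give a homomorphism. -/
theorem exists_hom (X : Fin k → G) (h3 : ∀ i : Fin k, i.val = 0 → X i ^ 3 = 1)
    (h2 : ∀ i : Fin k, 1 ≤ i.val → X i ^ 2 = 1)
    (hb : ∀ i j : Fin k, j.val = i.val + 1 → (X i * X j) ^ 3 = 1)
    (hc : ∀ i j : Fin k, i.val + 1 < j.val → (X i * X j) ^ 2 = 1) :
    ∃ f : alternatingGroup (Fin (k + 2)) →* G,
      ∀ (i : Fin k) (p : alternatingGroup (Fin (k + 2))),
        (p : Equiv.Perm (Fin (k + 2))) = altGen i → f p = X i := by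
  have hrels : ∀ r ∈ rels k, FreeGroup.lift X r = 1 := by
    rintro r (((⟨i, hi, rfl⟩ | ⟨i, hi, rfl⟩) | ⟨i, j, hij, rfl⟩) | ⟨i, j, hij, rfl⟩) <;>
      simp only [map_mul, map_pow, FreeGroup.lift_apply_of]
    · exact h3 i hi
    · exact h2 i hi
    · exact hb i j hij
    · exact hc i j hij
  refine ⟨(PresentedGroup.toGroup hrels).comp (presentedAltEquiv k).symm.toMonoidHom, fun i p hp => ?_⟩
  have h1 : gen i = p := Subtype.ext ((gen_val i).trans hp.symm)
  show PresentedGroup.toGroup hrels ((presentedAltEquiv k).symm p) = X i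
  rw [← h1, gen, MulEquiv.symm_apply_apply]
  exact PresentedGroup.toGroup.of _

/-- Two homomorphisms agreeing on Moore's generators are equal. -/
theorem hom_ext {f g : alternatingGroup (Fin (k + 2)) →* G}
    (h : ∀ i : Fin k, f (gen i) = g (gen i)) : f = g := by
  have h1 : f.comp (presentedAltEquiv k).toMonoidHom = g.comp (presentedAltEquiv k).toMonoidHom :=
    PresentedGroup.ext fun i => h i
  refine MonoidHom.ext fun p => ?_
  have h2 := DFunLike.congr_fun h1 ((presentedAltEquiv k).symm p)
  simpa using h2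

/-- A homomorphism which is nontrivial on an alternating group of degree at least five is injective. -/
theorem injective_of_ne (hk : 3 ≤ k) {f : alternatingGroup (Fin (k + 2)) →* G}
    {p : alternatingGroup (Fin (k + 2))} (hp : f p ≠ 1) : Function.Injective f := by
  have : IsSimpleGroup (alternatingGroup (Fin (k + 2))) :=
    alternatingGroup.isSimpleGroup (by simp; omega)
  rw [← MonoidHom.ker_eq_bot_iff]
  exact ((MonoidHom.normal_ker f).eq_bot_or_eq_top).resolve_right
    fun h => hp (MonoidHom.mem_ker.1 (h ▸ Subgroup.mem_top _))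

end Cfsg.Agent.Lib.A9Local22.Moore
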