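import Cfsg.Agent.Lib.A9Local22.Moore

/-!
# Completing the normaliser of a Sylow three-subgroup of `A₆`

Owner: helper22.
-/

set_option autoImplicit false
set_option maxRecDepth 100000
set_option synthInstance.maxHeartbeats 400000

namespace Cfsg.Agent.Lib.A9Local22.Six

open Equiv

abbrev P6 := Equiv.Perm (Fin 6)

/-- The two kinds of elements of order three. -/
def reps : List P6 := [swap 0 1 * swap 1 2, swap 0 1 * swap 1 2 * (swap 3 4 * swap 4 5)]

theorem reps_cover : ∀ b : P6, Perm.sign b = 1 → b * b * b = 1 → b ≠ 1 →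
    ∃ r ∈ reps, ∃ g : P6, Perm.sign g = 1 ∧ g * b = r * g := by decide +kernel

/-- The conditions on the images of the known generators. -/
def Good (b x z : P6) : Prop :=
  x * z * (x * z) * (x * z) = 1 ∧ x * z ≠ b ∧ x * z ≠ b⁻¹ ∧ x * z ≠ 1 ∧
    ∃ g : P6, Perm.sign g = 1 ∧ g * b = (x * z) * g

instance (b x z : P6) : Decidable (Good b x z) := by unfold Good; infer_instance

/-- The conditions on the missing generator. -/
def Fits (b x z y : P6) : Prop :=
  y * y = 1 ∧ (b * y) * (b * y) * (b * y) = 1 ∧ (y * x) * (y * x) * (y * x) = 1 ∧ (y * z) * (y * z) = 1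

instance (b x z y : P6) : Decidable (Fits b x z y) := by unfold Fits; infer_instance

theorem fit_reps : ∀ r ∈ reps, ∀ x : P6, Perm.sign x = 1 → x * x = 1 → (r * x) * (r * x) = 1 →
    ∀ z : P6, Perm.sign z = 1 → z * z = 1 → (r * z) * (r * z) = 1 → Good r x z →
      (Finset.univ.filter fun y : P6 => Perm.sign y = 1 ∧ Fits r x z y).card = 1 := by decide +kernel

theorem existsUnique_fit (b x z : P6) (sb : Perm.sign b = 1) (hb : b * b * b = 1) (hb1 : b ≠ 1)
    (sx : Perm.sign x = 1) (hx : x * x = 1) (hbx : (b * x) * (b * x) = 1)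
    (sz : Perm.sign z = 1) (hz : z * z = 1) (hbz : (b * z) * (b * z) = 1) (hg : Good b x z) :
    ∃! y : P6, Perm.sign y = 1 ∧ Fits b x z y := by
  obtain ⟨r, hr, g, sg, hgb⟩ := reps_cover b sb hb hb1
  set c := MulAut.conj g with hc
  have hcb : c b = r := mul_inv_eq_iff_eq_mul.2 hgb
  have hs : ∀ p, Perm.sign (c p) = Perm.sign p := fun p => by
    simp [hc, MulAut.conj_apply, map_mul, map_inv, sg]
  have hgood : Good r (c x) (c z) := by
    obtain ⟨g1, g2, g3, g4, u, su, hu⟩ := hg
    refine ⟨?_, ?_, ?_, ?_, c u, (hs u).trans su, ?_⟩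
    · rw [← map_mul, ← map_mul, ← map_mul, g1, map_one]
    · rw [← map_mul, ← hcb]; exact fun h => g2 (c.injective h)
    · rw [← map_mul, ← hcb, ← map_inv]; exact fun h => g3 (c.injective h)
    · rw [← map_mul]; exact fun h => g4 (c.injective (h.trans (map_one c).symm))
    · rw [← hcb, ← map_mul, ← map_mul, ← map_mul, hu]
  have hfits : ∀ y, Fits r (c x) (c z) (c y) ↔ Fits b x z y := fun y => by
    unfold Fits
    rw [← hcb]
    simp only [← map_mul, map_eq_one_iff c c.injective]
  have h := fit_reps r hr (c x) ((hs x).trans sx) (by rw [← map_mul, hx, map_one])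
    (by rw [← hcb, ← map_mul, ← map_mul, hbx, map_one]) (c z) ((hs z).trans sz)
    (by rw [← map_mul, hz, map_one]) (by rw [← hcb, ← map_mul, ← map_mul, hbz, map_one]) hgood
  obtain ⟨y, hy⟩ := Finset.card_eq_one.1 h
  have hmem : ∀ w, Perm.sign w = 1 ∧ Fits r (c x) (c z) w ↔ w = y := fun w => by
    simpa using Finset.ext_iff.1 hy w
  refine ⟨c.symm y, ?_, fun w hw => ?_⟩
  · obtain ⟨sy, fy⟩ := (hmem y).2 rfl
    refine ⟨?_, (hfits _).1 (by rwa [MulEquiv.apply_symm_apply])⟩
    rw [← hs, MulEquiv.apply_symm_apply]; exact sy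
  · rw [← (hmem (c w)).1 ⟨(hs w).trans hw.1, (hfits w).2 hw.2⟩, MulEquiv.symm_apply_apply]

end Cfsg.Agent.Lib.A9Local22.Six
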