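import Cfsg.Agent.Lib.A9Local22.Model
import Cfsg.Agent.Lib.A9Norm79.Setup

/-!
# Elements of the model used for the embedding of `N(⟨a⟩)`

Owner: helper22.
-/

set_option autoImplicit false
set_option maxRecDepth 100000
set_option synthInstance.maxHeartbeats 400000
set_option synthInstance.maxSize 4000

namespace Cfsg.Agent.Lib.A9Local22.Model

open Equiv Cfsg.Agent.Lib.A9Norm79

/-- `(0 1 2)`. -/
def la : L := mk (swap 0 1 * swap 1 2) 1
/-- `(3 4 5)`. -/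
def lb : L := mk 1 (swap 0 1 * swap 1 2)
/-- `(6 7 8)`. -/
def lc : L := mk 1 (swap 3 4 * swap 4 5)
/-- `(3 4)(5 6)`. -/
def ly : L := mk 1 (swap 0 1 * swap 2 3)
/-- `(3 4)(6 7)`. -/
def l2 : L := mk 1 (swap 0 1 * swap 3 4)
/-- `(3 4)(7 8)`. -/
def l3 : L := mk 1 (swap 0 1 * swap 4 5)
/-- `(0 1)(3 4)`. -/
def lJ : L := mk s3 s6
/-- `(0 1)(3 6)(4 7)(5 8)`. -/
def lv : L := mk s3 (swap 0 3 * (swap 1 4 * swap 2 5))

/-- The index of `(0 1 2)`. -/
def wa : W := ((1, 0, 0), (0, 0))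
/-- The index of `(3 4 5)`. -/
def wb : W := ((0, 1, 0), (0, 0))
/-- The index of `(6 7 8)`. -/
def wc : W := ((0, 0, 1), (0, 0))
/-- The index of `(3 4)(6 7)`. -/
def w2 : W := ((0, 1, 1), (1, 0))
/-- The index of `(3 4)(7 8)`. -/
def w3 : W := ((0, 1, 0), (1, 0))
/-- The index of `(0 1)(3 4)`. -/
def wJ : W := ((1, 1, 0), (3, 0))
/-- The index of `(0 1)(3 6)(4 7)(5 8)`. -/
def wv : W := ((1, 0, 0), (0, 3))
/-- An index of an element of order four carrying `b` to `c`. -/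
def wu : W := ((0, 0, 0), (3, 3))

theorem iota_vals : iota (la : PP) = A9Norm79.Model.el wa ∧ iota (lb : PP) = A9Norm79.Model.el wb ∧
    iota (lc : PP) = A9Norm79.Model.el wc ∧ iota (l2 : PP) = A9Norm79.Model.el w2 ∧
    iota (l3 : PP) = A9Norm79.Model.el w3 ∧ iota (lJ : PP) = A9Norm79.Model.el wJ ∧
    iota (lv : PP) = A9Norm79.Model.el wv := by decide +kernel

theorem w_rels : let E := A9Norm79.Model.el
    E wa * E wb = E wb * E wa ∧ E wa * E w2 = E w2 * E wa ∧ E wa * E w3 = E w3 * E wa ∧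
    E wa * E wu = E wu * E wa ∧ E wu * E wu * (E wu * E wu) = 1 ∧
    E wb * E wb * E wb = 1 ∧ E wa * E wa * E wa = 1 ∧
    E w2 * E w2 = 1 ∧ E w3 * E w3 = 1 ∧ E wJ * E wJ = 1 ∧
    E wb * E w2 * (E wb * E w2) = 1 ∧ E wb * E w3 * (E wb * E w3) = 1 ∧
    E w2 * E w3 = E wc ∧ E wc * E wc * E wc = 1 ∧ E wc ≠ E wb ∧ E wc * E wb ≠ 1 ∧ E wc ≠ 1 ∧
    E wb ≠ 1 ∧ E wu * E wb = E wc * E wu ∧
    E wJ * E wa = E wa * E wa * E wJ ∧ E wJ * E wb = E wb * E wb * E wJ ∧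
    E wJ * E w2 = E w2 * E wJ ∧ E wJ * E w3 = E w3 * E wJ ∧ E wa ≠ 1 := by decide +kernel

theorem l_rels : la * la * la = 1 ∧ lc = l2 * l3 ∧
    lv * la = la * la * lv ∧ lv * lb = lc * lv ∧ lv * lc = lb * lv ∧ lv * l2 = l2 * lv ∧
    (∃ i : Fin 3, ∃ j : Fin 3, ∃ k : Fin 3,
      lv * l3 = la ^ (i : ℕ) * lb ^ (j : ℕ) * lc ^ (k : ℕ) * l2 * lv) ∧
    (∃ i : Fin 3, ∃ j : Fin 3, ∃ k : Fin 3,
      lv * lJ = la ^ (i : ℕ) * lb ^ (j : ℕ) * lc ^ (k : ℕ) * lJ * l3 * lv) := by decide +kernel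

theorem jel_word : ∀ i : Fin 3 × Fin 3 × Fin 3,
    iota ((la ^ (i.1 : ℕ) * lb ^ (i.2.1 : ℕ) * lc ^ (i.2.2 : ℕ) : L) : PP) = A9Norm79.Model.jel i := by
  decide +kernel

/-- Words for the monomial elements in the image. -/
def melWord : Fin 4 → Bool → L
  | 0, false => 1
  | 0, true => lv * la
  | 1, false => l3 * lb
  | 1, true => l3 * lb * lv * la
  | 2, false => l3 * lJ * la
  | 2, true => l3 * lJ * lv
  | 3, false => lJ * la * lb
  | 3, true => lJ * lb * lv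

theorem mel_word : ∀ k : Fin 4 × Fin 6,
    (∃ i : Fin 3, 3 ≤ ((A9Norm79.Model.mel k) (Fin.castLE (by norm_num) i)).val) ∨
    ∃ b, iota ((melWord k.1 b : L) : PP) = A9Norm79.Model.mel k := by decide +kernel

theorem iota_stab : ∀ x : L, ∀ i : Fin 3, ((iota (x : PP)) (Fin.castLE (by norm_num) i)).val < 3 := by
  intro x i
  have : ∀ i : Fin 3, Fin.castLE (by norm_num : 3 ≤ 9) i = (finSumFinEquiv (m := 3) (n := 6)) (Sum.inl i) := by
    decide
  rw [this]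
  simp [iota, Equiv.permCongrHom, Equiv.permCongr_apply]
  rw [← this]
  exact ((x : PP).1 i).isLt

theorem J3_center : ∀ i : Fin 3 × Fin 3 × Fin 3,
    A9Norm79.Model.jel i * A9Norm79.Model.el w2 = A9Norm79.Model.el w2 * A9Norm79.Model.jel i →
    A9Norm79.Model.jel i * A9Norm79.Model.el wJ = A9Norm79.Model.el wJ * A9Norm79.Model.jel i →
    i = (0, 0, 0) := by decide +kernel

end Cfsg.Agent.Lib.A9Local22.Model
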