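import Cfsg.Agent.Lib.A9Local22.Six
import Cfsg.Agent.Lib.A9Local22.ThetaData

/-!
# The embedding of `N(⟨a⟩)`

Owner: helper22.
-/

set_option autoImplicit false
set_option maxRecDepth 100000
set_option maxHeartbeats 2000000

namespace Cfsg.Agent.Lib.A9Local22

open Equiv Model Cfsg.Agent.Lib.A9Norm79
open scoped Pointwise

universe u

/-- The hypothesis that `C(a)` is `3 × A₆`. -/
structure Big {G : Type u} [Group G] (C : Cfg G) where
  K : Subgroup G
  comm : ∀ k ∈ K, C.E wa * k = k * C.E wa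
  iso : Nonempty (K ≃* alternatingGroup (Fin 6))
  decomp : ∀ g : G, g * C.E wa = C.E wa * g → ∃ i : ℕ, ∃ k ∈ K, g = C.E wa ^ i * k

/-- An embedding of the even permutations fixing `{0, 1, 2}` as `N(⟨a⟩)`. -/
structure Th {G : Type u} [Group G] (C : Cfg G) where
  Θ : L →* G
  inj : Function.Injective Θ
  agree : ∀ (w : W) (x : L), iota (x : PP) = A9Norm79.Model.el w → Θ x = C.E w
  cent : ∀ g : G, g * C.E wa = C.E wa * g → ∃ x, Θ x = g
  norm : ∀ g : G, g * C.E wa * g⁻¹ = (C.E wa)⁻¹ → ∃ x, Θ x = g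

variable {G : Type u} [Group G] (C : Cfg G)

/-- An element of the model of `N(J)`. -/
def hE (w : W) : A9Norm79.Model.H0 := ⟨A9Norm79.Model.el w, A9Norm79.Model.el_mem w⟩

theorem E_def (w : W) : C.E w = C.φ (hE w) := rfl

theorem E_eq_one {w : W} (h : A9Norm79.Model.el w = 1) : C.E w = 1 := by
  rw [E_def, show hE w = 1 from Subtype.ext h, map_one]

theorem E_rel {u v r : W} (h : A9Norm79.Model.el u * A9Norm79.Model.el v = A9Norm79.Model.el r) :
    C.E u * C.E v = C.E r := C.E_mul h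

theorem E_ne_one {w : W} (h : A9Norm79.Model.el w ≠ 1) : C.E w ≠ 1 := fun e =>
  h (congrArg Subtype.val (C.inj (e.trans (map_one C.φ).symm)))

theorem alt6_center : ∀ p : Six.P6, Perm.sign p = 1 →
    p * (swap 0 1 * swap 1 2) = swap 0 1 * swap 1 2 * p →
    p * (swap 1 2 * swap 2 3) = swap 1 2 * swap 2 3 * p →
    p * (swap 2 3 * swap 4 5) = swap 2 3 * swap 4 5 * p → p = 1 := by decide +kernel

variable [Finite G]

/-- The embedding exists. -/
theorem exists_th (B : Big C) : Nonempty (Th C) := by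
  classical
  obtain ⟨e⟩ := B.iso
  obtain ⟨rab, ra2, ra3, rau, ru4, rb3, ra33, r22, r33, rJJ, rb2, rb33, r23, rc3, rcb, rcb', rc1, rb1,
    rub, rJa, rJb, rJ2, rJ3, ra1⟩ := w_rels
  obtain ⟨la3, lc_eq, vla, vlb, vlc, vl2, ⟨i1, j1, k1', vl3⟩, ⟨i2, j2, k2', vlJ⟩⟩ := l_rels
  set A := C.E wa with hA
  have lift : ∀ {x y : A9Norm79.Model.H0}, (x : A9Norm79.Model.P9) = y → C.φ x = C.φ y := fun h => congrArg C.φ (Subtype.ext h)
  have hA3 : A ^ 3 = 1 := by
    rw [hA, C.E_pow_eq_one_iff, pow_succ, pow_two]; exact ra33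
  have hA1 : A ≠ 1 := E_ne_one C ra1
  -- `a` is outside `K`
  have hAK : ∀ i : ℕ, A ^ i ∈ B.K → A ^ i = 1 := by
    intro i hi
    have hcen : ∀ q : alternatingGroup (Fin 6), e ⟨A ^ i, hi⟩ * q = q * e ⟨A ^ i, hi⟩ := fun q => by
      rw [← e.apply_symm_apply q, ← map_mul, ← map_mul]
      exact congrArg e (Subtype.ext ((show Commute A (e.symm q : G) from B.comm _ (e.symm q).2).pow_left i).eq)
    have h1 : ((e ⟨A ^ i, hi⟩ : alternatingGroup (Fin 6)) : Six.P6) = 1 := by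
      refine alt6_center _ (Perm.mem_alternatingGroup.1 (e ⟨A ^ i, hi⟩).2) ?_ ?_ ?_ <;>
        exact congrArg Subtype.val (hcen ⟨_, Perm.mem_alternatingGroup.2 (by decide +kernel)⟩)
    have h2 : e ⟨A ^ i, hi⟩ = 1 := Subtype.ext h1
    exact congrArg Subtype.val ((map_eq_one_iff e e.injective).1 h2)
  have inK : ∀ (g : G) (n : ℕ), n.Coprime 3 → g ^ n = 1 → g * A = A * g → g ∈ B.K := by
    intro g n hn hgn hg
    obtain ⟨i, k, hk, rfl⟩ := B.decomp g hg
    have hcm : Commute (A ^ i) k := (show Commute A k from B.comm k hk).pow_left i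
    rw [hcm.mul_pow, ← pow_mul] at hgn
    have hm : A ^ (i * n) ∈ B.K := by
      rw [eq_inv_of_mul_eq_one_left hgn]; exact inv_mem (pow_mem hk _)
    have h3 : orderOf A = 3 := by
      haveI : Fact (Nat.Prime 3) := ⟨Nat.prime_three⟩
      exact orderOf_eq_prime hA3 hA1
    have h4 : 3 ∣ i * n := h3 ▸ orderOf_dvd_of_pow_eq_one (hAK _ hm)
    have h5 : A ^ i = 1 := by
      rw [← orderOf_dvd_iff_pow_eq_one, h3]
      exact hn.symm.dvd_of_dvd_mul_right h4
    rw [h5, one_mul]; exact hk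
  have m2 : C.E w2 ∈ B.K := inK _ 2 (by norm_num) (by rw [C.E_pow_eq_one_iff, pow_two]; exact r22)
    ((C.E_comm_iff _ _).2 ra2.symm)
  have m3 : C.E w3 ∈ B.K := inK _ 2 (by norm_num) (by rw [C.E_pow_eq_one_iff, pow_two]; exact r33)
    ((C.E_comm_iff _ _).2 ra3.symm)
  have mu : C.E wu ∈ B.K := inK _ 4 (by norm_num)
    (by rw [C.E_pow_eq_one_iff, show (4 : ℕ) = 2 + 2 from rfl, pow_add, pow_two]; exact ru4)
    ((C.E_comm_iff _ _).2 rau.symm)
  have hb2 : (C.E wb * C.E w2) ^ 2 = 1 := by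
    rw [pow_two, E_def, E_def, ← map_mul, ← map_mul, show hE wb * hE w2 * (hE wb * hE w2) = 1 from
      Subtype.ext rb2, map_one]
  have mb : C.E wb ∈ B.K := by
    have hc2 : C.E wb * C.E w2 * A = A * (C.E wb * C.E w2) :=
      ((show Commute A (C.E wb) from (C.E_comm_iff _ _).2 rab).mul_right
        (show Commute A (C.E w2) from (C.E_comm_iff _ _).2 ra2)).eq.symm
    have h := mul_mem (inK _ 2 (by norm_num) hb2 hc2) m2
    rwa [mul_assoc, show C.E w2 * C.E w2 = 1 by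
      rw [E_def, ← map_mul, show hE w2 * hE w2 = 1 from Subtype.ext r22, map_one], mul_one] at h
  -- the images in `A₆`
  set ι : B.K →* Six.P6 := (alternatingGroup (Fin 6)).subtype.comp e.toMonoidHom with hι
  have ιinj : Function.Injective ι := fun x y h => e.injective (Subtype.ext h)
  set b6 := ι ⟨_, mb⟩
  set x6 := ι ⟨_, m2⟩
  set z6 := ι ⟨_, m3⟩
  have sgn : ∀ k : B.K, Perm.sign (ι k) = 1 := fun k => Perm.mem_alternatingGroup.1 (e k).2
  have hcE : C.E w2 * C.E w3 = C.E wc := E_rel C r23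
  have mc : C.E wc ∈ B.K := hcE ▸ mul_mem m2 m3
  have hc6 : x6 * z6 = ι ⟨_, mc⟩ := by
    rw [← map_mul]; exact congrArg ι (Subtype.ext hcE)
  have one_of : ∀ {k : B.K}, (k : G) = 1 → ι k = 1 := fun h => by
    rw [show _ = (1 : B.K) from Subtype.ext h, map_one]
  have hgood : Six.Good b6 x6 z6 := by
    refine ⟨?_, ?_, ?_, ?_, ι ⟨_, mu⟩, sgn _, ?_⟩
    · rw [hc6, ← map_mul, ← map_mul]
      exact one_of (show C.E wc * C.E wc * C.E wc = 1 by
        rw [E_def, ← map_mul, ← map_mul, show hE wc * hE wc * hE wc = 1 from Subtype.ext rc3, map_one])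
    · rw [hc6]; exact fun h => rcb (congrArg Subtype.val (C.inj (congrArg Subtype.val (ιinj h))))
    · rw [hc6, ← map_inv]
      intro h
      have h1 : C.E wc * C.E wb = 1 := by
        rw [show C.E wc = (C.E wb)⁻¹ from congrArg Subtype.val (ιinj h), inv_mul_cancel]
      rw [E_def, E_def, ← map_mul] at h1
      exact rcb' (congrArg Subtype.val (C.inj (h1.trans (map_one C.φ).symm)))
    · rw [hc6]
      exact fun h => E_ne_one C rc1 (congrArg Subtype.val (ιinj (h.trans (map_one ι).symm)))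
    · rw [hc6, ← map_mul, ← map_mul]
      refine congrArg ι (Subtype.ext ?_)
      show C.E wu * C.E wb = C.E wc * C.E wu
      rw [E_def, E_def, E_def, ← map_mul, ← map_mul]
      exact lift rub
  have hb3 : b6 * b6 * b6 = 1 := by
    rw [← map_mul, ← map_mul]
    exact one_of (show C.E wb * C.E wb * C.E wb = 1 by
      rw [E_def, ← map_mul, ← map_mul, show hE wb * hE wb * hE wb = 1 from Subtype.ext rb3, map_one])
  have hsq : ∀ (w : W) (mw : C.E w ∈ B.K), A9Norm79.Model.el w * A9Norm79.Model.el w = 1 →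
      ι ⟨_, mw⟩ * ι ⟨_, mw⟩ = 1 := fun w mw h => by
    rw [← map_mul]
    exact one_of (show C.E w * C.E w = 1 by
      rw [E_def, ← map_mul, show hE w * hE w = 1 from Subtype.ext h, map_one])
  have hbx : ∀ (w : W) (mw : C.E w ∈ B.K),
      A9Norm79.Model.el wb * A9Norm79.Model.el w * (A9Norm79.Model.el wb * A9Norm79.Model.el w) = 1 →
      b6 * ι ⟨_, mw⟩ * (b6 * ι ⟨_, mw⟩) = 1 := fun w mw h => by
    rw [← map_mul, ← map_mul]
    exact one_of (show C.E wb * C.E w * (C.E wb * C.E w) = 1 by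
      rw [E_def, E_def, ← map_mul, ← map_mul, show hE wb * hE w * (hE wb * hE w) = 1 from Subtype.ext h,
        map_one])
  obtain ⟨y6, ⟨sy, fy⟩, huniq⟩ := Six.existsUnique_fit b6 x6 z6 (sgn _) hb3
    (fun h => E_ne_one C rb1 (congrArg Subtype.val (ιinj (h.trans (map_one ι).symm))))
    (sgn _) (hsq _ m2 r22) (hbx _ m2 rb2) (sgn _) (hsq _ m3 r33) (hbx _ m3 rb33) hgood
  set Y : B.K := e.symm ⟨y6, Perm.mem_alternatingGroup.2 sy⟩ with hY
  have ιY : ι Y = y6 := by rw [hι, hY]; simp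
  -- the homomorphism on `A₆`
  obtain ⟨f1, f2, f3, f4⟩ := fy
  set X : Fin 4 → B.K := ![⟨_, mb⟩, Y, ⟨_, m2⟩, ⟨_, m3⟩] with hX
  have pullback : ∀ {k : B.K}, ι k = 1 → k = 1 := fun h => ιinj (h.trans (map_one ι).symm)
  obtain ⟨θK, hθK⟩ := Moore.exists_hom (k := 4) X (fun i hi => by
      obtain rfl : i = 0 := Fin.ext hi
      refine pullback ?_
      rw [map_pow, pow_succ, pow_two]
      exact hb3)
    (fun i hi => by
      refine pullback ?_
      rw [map_pow, pow_two]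
      fin_cases i
      · simp at hi
      · show ι Y * ι Y = 1; rw [ιY]; exact f1
      · exact hsq _ m2 r22
      · exact hsq _ m3 r33)
    (fun i j hij => by
      refine pullback ?_
      rw [map_pow, map_mul, pow_succ, pow_two]
      fin_cases i <;> fin_cases j <;> simp at hij
      · show b6 * ι Y * (b6 * ι Y) * (b6 * ι Y) = 1; rw [ιY]; exact f2
      · show ι Y * x6 * (ι Y * x6) * (ι Y * x6) = 1; rw [ιY]; exact f3
      · exact hgood.1)
    (fun i j hij => by
      refine pullback ?_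
      rw [map_pow, map_mul, pow_two]
      fin_cases i <;> fin_cases j <;> simp at hij
      · exact hbx _ m2 rb2
      · exact hbx _ m3 rb33
      · show ι Y * z6 * (ι Y * z6) = 1; rw [ιY]; exact f4)
  set θ : alternatingGroup (Fin 6) →* G := B.K.subtype.comp θK with hθ
  have θgen : ∀ (i : Fin 4), θ (Moore.gen i) = (X i : G) := fun i =>
    congrArg Subtype.val (hθK i _ (Moore.gen_val i))
  have θinjK : Function.Injective θK := by
    refine Moore.injective_of_ne (by norm_num) (p := Moore.gen (0 : Fin 4)) ?_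
    rw [hθK 0 _ (Moore.gen_val 0)]
    exact fun h => E_ne_one C rb1 (congrArg Subtype.val h)
  have θsurj : Function.Surjective θK := by
    refine ((Nat.bijective_iff_injective_and_card θK).2 ⟨θinjK, ?_⟩).2
    rw [Nat.card_congr e.toEquiv]
  have θK_mem : ∀ q, θ q ∈ B.K := fun q => (θK q).2
  -- the homomorphism on `A₃`
  obtain ⟨α, hα⟩ := Moore.exists_hom (k := 1) (fun _ => A) (fun _ _ => hA3)
    (fun i hi => by omega) (fun i j hij => by omega) (fun i j hij => by omega)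
  have α_gen : α (Moore.gen 0) = A := hα 0 _ (Moore.gen_val 0)
  have α_pow : ∀ p, ∃ n : ℕ, α p = A ^ n := by
    intro p
    have hgen : ∀ p : alternatingGroup (Fin 3), ∃ n : Fin 3,
        p = (⟨swap 0 1 * swap 1 2, Perm.mem_alternatingGroup.2 (by decide +kernel)⟩ :
          alternatingGroup (Fin 3)) ^ (n : ℕ) := by decide +kernel
    obtain ⟨n, hn⟩ := hgen p
    exact ⟨n, by rw [hn, map_pow, hα 0 _ (by decide +kernel)]⟩
  have hcomm : ∀ p q, Commute (α p) (θ q) := fun p q => by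
    obtain ⟨n, hn⟩ := α_pow p
    rw [hn]
    exact (show Commute A (θ q) from B.comm _ (θK_mem q)).pow_left n
  -- the action of `(0 1)(3 4)`
  set JJ := C.E wJ with hJJ
  have hJ2 : JJ * JJ = 1 := by
    rw [hJJ, E_def, ← map_mul, show hE wJ * hE wJ = 1 from Subtype.ext rJJ, map_one]
  have hJi : JJ⁻¹ = JJ := inv_eq_of_mul_eq_one_right hJ2
  have hJA : JJ * A = A * A * JJ := by
    rw [hA, hJJ, E_def, E_def, ← map_mul, ← map_mul, ← map_mul]; exact lift rJa
  have hJc : ∀ g : G, g * A = A * g → JJ * g * JJ * A = A * (JJ * g * JJ) := by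
    intro g hg
    have hAJ : JJ * A * JJ = A * A := by rw [hJA, mul_assoc, hJ2, mul_one]
    have hAJ' : JJ * (A * A) * JJ = A := by
      calc JJ * (A * A) * JJ = (JJ * A * JJ) * (JJ * A * JJ) := by
            simp only [mul_assoc]; rw [← mul_assoc JJ JJ, hJ2, one_mul]
        _ = A * A * (A * A) := by rw [hAJ]
        _ = A ^ 3 * A := by simp [pow_succ, mul_assoc]
        _ = A := by rw [hA3, one_mul]
    have hgAA : g * (A * A) = A * A * g := ((show Commute g A from hg).mul_right hg).eq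
    calc JJ * g * JJ * A = JJ * g * JJ * (JJ * (A * A) * JJ) := by rw [hAJ']
      _ = JJ * (g * (A * A)) * JJ := by
          simp only [mul_assoc]; rw [← mul_assoc JJ JJ, hJ2, one_mul]
      _ = JJ * (A * A * g) * JJ := by rw [hgAA]
      _ = JJ * (A * A) * JJ * (JJ * g * JJ) := by
          simp only [mul_assoc]; rw [← mul_assoc JJ JJ (g * JJ), hJ2, one_mul]
      _ = A * (JJ * g * JJ) := by rw [hAJ']
  have hJK : ∀ k ∈ B.K, JJ * k * JJ ∈ B.K := by
    intro k hk
    -- `K` is generated by involutions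
    obtain ⟨q, hq⟩ := θsurj ⟨k, hk⟩
    obtain ⟨q1, q2, h1, h2, rfl⟩ : ∃ q1 q2 : alternatingGroup (Fin 6),
        q1 ^ 4 = 1 ∧ q2 ^ 4 = 1 ∧ q = q1 * q2 := by
      have key : ∀ p : Six.P6, Perm.sign p = 1 → ∃ p1 : Six.P6, Perm.sign p1 = 1 ∧
          p1 ^ 4 = 1 ∧ (p1⁻¹ * p) ^ 4 = 1 := by decide +kernel
      obtain ⟨p1, s1, h1, h2⟩ := key q (Perm.mem_alternatingGroup.1 q.2)
      exact ⟨⟨p1, Perm.mem_alternatingGroup.2 s1⟩, ⟨p1, Perm.mem_alternatingGroup.2 s1⟩⁻¹ * q,
        Subtype.ext (by simpa using h1), Subtype.ext (by simpa using h2), (mul_inv_cancel_left _ _).symm⟩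
    have hk' : k = θ q1 * θ q2 := by
      rw [← map_mul]; exact (congrArg Subtype.val hq).symm
    have hmem : ∀ q : alternatingGroup (Fin 6), q ^ 4 = 1 → JJ * θ q * JJ ∈ B.K := fun q h => by
      refine inK _ 4 (by norm_num) ?_ (hJc _ (B.comm _ (θK_mem q)).symm)
      have := map_pow (MulAut.conj JJ) (θ q) 4
      rw [← map_pow, h, map_one, map_one, MulAut.conj_apply, hJi] at this
      exact this.symm
    rw [hk', show JJ * (θ q1 * θ q2) * JJ = (JJ * θ q1 * JJ) * (JJ * θ q2 * JJ) by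
      simp only [mul_assoc]; rw [← mul_assoc JJ JJ, hJ2, one_mul]]
    exact mul_mem (hmem _ h1) (hmem _ h2)
  have hJw : ∀ w, A9Norm79.Model.el wJ * A9Norm79.Model.el w =
      A9Norm79.Model.el w * A9Norm79.Model.el wJ → JJ * C.E w * JJ = C.E w := fun w h => by
    rw [show JJ * C.E w = C.E w * JJ from (C.E_comm_iff _ _).2 h, mul_assoc, hJ2, mul_one]
  have hJb : JJ * C.E wb * JJ = C.E wb * C.E wb := by
    have : JJ * C.E wb = C.E wb * C.E wb * JJ := by
      rw [hJJ, E_def, E_def, ← map_mul, ← map_mul, ← map_mul]; exact lift rJb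
    rw [this, mul_assoc, hJ2, mul_one]
  -- conjugation by `(0 1)(3 4)` as an endomorphism of `K`
  let cJ : B.K →* B.K := MonoidHom.mk' (fun k => ⟨JJ * k * JJ, hJK k k.2⟩) (fun k l => Subtype.ext (by
    show JJ * ((k : G) * l) * JJ = JJ * k * JJ * (JJ * l * JJ)
    simp only [mul_assoc]; rw [← mul_assoc JJ JJ, hJ2, one_mul]))
  have hJY : cJ Y = Y := by
    refine ιinj (Eq.trans (huniq _ ⟨sgn _, ?_⟩) ιY.symm)
    have cJx : cJ ⟨_, m2⟩ = ⟨_, m2⟩ := Subtype.ext (hJw _ rJ2)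
    have cJz : cJ ⟨_, m3⟩ = ⟨_, m3⟩ := Subtype.ext (hJw _ rJ3)
    have cJb : cJ ⟨_, mb⟩ = ⟨_, mb⟩ * ⟨_, mb⟩ := Subtype.ext hJb
    have kY : ∀ {k : B.K}, ι k = 1 → ι (cJ k) = 1 := fun h => by rw [pullback h, map_one, map_one]
    refine ⟨?_, ?_, ?_, ?_⟩
    · have := kY (k := Y * Y) (by rw [map_mul, ιY]; exact f1)
      rwa [map_mul, map_mul] at this
    · have h1 := kY (k := ⟨_, mb⟩ * Y * (⟨_, mb⟩ * Y) * (⟨_, mb⟩ * Y))
        (by simp only [map_mul, ιY]; exact f2)
      simp only [map_mul, cJb] at h1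
      -- `(b⁻¹ w)³ = 1` for an involution `w` gives `(b w)³ = 1`
      set w := ι (cJ Y)
      have hw : w * w = 1 := by
        have := kY (k := Y * Y) (by rw [map_mul, ιY]; exact f1)
        rwa [map_mul, map_mul] at this
      have hbi : b6⁻¹ = b6 * b6 := inv_eq_of_mul_eq_one_right (by rw [← mul_assoc]; exact hb3)
      rw [← hbi] at h1
      have h2 := congrArg (fun t => (w⁻¹ * t * w)⁻¹) h1
      simp only [mul_inv_rev, inv_inv, mul_one, inv_mul_cancel, inv_one, mul_assoc, inv_eq_of_mul_eq_one_right hw] at h2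
      simp only [← mul_assoc] at h2 ⊢
      rw [hw, one_mul] at h2
      exact h2
    · have := kY (k := Y * ⟨_, m2⟩ * (Y * ⟨_, m2⟩) * (Y * ⟨_, m2⟩))
        (by simp only [map_mul, ιY]; exact f3)
      simpa only [map_mul, cJx] using this
    · have := kY (k := Y * ⟨_, m3⟩ * (Y * ⟨_, m3⟩)) (by simp only [map_mul, ιY]; exact f4)
      simpa only [map_mul, cJz] using this
  have hθJ : ∀ q, JJ * θ q = θ (tw6 q) * JJ := by
    let t6 : alternatingGroup (Fin 6) →* alternatingGroup (Fin 6) := MonoidHom.mk' tw6 fun p q =>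
      Subtype.ext (by
        show s6 * ((p : Perm (Fin 6)) * q) * s6 = s6 * p * s6 * (s6 * q * s6)
        simp only [mul_assoc]; rw [← mul_assoc s6 s6, s_facts.2.1, one_mul])
    have key : cJ.comp θK = θK.comp t6 := by
      refine Moore.hom_ext fun i => ?_
      show cJ (θK (Moore.gen i)) = θK (tw6 (Moore.gen i))
      have hfix : ∀ i : Fin 4, i ≠ 0 → tw6 (Moore.gen i) = Moore.gen i := fun i hi => Subtype.ext (by
        show s6 * (Moore.gen i : Perm (Fin 6)) * s6 = _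
        rw [Moore.gen_val]; revert i hi; decide +kernel)
      rw [hθK i _ (Moore.gen_val i)]
      obtain rfl | rfl | rfl | rfl : i = 0 ∨ i = 1 ∨ i = 2 ∨ i = 3 := by revert i; decide
      · rw [show tw6 (Moore.gen (0 : Fin 4)) = Moore.gen 0 * Moore.gen 0 from Subtype.ext (by
          show s6 * (Moore.gen (0 : Fin 4) : Perm (Fin 6)) * s6 = _
          rw [Subgroup.coe_mul, Moore.gen_val]; decide +kernel)]
        show cJ ⟨_, mb⟩ = θK (Moore.gen 0 * Moore.gen 0)
        rw [map_mul, hθK 0 _ (Moore.gen_val 0)]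
        exact Subtype.ext hJb
      · show cJ Y = θK (tw6 (Moore.gen 1))
        rw [hfix 1 (by decide), hθK 1 _ (Moore.gen_val 1), hJY]; rfl
      · show cJ ⟨_, m2⟩ = θK (tw6 (Moore.gen 2))
        rw [hfix 2 (by decide), hθK 2 _ (Moore.gen_val 2)]; exact Subtype.ext (hJw _ rJ2)
      · show cJ ⟨_, m3⟩ = θK (tw6 (Moore.gen 3))
        rw [hfix 3 (by decide), hθK 3 _ (Moore.gen_val 3)]; exact Subtype.ext (hJw _ rJ3)
    intro q
    have h1 : JJ * θ q * JJ = θ (tw6 q) := congrArg Subtype.val (DFunLike.congr_fun key q)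
    rw [← h1, mul_assoc, hJ2, mul_one]
  have hαJ : ∀ p, JJ * α p = α (tw3 p) * JJ := by
    intro p
    obtain ⟨n, hn⟩ : ∃ n : Fin 3, p = (⟨swap 0 1 * swap 1 2, Perm.mem_alternatingGroup.2 (by decide +kernel)⟩ :
        alternatingGroup (Fin 3)) ^ (n : ℕ) :=
      (by decide +kernel : ∀ p : alternatingGroup (Fin 3), ∃ n : Fin 3,
        p = (⟨swap 0 1 * swap 1 2, Perm.mem_alternatingGroup.2 (by decide +kernel)⟩ :
          alternatingGroup (Fin 3)) ^ (n : ℕ)) p
    set g0 : alternatingGroup (Fin 3) := ⟨swap 0 1 * swap 1 2, Perm.mem_alternatingGroup.2 (by decide +kernel)⟩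
    have ht : tw3 p = g0 ^ (2 * (n : ℕ)) := by
      rw [hn]; exact (by decide +kernel : ∀ n : Fin 3, tw3 (g0 ^ (n : ℕ)) = g0 ^ (2 * (n : ℕ))) n
    rw [ht, hn, map_pow, map_pow, hα 0 g0 (by decide +kernel), pow_mul, pow_two]
    exact (show SemiconjBy JJ A (A * A) from hJA).pow_right n
  obtain ⟨Θ, hΘJ, hΘ⟩ := exists_glue hcomm hJ2 hαJ hθJ
  -- values
  have va : Θ la = A := by
    rw [hΘ la ⟨swap 0 1 * swap 1 2, Perm.mem_alternatingGroup.2 (by decide +kernel)⟩ 1 rfl, map_one, mul_one,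
      hα 0 _ (by decide +kernel)]
  have v6 : ∀ (x : L) (i : Fin 4), (x : PP) = (1, Cfsg.Agent.Lib.Spectrum.CoxeterAlt.altGen i) → Θ x = (X i : G) := fun x i hx => by
    rw [hΘ x 1 (Moore.gen i) (by rw [hx, Moore.gen_val]; rfl), map_one, one_mul, θgen]
  have vb : Θ lb = C.E wb := v6 lb 0 (by decide +kernel)
  have v2 : Θ l2 = C.E w2 := v6 l2 2 (by decide +kernel)
  have v3 : Θ l3 = C.E w3 := v6 l3 3 (by decide +kernel)
  have vc : Θ lc = C.E wc := by rw [lc_eq, map_mul, v2, v3, hcE]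
  obtain ⟨ia, ib, ic, i2', i3', iJ, iv⟩ := iota_vals
  -- injectivity
  have hrange : ∀ g : G, g * A = A * g → ∃ x : L, (x : PP).2 ∈ alternatingGroup (Fin 6) ∧ Θ x = g := by
    intro g hg
    obtain ⟨i, k, hk, rfl⟩ := B.decomp g hg
    obtain ⟨q, hq⟩ := θsurj ⟨k, hk⟩
    have hsq : ((1, (q : Perm (Fin 6))) : PP) ∈ parity.ker := by
      refine MonoidHom.mem_ker.2 ?_
      simp [parity, Perm.mem_alternatingGroup.1 q.2]
    refine ⟨la ^ i * ⟨(1, (q : Perm (Fin 6))), hsq⟩, ?_, ?_⟩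
    · rw [Subgroup.coe_mul, Prod.snd_mul, SubmonoidClass.coe_pow, Prod.pow_snd,
        show (la : PP).2 = 1 from rfl, one_pow, one_mul]
      exact q.2
    · rw [map_mul, map_pow, va, hΘ _ 1 q rfl, map_one, one_mul]
      exact congrArg (A ^ i * ·) (congrArg Subtype.val hq)
  have hinj : Function.Injective Θ := by
    rw [injective_iff_map_eq_one]
    intro x hx
    rcases Int.units_eq_one_or (Perm.sign (x : PP).2) with hs | hs
    · set p : alternatingGroup (Fin 3) := ⟨(x : PP).1, Perm.mem_alternatingGroup.2 ((sign_eq x).trans hs)⟩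
      set q : alternatingGroup (Fin 6) := ⟨(x : PP).2, Perm.mem_alternatingGroup.2 hs⟩
      rw [hΘ x p q rfl] at hx
      obtain ⟨n, hn⟩ := α_pow p
      rw [hn] at hx
      have hAn : A ^ n = 1 := hAK n (by rw [eq_inv_of_mul_eq_one_left hx]; exact inv_mem (θK_mem q))
      rw [hAn, one_mul] at hx
      have hq : q = 1 := θinjK ((Subtype.ext hx : θK q = 1).trans (map_one θK).symm)
      have hp : p = 1 := by
        obtain ⟨m, hm⟩ := (by decide +kernel : ∀ p : alternatingGroup (Fin 3), ∃ n : Fin 3,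
          p = (⟨swap 0 1 * swap 1 2, Perm.mem_alternatingGroup.2 (by decide +kernel)⟩ :
            alternatingGroup (Fin 3)) ^ (n : ℕ)) p
        have h1 : α p = 1 := by rw [hn, hAn]
        rw [hm, map_pow, hα 0 _ (by decide +kernel)] at h1
        haveI : Fact (Nat.Prime 3) := ⟨Nat.prime_three⟩
        have h3 := orderOf_dvd_of_pow_eq_one h1
        rw [orderOf_eq_prime hA3 hA1] at h3
        rw [hm, show (m : ℕ) = 0 by have := m.isLt; omega, pow_zero]
      exact Subtype.ext (Prod.ext (congrArg Subtype.val hp) (congrArg Subtype.val hq))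
    · exfalso
      have hg : Θ x * A = A * Θ x := by rw [hx, one_mul, mul_one]
      have e1 : x * la = la * la * x := by
        have key : ∀ p : Perm (Fin 3), Perm.sign p = -1 →
            p * (swap 0 1 * swap 1 2) = swap 0 1 * swap 1 2 * (swap 0 1 * swap 1 2) * p := by decide +kernel
        refine Subtype.ext (Prod.ext (key _ ((sign_eq x).trans hs)) ?_)
        show (x : PP).2 * 1 = 1 * 1 * (x : PP).2
        rw [mul_one, one_mul, one_mul]
      have e2 := congrArg Θ e1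
      rw [map_mul, map_mul, map_mul, va, hx, one_mul, mul_one] at e2
      exact hA1 (mul_left_cancel (a := A) (by rw [mul_one]; exact e2.symm))
  -- agreement
  have vJ : Θ lJ = JJ := hΘJ
  have cJabc : ∀ g ∈ C.J, ∀ k : L, k ∈ ({la, lb, lc} : Set L) → g * Θ k = Θ k * g := by
    rintro g hg k (rfl | rfl | rfl)
    · rw [va]; exact C.J_comm hg (C.j_mem _)
    · rw [vb]; exact C.J_comm hg (C.j_mem _)
    · rw [vc]; exact C.J_comm hg (C.j_mem _)
  have agree_of : ∀ (w : W) (x : L), Θ x = C.E w → iota (x : PP) = A9Norm79.Model.el w →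
      ∀ (w' : W) (x' : L), Θ x' = C.E w' → iota (x' : PP) = A9Norm79.Model.el w' →
      ∃ w'', Θ (x * x') = C.E w'' ∧ iota ((x * x' : L) : PP) = A9Norm79.Model.el w'' := by
    intro w x h1 h2 w' x' h1' h2'
    obtain ⟨w'', hw''⟩ := A9Norm79.Model.exists_el (mul_mem (A9Norm79.Model.el_mem w) (A9Norm79.Model.el_mem w'))
    exact ⟨w'', by rw [map_mul, h1, h1', C.E_mul hw''.symm], by rw [Subgroup.coe_mul, map_mul, h2, h2', hw'']⟩
  -- the element exchanging the last two blocks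
  have vv : Θ lv = C.E wv := by
    obtain ⟨c1, hc1, hc1'⟩ := agree_of _ _ va ia _ _ vb ib
    have hJk : ∀ (i j k : ℕ), ∃ w, Θ (la ^ i * lb ^ j * lc ^ k) = C.E w ∧
        iota ((la ^ i * lb ^ j * lc ^ k : L) : PP) = A9Norm79.Model.el w := by
      have hpow : ∀ (w : W) (x : L), Θ x = C.E w → iota (x : PP) = A9Norm79.Model.el w →
          ∀ n : ℕ, ∃ w', Θ (x ^ n) = C.E w' ∧ iota ((x ^ n : L) : PP) = A9Norm79.Model.el w' := by
        intro w x h1 h2 n
        induction n with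
        | zero =>
          refine ⟨((0, 0, 0), (0, 0)), ?_, ?_⟩
          · rw [pow_zero, map_one, E_eq_one C (by decide +kernel)]
          · rw [pow_zero, Subgroup.coe_one, map_one]; decide +kernel
        | succ n ih =>
          obtain ⟨w', h1', h2'⟩ := ih
          rw [pow_succ]
          exact agree_of _ _ h1' h2' _ _ h1 h2
      intro i j k
      obtain ⟨u1, p1, q1⟩ := hpow _ _ va ia i
      obtain ⟨u2, p2, q2⟩ := hpow _ _ vb ib j
      obtain ⟨u3, p3, q3⟩ := hpow _ _ vc ic k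
      obtain ⟨u4, p4, q4⟩ := agree_of _ _ p1 q1 _ _ p2 q2
      exact agree_of _ _ p4 q4 _ _ p3 q3
    -- conjugation by `lv` agrees with conjugation by `E wv` on the generators
    have hconj : ∀ (w w' : W) (x x' : L), Θ x = C.E w → iota (x : PP) = A9Norm79.Model.el w →
        Θ x' = C.E w' → iota (x' : PP) = A9Norm79.Model.el w' → lv * x = x' * lv →
        C.E wv * C.E w = C.E w' * C.E wv ∧ Θ lv * C.E w = C.E w' * Θ lv := by
      intro w w' x x' h1 h2 h1' h2' hx
      refine ⟨?_, by rw [← h1, ← h1', ← map_mul, ← map_mul, hx]⟩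
      rw [E_def, E_def, E_def, ← map_mul, ← map_mul]
      refine lift ?_
      show A9Norm79.Model.el wv * A9Norm79.Model.el w = A9Norm79.Model.el w' * A9Norm79.Model.el wv
      rw [← h2, ← h2', ← iv, ← map_mul, ← map_mul, ← Subgroup.coe_mul, ← Subgroup.coe_mul, hx]
    set g := (Θ lv)⁻¹ * C.E wv with hg
    have hgc : ∀ (w w' : W) (x x' : L), Θ x = C.E w → iota (x : PP) = A9Norm79.Model.el w →
        Θ x' = C.E w' → iota (x' : PP) = A9Norm79.Model.el w' → lv * x = x' * lv →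
        g * C.E w = C.E w * g := by
      intro w w' x x' h1 h2 h1' h2' hx
      obtain ⟨e1, e2⟩ := hconj w w' x x' h1 h2 h1' h2' hx
      rw [hg, mul_assoc, e1]
      calc (Θ lv)⁻¹ * (C.E w' * C.E wv) = (Θ lv)⁻¹ * (C.E w' * Θ lv) * (Θ lv)⁻¹ * C.E wv := by group
        _ = (Θ lv)⁻¹ * (Θ lv * C.E w) * (Θ lv)⁻¹ * C.E wv := by rw [e2]
        _ = _ := by group
    obtain ⟨ua, pa, qa⟩ := agree_of _ _ va ia _ _ va ia
    have gA := hgc _ _ la (la * la) va ia pa qa vla
    have gB := hgc _ _ lb lc vb ib vc ic vlb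
    have gC := hgc _ _ lc lb vc ic vb ib vlc
    have gJ : g ∈ C.J := by
      rw [← C.centralizer_J, Subgroup.mem_centralizer_iff]
      intro y hy
      obtain ⟨i, rfl⟩ := C.exists_j hy
      obtain ⟨w, hw1, hw2⟩ := hJk i.1 i.2.1 i.2.2
      have hwi : C.E w = C.j i := congrArg C.φ (Subtype.ext (show A9Norm79.Model.el w = A9Norm79.Model.el (i, (0, 0)) by
        rw [← hw2, jel_word, A9Norm79.Model.el_base]))
      rw [← hwi, ← hw1, map_mul, map_mul, map_pow, map_pow, map_pow, va, vb, vc]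
      exact (((show Commute g A from gA).pow_right _).mul_right
        ((show Commute g _ from gB).pow_right _) |>.mul_right ((show Commute g _ from gC).pow_right _)).eq.symm
    have g2 : g * C.E w2 = C.E w2 * g := hgc _ _ l2 l2 v2 i2' v2 i2' vl2
    have g3 : g * C.E wJ = C.E wJ * g := by
      obtain ⟨u4, p4, q4⟩ := hJk i2 j2 k2'
      obtain ⟨u5, p5, q5⟩ := agree_of _ _ p4 q4 _ _ vJ iJ
      obtain ⟨u6, p6, q6⟩ := agree_of _ _ p5 q5 _ _ v3 i3'
      exact hgc _ _ lJ _ vJ iJ p6 q6 vlJ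
    obtain ⟨i, hi⟩ := C.exists_j gJ
    rw [← hi] at g2 g3
    have hc : ∀ w, C.j i * C.E w = C.E w * C.j i → A9Norm79.Model.jel i * A9Norm79.Model.el w =
        A9Norm79.Model.el w * A9Norm79.Model.jel i := fun w h => by
      have := (C.E_comm_iff _ _).1 h
      rwa [A9Norm79.Model.el_base] at this
    have hi0 := J3_center i (hc _ g2) (hc _ g3)
    have hg1 : g = 1 := by
      rw [← hi, hi0]
      exact E_eq_one C (by decide +kernel)
    exact inv_mul_eq_one.1 hg1
  refine ⟨⟨Θ, hinj, ?_, fun g hg => let ⟨x, _, hx⟩ := hrange g hg; ⟨x, hx⟩, fun g hg => ?_⟩⟩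
  · intro w x hx
    -- split off the monomial part
    rcases mel_word w.2 with ⟨i, hi⟩ | ⟨b, hb⟩
    · exfalso
      set wx : L := la ^ (w.1.1 : ℕ) * lb ^ (w.1.2.1 : ℕ) * lc ^ (w.1.2.2 : ℕ) with hwx
      have h1 : iota (((wx⁻¹ * x : L)) : PP) = A9Norm79.Model.mel w.2 := by
        rw [Subgroup.coe_mul, Subgroup.coe_inv, map_mul, map_inv, hwx, jel_word, hx, A9Norm79.Model.el,
          inv_mul_cancel_left]
      have h2 := iota_stab (wx⁻¹ * x) i
      rw [h1] at h2
      omega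
    have hword : ∀ d b, ∃ w', Θ (melWord d b) = C.E w' ∧ iota ((melWord d b : L) : PP) = A9Norm79.Model.el w' := by
      have t1 : ∀ {x1 x2 : L}, (∃ w', Θ x1 = C.E w' ∧ iota (x1 : PP) = A9Norm79.Model.el w') →
          (∃ w', Θ x2 = C.E w' ∧ iota (x2 : PP) = A9Norm79.Model.el w') →
          ∃ w', Θ (x1 * x2) = C.E w' ∧ iota ((x1 * x2 : L) : PP) = A9Norm79.Model.el w' :=
        fun ⟨_, a1, a2⟩ ⟨_, b1, b2⟩ => agree_of _ _ a1 a2 _ _ b1 b2
      have e0 : ∃ w', Θ (1 : L) = C.E w' ∧ iota ((1 : L) : PP) = A9Norm79.Model.el w' :=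
        ⟨((0, 0, 0), (0, 0)), by rw [map_one, E_eq_one C (by decide +kernel)],
          by rw [Subgroup.coe_one, map_one]; decide +kernel⟩
      intro d b
      fin_cases d <;> cases b
      exacts [e0, t1 ⟨_, vv, iv⟩ ⟨_, va, ia⟩, t1 ⟨_, v3, i3'⟩ ⟨_, vb, ib⟩,
        t1 (t1 (t1 ⟨_, v3, i3'⟩ ⟨_, vb, ib⟩) ⟨_, vv, iv⟩) ⟨_, va, ia⟩,
        t1 (t1 ⟨_, v3, i3'⟩ ⟨_, vJ, iJ⟩) ⟨_, va, ia⟩, t1 (t1 ⟨_, v3, i3'⟩ ⟨_, vJ, iJ⟩) ⟨_, vv, iv⟩,
        t1 (t1 ⟨_, vJ, iJ⟩ ⟨_, va, ia⟩) ⟨_, vb, ib⟩, t1 (t1 ⟨_, vJ, iJ⟩ ⟨_, vb, ib⟩) ⟨_, vv, iv⟩]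
    obtain ⟨u1, p1, q1⟩ := hword w.2.1 b
    have hpow : ∀ (w0 : W) (x0 : L), Θ x0 = C.E w0 → iota (x0 : PP) = A9Norm79.Model.el w0 →
        ∀ n : ℕ, ∃ w', Θ (x0 ^ n) = C.E w' ∧ iota ((x0 ^ n : L) : PP) = A9Norm79.Model.el w' := by
      intro w0 x0 h1 h2 n
      induction n with
      | zero =>
        refine ⟨((0, 0, 0), (0, 0)), by rw [pow_zero, map_one, E_eq_one C (by decide +kernel)], ?_⟩
        rw [pow_zero, Subgroup.coe_one, map_one]; decide +kernel
      | succ n ih =>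
        obtain ⟨w', h1', h2'⟩ := ih
        rw [pow_succ]
        exact agree_of _ _ h1' h2' _ _ h1 h2
    obtain ⟨u2, p2, q2⟩ := hpow _ _ va ia w.1.1
    obtain ⟨u3, p3, q3⟩ := hpow _ _ vb ib w.1.2.1
    obtain ⟨u4, p4, q4⟩ := hpow _ _ vc ic w.1.2.2
    obtain ⟨u5, p5, q5⟩ := agree_of _ _ p2 q2 _ _ p3 q3
    obtain ⟨u6, p6, q6⟩ := agree_of _ _ p5 q5 _ _ p4 q4
    obtain ⟨u7, p7, q7⟩ := agree_of _ _ p6 q6 _ _ p1 q1
    have hxe : x = la ^ (w.1.1 : ℕ) * lb ^ (w.1.2.1 : ℕ) * lc ^ (w.1.2.2 : ℕ) * melWord w.2.1 b := by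
      refine Subtype.ext (iota_injective ?_)
      rw [hx, Subgroup.coe_mul, map_mul, jel_word, hb]
      rfl
    rw [hxe, p7]
    refine congrArg C.φ (Subtype.ext ?_)
    show A9Norm79.Model.el u7 = A9Norm79.Model.el w
    rw [← q7, ← hxe, hx]
  · have h1 : g * JJ * A = A * (g * JJ) := by
      have hAA : A * A = A⁻¹ := (inv_eq_of_mul_eq_one_left (by
        calc A * A * A = A ^ 3 := by simp [pow_succ, mul_assoc]
          _ = 1 := hA3)).symm
      rw [mul_assoc, hJA, hAA, ← mul_assoc]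
      have h2 : g * A⁻¹ = A * g := by
        have := congrArg Inv.inv hg
        rw [mul_inv_rev, mul_inv_rev, inv_inv, inv_inv, ← mul_assoc] at this
        exact mul_inv_eq_iff_eq_mul.1 this
      rw [h2, mul_assoc]
    obtain ⟨x, -, hx⟩ := hrange _ h1
    refine ⟨x * lJ, ?_⟩
    rw [map_mul, hx, vJ, mul_assoc, hJ2, mul_one]

end Cfsg.Agent.Lib.A9Local22
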